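import Mathlib
import Cfsg.Agent.Lib.ThreeTrans.Tower.PairStep
import Cfsg.Agent.Lib.ThreeTrans.Tower.Types

/-! Maps between the sets of members commuting with base members which preserve conjugation and relations:
descent to the quotient at a member, and how traces of members correspond. -/

set_option autoImplicit false
set_option linter.unusedSectionVars false

namespace CfsgLib.ThreeTrans.Uniq

open CfsgLib.ThreeTrans CfsgLib.ThreeTrans.Tower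

variable {G₁ G₂ : Type*} [Group G₁] [Group G₂]

/-- A map of the members commuting with `d₁` onto those commuting with `d₂`, respecting conjugation and
relations of length `k`. -/
structure Match (D₁ : Set G₁) (d₁ : G₁) (D₂ : Set G₂) (d₂ : G₂) (k : ℕ) (f : G₁ → G₂) : Prop where
  closed₁ : ConjClosed D₁
  closed₂ : ConjClosed D₂
  mem₁ : d₁ ∈ D₁
  mem₂ : d₂ ∈ D₂
  base : f d₁ = d₂
  bij : Set.BijOn f (Dd D₁ d₁) (Dd D₂ d₂)
  conj : ∀ a ∈ Dd D₁ d₁, ∀ b ∈ Dd D₁ d₁, f (a * b * a) = f a * f b * f a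
  rel : ∀ l : List G₁, l.Nodup → l.length = k → (∀ x ∈ l, x ∈ insert d₁ (Dd D₁ d₁)) →
    (∀ x ∈ l, ∀ y ∈ l, Commute x y) → (l.prod = 1 ↔ (l.map f).prod = 1)

theorem phi_prod {G Y : Type*} [Group G] [Group Y] {D : Set G} {a : G} {π : Hd D a →* Y} :
    ∀ l : List G, (∀ x ∈ l, x ∈ Dd D a) →
      ∃ h : Hd D a, (h : G) = l.prod ∧ π h = (l.map (phi π)).prod
  | [], _ => ⟨1, rfl, map_one π⟩
  | x :: t, hm => by
    obtain ⟨h, hh, hπ⟩ := phi_prod (π := π) t fun y hy => hm y (List.mem_cons_of_mem _ hy)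
    have hx := hm x (by simp)
    refine ⟨⟨x, Subgroup.subset_closure hx⟩ * h, by rw [Subgroup.coe_mul, hh, List.prod_cons], ?_⟩
    rw [map_mul, hπ, List.map_cons, List.prod_cons, ← phi_of_mem π (x := ⟨x, Subgroup.subset_closure hx⟩) hx]

/-- A member and its conjugate by the base have the same trace. -/
theorem commute_swap_iff {G : Type*} [Group G] {D : Set G} (hs : Cfsg.IsThreeTranspositionSet D) {d u y : G}
    (hd : d ∈ D) (hu : Commute d u) : Commute (d * y * d) u ↔ Commute y u := by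
  have h := commute_conj_iff d y u
  rwa [inv_eq hs hd, hu.eq, mul_assoc u, mul_self hs hd, mul_one] at h

theorem trace_swap {G : Type*} [Group G] {D : Set G} (hD : ConjClosed D) {d y : G} (hd : d ∈ D) (hy : y ∈ D)
    (hdy : ¬ Commute d y) : Dd D d ∩ Dd D (d * y * d) = Dd D d ∩ Dd D y := by
  ext u
  constructor
  · rintro ⟨h1, h2⟩
    exact ⟨h1, h1.1, fun e => hdy (e ▸ h1.2.2), (commute_swap_iff hD.set hd h1.2.2).1 h2.2.2⟩
  · rintro ⟨h1, h2⟩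
    refine ⟨h1, h1.1, fun e => ?_, (commute_swap_iff hD.set hd h1.2.2).2 h2.2.2⟩
    have h3 := h1.2.2
    rw [e] at h3
    exact hdy ((commute_swap_iff hD.set hd (Commute.refl d)).1 h3.symm).symm

theorem swap_far {G : Type*} [Group G] {D : Set G} (hD : ConjClosed D) {d y : G} (hd : d ∈ D)
    (hdy : ¬ Commute d y) : ¬ Commute d (d * y * d) :=
  fun h => hdy ((commute_swap_iff hD.set hd (Commute.refl d)).1 h.symm).symm

/-- Two members with the same trace at one member form a pair, given this in the quotient there. -/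
theorem pair_of_trace {G Y : Type*} [Group G] [Finite G] [Group Y] {D : Set G} {E : Set Y} {N k l m : ℕ}
    (L : Local E N k l m) {p : G} {π : Hd D p →* Y} (M : Model D p E π) {d y y' : G} (hd : d ∈ Dd D p)
    (hy : y ∈ Dd D p) (hy' : y' ∈ Dd D p) (hdy : ¬ Commute d y) (hdy' : ¬ Commute d y')
    (h : ∀ u ∈ Dd D d, u ∈ Dd D p → (Commute y u ↔ Commute y' u)) : y' = y ∨ y' = d * y * d := by
  have hs := M.base.group.1
  rcases L.farTwins _ (M.mem hd) _ (M.mem hy) _ (M.mem hy') (fun e => hdy ((M.comm hd hy).1 e))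
    (fun e => hdy' ((M.comm hd hy').1 e)) (fun e he => by
      obtain ⟨u, hu, rfl⟩ := M.onto he.1
      rw [M.comm hy hu, M.comm hy' hu]
      exact h u ((M.mem_Dd hd hu).1 he) hu) with e | e
  · exact Or.inl (M.inj hy' hy e)
  · right
    have h1 := M.phi_conj ⟨d, Subgroup.subset_closure hd⟩ hy
    have h2 := M.conj_mem ⟨d, Subgroup.subset_closure hd⟩ hy
    rw [inv_eq hs hd.1] at h1 h2
    rw [← phi_of_mem π (x := ⟨d, Subgroup.subset_closure hd⟩) hd, inv_eq L.group.1 (M.mem hd), ← e] at h1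
    exact (M.inj h2 hy' h1).symm

/-- The same with the traces as sets. -/
theorem pair_of_trace_eq {G Y : Type*} [Group G] [Finite G] [Group Y] {D : Set G} {E : Set Y} {N k l m : ℕ}
    (L : Local E N k l m) {p : G} {π : Hd D p →* Y} (M : Model D p E π) {d y y' : G} (hd : d ∈ Dd D p)
    (hy : y ∈ Dd D p) (hy' : y' ∈ Dd D p) (hdy : ¬ Commute d y) (hdy' : ¬ Commute d y')
    (h : Dd D d ∩ Dd D y ∩ Dd D p = Dd D d ∩ Dd D y' ∩ Dd D p) : y' = y ∨ y' = d * y * d := by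
  refine pair_of_trace L M hd hy hy' hdy hdy' fun u hu hup => ⟨fun hc => ?_, fun hc => ?_⟩
  · exact ((Set.ext_iff.1 h u).1 ⟨⟨hu, hu.1, fun e => hdy (e ▸ hu.2.2), hc⟩, hup⟩).1.2.2.2
  · exact ((Set.ext_iff.1 h u).2 ⟨⟨hu, hu.1, fun e => hdy' (e ▸ hu.2.2), hc⟩, hup⟩).1.2.2.2

namespace Match

variable {D₁ : Set G₁} {d₁ : G₁} {D₂ : Set G₂} {d₂ : G₂} {k : ℕ} {f : G₁ → G₂} (hf : Match D₁ d₁ D₂ d₂ k f)
include hf

theorem mapsTo {a : G₁} (ha : a ∈ Dd D₁ d₁) : f a ∈ Dd D₂ d₂ := hf.bij.mapsTo ha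

theorem inj {a b : G₁} (ha : a ∈ Dd D₁ d₁) (hb : b ∈ Dd D₁ d₁) (h : f a = f b) : a = b := hf.bij.injOn ha hb h

theorem onto {e : G₂} (he : e ∈ Dd D₂ d₂) : ∃ a ∈ Dd D₁ d₁, f a = e := hf.bij.surjOn he

theorem conj_mem {a b : G₁} (ha : a ∈ Dd D₁ d₁) (hb : b ∈ Dd D₁ d₁) : a * b * a ∈ Dd D₁ d₁ := by
  have := conj_mem_Dd hf.closed₁ ha.2.2.symm hb
  rwa [inv_eq hf.closed₁.set ha.1] at this

theorem commute_iff {a b : G₁} (ha : a ∈ Dd D₁ d₁) (hb : b ∈ Dd D₁ d₁) : Commute (f a) (f b) ↔ Commute a b := by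
  have hs₁ := hf.closed₁.set
  have hs₂ := hf.closed₂.set
  have ma := hf.mapsTo ha
  constructor
  · intro h
    have h1 : f (a * b * a) = f b := by rw [hf.conj a ha b hb, h.eq, mul_assoc, mul_self hs₂ ma.1, mul_one]
    have h2 := hf.inj (hf.conj_mem ha hb) hb h1
    show a * b = b * a
    calc a * b = a * b * a * a := by rw [mul_assoc (a * b), mul_self hs₁ ha.1, mul_one]
      _ = b * a := by rw [h2]
  · intro h
    have h1 : a * b * a = b := by rw [h.eq, mul_assoc, mul_self hs₁ ha.1, mul_one]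
    have h2 := hf.conj a ha b hb
    rw [h1] at h2
    show f a * f b = f b * f a
    calc f a * f b = f a * f b * f a * f a := by rw [mul_assoc (f a * f b), mul_self hs₂ ma.1, mul_one]
      _ = f b * f a := by rw [← h2]

theorem mem_Dd_iff {a b : G₁} (ha : a ∈ Dd D₁ d₁) (hb : b ∈ Dd D₁ d₁) : f b ∈ Dd D₂ (f a) ↔ b ∈ Dd D₁ a :=
  ⟨fun h => ⟨hb.1, fun e => h.2.1 (by rw [e]), (hf.commute_iff ha hb).1 h.2.2⟩,
    fun h => ⟨(hf.mapsTo hb).1, fun e => h.2.1 (hf.inj hb ha e), (hf.commute_iff ha hb).2 h.2.2⟩⟩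

/-- The relations not seen by the action: a product one maps to one or to the base. -/
theorem prod_cases [Finite G₂] {Y : Type*} [Group Y] {E : Set Y} {N k' l' m : ℕ} (S : Stage D₂ E N k' l' m) :
    ∀ l : List G₁, (∀ x ∈ l, x ∈ insert d₁ (Dd D₁ d₁)) → l.prod = 1 →
      (l.map f).prod = 1 ∨ (l.map f).prod = d₂ := by
  have key : ∀ l : List G₁, (∀ x ∈ l, x ∈ insert d₁ (Dd D₁ d₁)) → ∀ a ∈ Dd D₁ d₁,
      l.prod * a * l.prod⁻¹ ∈ Dd D₁ d₁ ∧
      f (l.prod * a * l.prod⁻¹) = (l.map f).prod * f a * (l.map f).prod⁻¹ ∧ Commute (l.map f).prod d₂ := by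
    intro l
    induction l with
    | nil => intro _ a ha; simp [ha]
    | cons x t ih =>
      intro hm a ha
      obtain ⟨h1, h2, h3⟩ := ih (fun y hy => hm y (List.mem_cons_of_mem _ hy)) a ha
      set b := t.prod * a * t.prod⁻¹
      rw [List.prod_cons, List.map_cons, List.prod_cons, mul_inv_rev, mul_inv_rev,
        show x * t.prod * a * (t.prod⁻¹ * x⁻¹) = x * b * x⁻¹ by simp [b, mul_assoc],
        show f x * (t.map f).prod * f a * ((t.map f).prod⁻¹ * (f x)⁻¹) = f x * f b * (f x)⁻¹ by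
          rw [h2]; simp [mul_assoc]]
      rcases Set.mem_insert_iff.1 (hm x (by simp)) with e | hx
      · rw [e, inv_eq hf.closed₁.set hf.mem₁, hf.base, inv_eq hf.closed₂.set hf.mem₂, h1.2.2.eq, mul_assoc b,
          mul_self hf.closed₁.set hf.mem₁, mul_one]
        refine ⟨h1, ?_, (Commute.refl d₂).mul_left h3⟩
        rw [(hf.mapsTo h1).2.2.eq, mul_assoc, mul_self hf.closed₂.set hf.mem₂, mul_one]
      · rw [inv_eq hf.closed₁.set hx.1, inv_eq hf.closed₂.set (hf.mapsTo hx).1]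
        exact ⟨hf.conj_mem hx h1, hf.conj x hx b h1, (hf.mapsTo hx).2.2.symm.mul_left h3⟩
  intro l hm hp
  by_cases hA : (Dd D₁ d₁).Nonempty
  · obtain ⟨a₀, ha₀⟩ := hA
    refine S.kernel hf.mem₂ (key l hm a₀ ha₀).2.2 fun y hy => ?_
    obtain ⟨a, ha, rfl⟩ := hf.onto hy
    have h := (key l hm a ha).2.1
    rw [hp, one_mul, inv_one, mul_one] at h
    exact mul_inv_eq_iff_eq_mul.1 h.symm
  · refine S.kernel hf.mem₂ ?_ fun y hy => absurd (hf.onto hy) (fun ⟨a, ha, _⟩ => hA ⟨a, ha⟩)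
    clear hp
    induction l with
    | nil => simp
    | cons x t ih =>
      rw [List.map_cons, List.prod_cons]
      refine Commute.mul_left ?_ (ih fun y hy => hm y (List.mem_cons_of_mem _ hy))
      rcases Set.mem_insert_iff.1 (hm x (by simp)) with e | hx
      · rw [e, hf.base]
        exact Commute.refl d₂
      · exact absurd ⟨x, hx⟩ hA

section Descend

variable [Finite G₁] [Finite G₂] {Y₁ Y₂ : Type*} [Group Y₁] [Group Y₂] {E₁ : Set Y₁} {E₂ : Set Y₂}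
  {N₁ k₁ l₁ m₁ : ℕ} {p : G₁} {π₁ : Hd D₁ p →* Y₁} {π₂ : Hd D₂ (f p) →* Y₂}

/-- The induced map of the quotients at a member. -/
theorem descend {j : ℕ} (hk : k = j + 1) (S₁ : Stage D₁ E₁ N₁ k₁ l₁ m₁) {N₂ k₂ l₂ m₂ : ℕ}
    (S₂ : Stage D₂ E₂ N₂ k₂ l₂ m₂) (hno : NoRel D₁ j) (hno₂ : NoRel D₂ j)
    (hp : p ∈ Dd D₁ d₁) (M₁ : Model D₁ p E₁ π₁) (M₂ : Model D₂ (f p) E₂ π₂) :
    ∃ g : Y₁ → Y₂, Match E₁ (phi π₁ d₁) E₂ (phi π₂ d₂) j g ∧ ∀ x ∈ Dd D₁ p, g (phi π₁ x) = phi π₂ (f x) := by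
  classical
  have hs₁ := hf.closed₁.set
  let g : Y₁ → Y₂ := fun e => if h : ∃ x ∈ Dd D₁ p, phi π₁ x = e then phi π₂ (f h.choose) else 1
  have hg : ∀ x ∈ Dd D₁ p, g (phi π₁ x) = phi π₂ (f x) := by
    intro x hx
    have h : ∃ x' ∈ Dd D₁ p, phi π₁ x' = phi π₁ x := ⟨x, hx, rfl⟩
    simp only [g, dif_pos h, M₁.inj h.choose_spec.1 hx h.choose_spec.2]
  have hd : d₁ ∈ Dd D₁ p := Dd_symm hf.mem₁ hp
  have hd' : d₂ ∈ Dd D₂ (f p) := Dd_symm hf.mem₂ (hf.mapsTo hp)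
  have hgd : g (phi π₁ d₁) = phi π₂ d₂ := by rw [hg d₁ hd, hf.base]
  have img : ∀ {x}, x ∈ Dd D₁ p → x ∈ Dd D₁ d₁ →
      f x ∈ Dd D₂ (f p) ∧ phi π₁ x ∈ Dd E₁ (phi π₁ d₁) ∧ phi π₂ (f x) ∈ Dd E₂ (phi π₂ d₂) := fun hxp hxd => by
    have h := (hf.mem_Dd_iff hp hxd).2 hxp
    exact ⟨h, (M₁.mem_Dd hd hxp).2 hxd, (M₂.mem_Dd hd' h).2 (hf.mapsTo hxd)⟩
  refine ⟨g,
    { closed₁ := conjClosed_of_group (M₁.img ▸ M₁.base.img_group)
      closed₂ := conjClosed_of_group (M₂.img ▸ M₂.base.img_group)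
      mem₁ := M₁.mem hd
      mem₂ := M₂.mem hd'
      base := hgd
      bij := ⟨fun e he => ?_, fun e he e' he' h => ?_, fun e he => ?_⟩
      conj := fun a ha b hb => ?_
      rel := fun l hnd hlen hm hc => ?_ }, hg⟩
  · obtain ⟨x, hx, rfl⟩ := M₁.onto he.1
    rw [hg x hx]
    exact (img hx ((M₁.mem_Dd hd hx).1 he)).2.2
  · obtain ⟨x, hx, rfl⟩ := M₁.onto he.1
    obtain ⟨y, hy, rfl⟩ := M₁.onto he'.1
    rw [hg x hx, hg y hy] at h
    have hxd := (M₁.mem_Dd hd hx).1 he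
    have hyd := (M₁.mem_Dd hd hy).1 he'
    rw [hf.inj hxd hyd (M₂.inj (img hx hxd).1 (img hy hyd).1 h)]
  · obtain ⟨y, hy, rfl⟩ := M₂.onto he.1
    obtain ⟨x, hx, rfl⟩ := hf.onto ((M₂.mem_Dd hd' hy).1 he)
    have hxp := (hf.mem_Dd_iff hp hx).1 hy
    exact ⟨phi π₁ x, (img hxp hx).2.1, hg x hxp⟩
  · obtain ⟨x, hx, rfl⟩ := M₁.onto ha.1
    obtain ⟨y, hy, rfl⟩ := M₁.onto hb.1
    have hxd := (M₁.mem_Dd hd hx).1 ha
    have hyd := (M₁.mem_Dd hd hy).1 hb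
    have hy₂ := (img hy hyd).1
    have hx₂ := (img hx hxd).1
    have e1 := M₁.phi_conj ⟨x, Subgroup.subset_closure hx⟩ hy
    have hxy := M₁.conj_mem ⟨x, Subgroup.subset_closure hx⟩ hy
    have e2 := M₂.phi_conj ⟨f x, Subgroup.subset_closure hx₂⟩ hy₂
    rw [← phi_of_mem π₁ (x := ⟨x, Subgroup.subset_closure hx⟩) hx, inv_eq hs₁ hx.1,
      inv_eq (M₁.img ▸ M₁.base.img_isThreeTranspositionSet) (M₁.mem hx)] at e1
    rw [← phi_of_mem π₂ (x := ⟨f x, Subgroup.subset_closure hx₂⟩) hx₂, inv_eq hf.closed₂.set hx₂.1,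
      inv_eq (M₂.img ▸ M₂.base.img_isThreeTranspositionSet) (M₂.mem hx₂)] at e2
    rw [inv_eq hs₁ hx.1] at hxy
    rw [← e1, hg _ hxy, hf.conj x hxd y hyd, hg x hx, hg y hy, e2]
  · have pick : ∀ e ∈ l, ∃ x ∈ Dd D₁ p, phi π₁ x = e ∧ x ∈ insert d₁ (Dd D₁ d₁) := by
      intro e he
      rcases Set.mem_insert_iff.1 (hm e he) with rfl | h
      · exact ⟨d₁, hd, rfl, Set.mem_insert _ _⟩
      · obtain ⟨x, hx, rfl⟩ := M₁.onto h.1
        exact ⟨x, hx, rfl, Set.mem_insert_of_mem _ ((M₁.mem_Dd hd hx).1 h)⟩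
    choose! t ht using pick
    obtain ⟨L, hL⟩ : ∃ L, L = l.map t := ⟨_, rfl⟩
    have hLp : ∀ x ∈ L, x ∈ Dd D₁ p ∧ x ∈ insert d₁ (Dd D₁ d₁) := by
      intro x hx
      rw [hL] at hx
      obtain ⟨e, he, rfl⟩ := List.mem_map.1 hx
      exact ⟨(ht e he).1, (ht e he).2.2⟩
    have hLl : L.map (phi π₁) = l := by
      rw [hL, List.map_map]
      exact (List.map_congr_left fun e he => (ht e he).2.1).trans (List.map_id _)
    have hLnd : L.Nodup := List.Nodup.of_map (phi π₁) (hLl.symm ▸ hnd)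
    have hLlen : L.length = j := by rw [hL, List.length_map, hlen]
    have hLc : ∀ x ∈ L, ∀ y ∈ L, Commute x y := fun x hx y hy => (M₁.comm (hLp x hx).1 (hLp y hy).1).1
      (hc _ (hLl ▸ List.mem_map_of_mem hx) _ (hLl ▸ List.mem_map_of_mem hy))
    have hpL : p ∉ L := fun hx => (hLp p hx).1.2.1 rfl
    have hfL : ∀ x ∈ L.map f, x ∈ Dd D₂ (f p) := by
      intro x hx
      obtain ⟨u, hu, rfl⟩ := List.mem_map.1 hx
      rcases Set.mem_insert_iff.1 (hLp u hu).2 with rfl | hud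
      · rw [hf.base]; exact hd'
      · exact (img (hLp u hu).1 hud).1
    have hrel := hf.rel (p :: L) (List.nodup_cons.2 ⟨hpL, hLnd⟩) (by simp [hLlen, hk])
      (fun x hx => by
        rcases List.mem_cons.1 hx with rfl | hx
        exacts [Set.mem_insert_of_mem _ hp, (hLp x hx).2])
      (fun x hx y hy => by
        rcases List.mem_cons.1 hx with e₁ | hx' <;> rcases List.mem_cons.1 hy with e₂ | hy'
        · rw [e₁, e₂]
        · rw [e₁]; exact (hLp y hy').1.2.2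
        · rw [e₂]; exact (hLp x hx').1.2.2.symm
        · exact hLc x hx' y hy')
    have hfinj : ∀ x ∈ L, ∀ y ∈ L, f x = f y → x = y := by
      intro x hx y hy h
      rcases Set.mem_insert_iff.1 (hLp x hx).2 with rfl | hxd <;> rcases Set.mem_insert_iff.1 (hLp y hy).2 with rfl | hyd
      · rfl
      · rw [hf.base] at h; exact absurd h.symm (hf.mapsTo hyd).2.1
      · rw [hf.base] at h; exact absurd h (hf.mapsTo hxd).2.1
      · exact hf.inj hxd hyd h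
    have hfLc : ∀ x ∈ L.map f, ∀ y ∈ L.map f, Commute x y := by
      intro x hx y hy
      obtain ⟨u, hu, rfl⟩ := List.mem_map.1 hx
      obtain ⟨w, hw, rfl⟩ := List.mem_map.1 hy
      rcases Set.mem_insert_iff.1 (hLp u hu).2 with rfl | hud <;> rcases Set.mem_insert_iff.1 (hLp w hw).2 with rfl | hwd
      · exact Commute.refl _
      · rw [hf.base]; exact (hf.mapsTo hwd).2.2
      · rw [hf.base]; exact (hf.mapsTo hud).2.2.symm
      · exact (hf.commute_iff hud hwd).2 (hLc u hu w hw)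
    obtain ⟨h, hh, hπ⟩ := phi_prod (π := π₁) L fun x hx => (hLp x hx).1
    obtain ⟨h', hh', hπ'⟩ := phi_prod (π := π₂) (L.map f) hfL
    rw [hLl] at hπ
    have e1 : ((L.map f).map (phi π₂)).prod = (l.map g).prod := by
      rw [← hLl, List.map_map, List.map_map]
      exact congrArg List.prod (List.map_congr_left fun x hx => (hg x (hLp x hx).1).symm)
    rw [e1] at hπ'
    rw [← hπ, ← hπ']
    have iff₁ : π₁ h = 1 ↔ (p :: L).prod = 1 := by
      rw [M₁.base.map_eq_one_iff', List.prod_cons]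
      constructor
      · intro hz
        rcases S₁.kernel hp.1 (commute_of_mem_Hd h.2) hz with e | e
        · exact absurd (hh ▸ e) (hno L hLnd hLlen (fun x hx => (hLp x hx).1.1) hLc)
        · rw [← hh, e, mul_self hs₁ hp.1]
      · intro hz y hy
        rw [hh, eq_inv_of_mul_eq_one_right hz, inv_eq hs₁ hp.1]
        exact hy.2.2
    have iff₂ : π₂ h' = 1 ↔ ((p :: L).map f).prod = 1 := by
      rw [M₂.base.map_eq_one_iff', List.map_cons, List.prod_cons]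
      constructor
      · intro hz
        rcases S₂.kernel (hf.mapsTo hp).1 (commute_of_mem_Hd h'.2) hz with e | e
        · exact absurd (hh' ▸ e) (hno₂ (L.map f) (hLnd.map_on hfinj) (by simp [hLlen]) (fun x hx => (hfL x hx).1) hfLc)
        · rw [← hh', e, mul_self hf.closed₂.set (hf.mapsTo hp).1]
      · intro hz y hy
        rw [hh', eq_inv_of_mul_eq_one_right hz, inv_eq hf.closed₂.set (hf.mapsTo hp).1]
        exact hy.2.2
    rw [iff₁, iff₂]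
    exact hrel

end Descend

/-- Traces which are matched member by member, and agree along commuting members, come from one member. -/
theorem trace_of_local [Finite G₁] [Finite G₂] {x₁ : G₁} (hx₁ : x₁ ∈ D₁) (hdx : ¬ Commute d₁ x₁) {μ ν : ℕ}
    (hμ₁ : (Dd D₁ d₁ ∩ Dd D₁ x₁).ncard = μ)
    (hμ₂ : ∀ y ∈ D₂, ¬ Commute d₂ y → (Dd D₂ d₂ ∩ Dd D₂ y).ncard = μ)
    (hν : 0 < ν) (hν₁ : ∀ p ∈ Dd D₁ d₁ ∩ Dd D₁ x₁, (Dd D₁ d₁ ∩ Dd D₁ x₁ ∩ Dd D₁ p).ncard = ν)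
    (hν₂ : ∀ y ∈ D₂, ¬ Commute d₂ y → ∀ P ∈ Dd D₂ d₂ ∩ Dd D₂ y, (Dd D₂ d₂ ∩ Dd D₂ y ∩ Dd D₂ P).ncard = ν)
    (hne : (Dd D₁ d₁ ∩ Dd D₁ x₁).Nonempty)
    (huniq : ∀ P, ∀ y ∈ D₂, ∀ y' ∈ D₂, ¬ Commute d₂ y → ¬ Commute d₂ y' → P ∈ Dd D₂ d₂ ∩ Dd D₂ y →
      P ∈ Dd D₂ d₂ ∩ Dd D₂ y' → Dd D₂ d₂ ∩ Dd D₂ y ∩ Dd D₂ P = Dd D₂ d₂ ∩ Dd D₂ y' ∩ Dd D₂ P →
      y' = y ∨ y' = d₂ * y * d₂)
    (hloc : ∀ p ∈ Dd D₁ d₁ ∩ Dd D₁ x₁, ∃ y ∈ D₂, ¬ Commute d₂ y ∧ f p ∈ Dd D₂ y ∧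
      f '' (Dd D₁ d₁ ∩ Dd D₁ x₁ ∩ Dd D₁ p) = Dd D₂ d₂ ∩ Dd D₂ y ∩ Dd D₂ (f p))
    (hedge : ∀ p ∈ Dd D₁ d₁ ∩ Dd D₁ x₁, ∀ q ∈ Dd D₁ d₁ ∩ Dd D₁ x₁, q ∈ Dd D₁ p →
      ∀ y ∈ D₂, ∀ y' ∈ D₂, ¬ Commute d₂ y → ¬ Commute d₂ y' →
      f p ∈ Dd D₂ y → f '' (Dd D₁ d₁ ∩ Dd D₁ x₁ ∩ Dd D₁ p) = Dd D₂ d₂ ∩ Dd D₂ y ∩ Dd D₂ (f p) →
      f q ∈ Dd D₂ y' → f '' (Dd D₁ d₁ ∩ Dd D₁ x₁ ∩ Dd D₁ q) = Dd D₂ d₂ ∩ Dd D₂ y' ∩ Dd D₂ (f q) →
      y' = y ∨ y' = d₂ * y * d₂) :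
    ∃ x₂ ∈ D₂, ¬ Commute d₂ x₂ ∧ f '' (Dd D₁ d₁ ∩ Dd D₁ x₁) = Dd D₂ d₂ ∩ Dd D₂ x₂ := by
  classical
  have hs₁ := hf.closed₁.set
  have hs₂ := hf.closed₂.set
  set S := Dd D₁ d₁ ∩ Dd D₁ x₁
  choose! X hXD hXd hXp hXt using hloc
  -- members with the same trace pair
  have same : ∀ {y y' : G₂}, y ∈ D₂ → ¬ Commute d₂ y → y' = y ∨ y' = d₂ * y * d₂ →
      Dd D₂ d₂ ∩ Dd D₂ y' = Dd D₂ d₂ ∩ Dd D₂ y := by
    intro y y' hy hdy h
    rcases h with rfl | rfl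
    · rfl
    · exact trace_swap hf.closed₂ hf.mem₂ hy hdy
  have dd : ∀ a : G₂, d₂ * (d₂ * a) = a := mul_self_mul hs₂ hf.mem₂
  have trans' : ∀ {a b c : G₂}, (b = a ∨ b = d₂ * a * d₂) → (c = b ∨ c = d₂ * b * d₂) →
      (c = a ∨ c = d₂ * a * d₂) := by
    intro a b c h1 h2
    rcases h1 with rfl | rfl <;> rcases h2 with rfl | rfl
    · exact Or.inl rfl
    · exact Or.inr rfl
    · exact Or.inr rfl
    · left; simp [mul_assoc, dd, mul_self hs₂ hf.mem₂]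
  have symm' : ∀ {a b : G₂}, (b = a ∨ b = d₂ * a * d₂) → (a = b ∨ a = d₂ * b * d₂) := by
    intro a b h
    rcases h with rfl | rfl
    · exact Or.inl rfl
    · right; simp [mul_assoc, dd, mul_self hs₂ hf.mem₂]
  have edge : ∀ {p q}, p ∈ S → q ∈ S → q ∈ Dd D₁ p → X q = X p ∨ X q = d₂ * X p * d₂ := fun {p q} hp hq hpq =>
    hedge p hp q hq hpq _ (hXD p hp) _ (hXD q hq) (hXd p hp) (hXd q hq) (hXp p hp) (hXt p hp) (hXp q hq) (hXt q hq)
  obtain ⟨p₀, hp₀⟩ := hne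
  obtain ⟨q₀, hq₀S, hq₀⟩ : ∃ q, q ∈ S ∧ q ∈ Dd D₁ p₀ := by
    obtain ⟨q, hq⟩ := Set.nonempty_of_ncard_ne_zero (s := S ∩ Dd D₁ p₀) (by rw [hν₁ p₀ hp₀]; omega)
    exact ⟨q, hq⟩
  -- conjugation inside the trace
  have moved : ∀ {p r}, p ∈ S → r ∈ S → p * r * p ∈ S := by
    intro p r hp hr
    refine ⟨hf.conj_mem hp.1 hr.1, ?_⟩
    have := conj_mem_Dd hf.closed₁ hp.2.2.2.symm hr.2
    rwa [inv_eq hs₁ hp.1.1] at this
  have equi : ∀ {p r}, p ∈ S → r ∈ S → X (p * r * p) = f p * X r * f p ∨ X (p * r * p) = d₂ * (f p * X r * f p) * d₂ := by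
    intro p r hp hr
    have hr' := moved hp hr
    have hP := hf.mapsTo hp.1
    have hY : f p * X r * f p ∈ D₂ := conj_mem_left hf.closed₂ hP.1 (hXD r hr)
    have hfix : f p * d₂ * f p = d₂ := by rw [← hP.2.2.eq, mul_assoc, mul_self hs₂ hP.1, mul_one]
    have hdY : ¬ Commute d₂ (f p * X r * f p) := fun h => hXd r hr (by
      have := (commute_conj_iff (f p) d₂ (X r)).1 (by rwa [inv_eq hs₂ hP.1, hfix])
      exact this)
    have hmem : f (p * r * p) ∈ Dd D₂ d₂ ∩ Dd D₂ (f p * X r * f p) := by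
      refine ⟨hf.mapsTo hr'.1, ?_⟩
      rw [hf.conj p hp.1 r hr.1]
      have := conj_mem_Dd_conj hf.closed₂ (f p) (hXp r hr)
      rwa [inv_eq hs₂ hP.1] at this
    refine huniq (f (p * r * p)) _ hY _ (hXD _ hr') hdY (hXd _ hr') hmem ⟨hf.mapsTo hr'.1, hXp _ hr'⟩ ?_
    refine (Set.eq_of_subset_of_ncard_le ?_ (le_of_eq ((hν₂ _ hY hdY _ hmem).trans
      (hν₂ _ (hXD _ hr') (hXd _ hr') _ ⟨hf.mapsTo hr'.1, hXp _ hr'⟩).symm)) (Set.toFinite _)).symm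
    rintro _ hu
    rw [← hXt _ hr'] at hu
    obtain ⟨u, ⟨huS, hur⟩, rfl⟩ := hu
    have hu' := moved hp huS
    have hur' : p * u * p ∈ Dd D₁ r := by
      have := conj_mem_Dd_conj hf.closed₁ p hur
      rwa [inv_eq hs₁ hp.1.1, show p * (p * r * p) * p = r by
        simp [mul_assoc, mul_self_mul hs₁ hp.1.1, mul_self hs₁ hp.1.1]] at this
    obtain ⟨⟨-, h1⟩, h2⟩ : f (p * u * p) ∈ Dd D₂ d₂ ∩ Dd D₂ (X r) ∩ Dd D₂ (f r) := by
      rw [← hXt r hr]; exact ⟨_, ⟨hu', hur'⟩, rfl⟩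
    rw [hf.conj p hp.1 u huS.1] at h1 h2
    have back : f p * (f p * f u * f p) * f p = f u := by
      simp [mul_assoc, mul_self_mul hs₂ hP.1, mul_self hs₂ hP.1]
    have k1 := conj_mem_Dd_conj hf.closed₂ (f p) h1
    have k2 := conj_mem_Dd_conj hf.closed₂ (f p) h2
    rw [inv_eq hs₂ hP.1, back] at k1 k2
    rw [← hf.conj p hp.1 r hr.1] at k2
    exact ⟨⟨hf.mapsTo huS.1, k1⟩, k2⟩
  have main : ∀ r ∈ S, X r = X p₀ ∨ X r = d₂ * X p₀ * d₂ := by
    intro r hr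
    by_cases e : r = p₀
    · exact Or.inl (by rw [e])
    by_cases hc : Commute p₀ r
    · exact edge hp₀ hr ⟨hr.1.1, e, hc⟩
    obtain ⟨Y, hYdef⟩ : ∃ Y, X r = Y := ⟨_, rfl⟩
    rw [hYdef]
    have hY : Y ∈ D₂ := hYdef ▸ hXD r hr
    have hdY : ¬ Commute d₂ Y := hYdef ▸ hXd r hr
    have key : ∀ q ∈ S, q ∈ Dd D₁ p₀ → Commute (f q) Y ∧ (¬ Commute r q → Commute (f p₀) Y) := by
      intro q hq hqp
      by_cases hrq : Commute r q
      · refine ⟨?_, fun h => absurd hrq h⟩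
        have : f q ∈ Dd D₂ d₂ ∩ Dd D₂ Y ∩ Dd D₂ (f r) := by
          rw [← hYdef, ← hXt r hr]; exact ⟨q, ⟨hq, hq.1.1, fun e' => hc (e' ▸ hqp.2.2), hrq⟩, rfl⟩
        exact this.1.2.2.2.symm
      have hr₁ := moved hp₀ hr
      have hr₂ := moved hq hr
      have hadj : q * r * q ∈ Dd D₁ (p₀ * r * p₀) := by
        rw [braid hs₁ hp₀.1.1 hr.1.1 hc, braid hs₁ hq.1.1 hr.1.1 (fun h => hrq h.symm)]
        have := conj_mem_Dd_conj hf.closed₁ r hqp
        rwa [inv_eq hs₁ hr.1.1] at this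
      have hPQ := trans' (equi hp₀ hr) (trans' (edge hr₁ hr₂ hadj) (symm' (equi hq hr)))
      rw [hYdef] at hPQ
      have hPne : f p₀ ≠ d₂ := (hf.mapsTo hp₀.1).2.1
      have hQne : f q ≠ d₂ := (hf.mapsTo hq.1).2.1
      have hP := (hf.mapsTo hp₀.1).1
      have hQ := (hf.mapsTo hq.1).1
      have hne : f q ≠ f p₀ := fun h => hqp.2.1 (hf.inj hq.1 hp₀.1 h)
      have hPQc : Commute (f p₀) (f q) := (hf.commute_iff hp₀.1 hq.1).2 hqp.2.2
      have hQd : Commute d₂ (f q) := (hf.mapsTo hq.1).2.2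
      have hPd : Commute d₂ (f p₀) := (hf.mapsTo hp₀.1).2.2
      revert hPQ hPne hQne hP hQ hne hPQc hQd hPd
      generalize f p₀ = P
      generalize f q = Q
      intro hPQ hPne hQne hP hQ hne hPQc hQd hPd
      have fix : ∀ {R : G₂}, R ∈ D₂ → Commute R Y → R * Y * R = Y := fun {R} hR h => by
        rw [h.eq, mul_assoc, mul_self hs₂ hR, mul_one]
      have unfix : ∀ {R : G₂}, R ∈ D₂ → R * Y * R = Y → Commute R Y := fun {R} hR h => by
        show R * Y = Y * R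
        calc R * Y = R * Y * R * R := by rw [mul_assoc (R * Y), mul_self hs₂ hR, mul_one]
          _ = Y * R := by rw [h]
      have cancel : ∀ {A B : G₂}, Y * A * Y = Y * B * Y → A = B := fun h => mul_left_cancel (mul_right_cancel h)
      have hdYd : d₂ * Y * d₂ = Y * d₂ * Y := braid hs₂ hf.mem₂ hY hdY
      by_cases hPY : Commute P Y
      · refine ⟨?_, fun _ => hPY⟩
        rw [fix hP hPY] at hPQ
        rcases hPQ with h | h
        · exact unfix hQ h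
        by_contra hQY
        rw [braid hs₂ hQ hY hQY, hdYd] at h
        exact hQne (cancel h)
      · exfalso
        by_cases hQY : Commute Q Y
        · rw [fix hQ hQY, braid hs₂ hP hY hPY] at hPQ
          rcases hPQ with h | h
          · exact hPY (unfix hP ((braid hs₂ hP hY hPY).trans h.symm))
          · have h' : Y * P * Y = Y * d₂ * Y := by
              rw [← hdYd]
              conv_rhs => rw [h]
              simp [mul_assoc, dd, mul_self hs₂ hf.mem₂]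
            exact hPne (cancel h')
        rw [braid hs₂ hQ hY hQY, braid hs₂ hP hY hPY] at hPQ
        rcases hPQ with h | h
        · exact hne (cancel h)
        -- the conjugate of `Y` by the base carries `P` to `Q`
        set z := d₂ * Y * d₂ with hz
        have hzD : z ∈ D₂ := conj_mem_left hf.closed₂ hf.mem₂ hY
        have hQz : Q = z * P * z := by
          calc Q = Y * (Y * Q * Y) * Y := by simp [mul_assoc, mul_self_mul hs₂ hY, mul_self hs₂ hY]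
            _ = z * P * z := by rw [h, hdYd]; simp [mul_assoc]
        have hzP : ¬ Commute z P := fun hk => hPY ((commute_swap_iff hs₂ hf.mem₂ hPd).1 hk).symm
        have h3 : P * z * P = Q := by rw [hQz, braid hs₂ hzD hP hzP]
        have h4 : z = Q := by
          calc z = P * (P * z * P) * P := by simp [mul_assoc, mul_self_mul hs₂ hP, mul_self hs₂ hP]
            _ = Q := by rw [h3, hPQc.eq, mul_assoc, mul_self hs₂ hP, mul_one]
        have hdz : Commute d₂ z := by rw [h4]; exact hQd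
        exact swap_far hf.closed₂ hf.mem₂ hdY hdz
    by_cases hex : ∀ q ∈ S, q ∈ Dd D₁ p₀ → Commute r q
    · have hrq₀ := hex q₀ hq₀S hq₀
      have h2 := edge hq₀S hr ⟨hr.1.1, fun e' => hc (e' ▸ hq₀.2.2), hrq₀.symm⟩
      rw [hYdef] at h2
      exact trans' (edge hp₀ hq₀S hq₀) h2
    push Not at hex
    obtain ⟨q₁, hq₁, hq₁p, hrq₁⟩ := hex
    have hPY := (key q₁ hq₁ hq₁p).2 hrq₁
    have hmem : f p₀ ∈ Dd D₂ d₂ ∩ Dd D₂ Y :=
      ⟨hf.mapsTo hp₀.1, (hf.mapsTo hp₀.1).1, fun e' => hdY (by rw [← e']; exact (hf.mapsTo hp₀.1).2.2), hPY.symm⟩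
    refine huniq (f p₀) _ (hXD p₀ hp₀) _ hY (hXd p₀ hp₀) hdY ⟨hf.mapsTo hp₀.1, hXp p₀ hp₀⟩ hmem ?_
    refine Set.eq_of_subset_of_ncard_le ?_ (le_of_eq ((hν₂ _ hY hdY _ hmem).trans
      (hν₂ _ (hXD _ hp₀) (hXd _ hp₀) _ ⟨hf.mapsTo hp₀.1, hXp _ hp₀⟩).symm)) (Set.toFinite _)
    rw [← hXt p₀ hp₀]
    rintro _ ⟨u, ⟨huS, hup⟩, rfl⟩
    refine ⟨⟨hf.mapsTo huS.1, (hf.mapsTo huS.1).1, fun e' => hdY (by rw [← e']; exact (hf.mapsTo huS.1).2.2), ?_⟩, (hf.mem_Dd_iff hp₀.1 huS.1).2 hup⟩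
    exact (key u huS hup).1.symm
  refine ⟨X p₀, hXD p₀ hp₀, hXd p₀ hp₀, Set.eq_of_subset_of_ncard_le ?_ ?_ (Set.toFinite _)⟩
  · rintro _ ⟨r, hr, rfl⟩
    have h := same (hXD p₀ hp₀) (hXd p₀ hp₀) (main r hr)
    rw [← h]
    exact ⟨hf.mapsTo hr.1, hXp r hr⟩
  · rw [hμ₂ _ (hXD p₀ hp₀) (hXd p₀ hp₀), Set.InjOn.ncard_image fun a ha b hb h => hf.inj ha.1 hb.1 h, hμ₁]

end Match

end CfsgLib.ThreeTrans.Uniq
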