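import Mathlib
import Cfsg.Agent.Lib.ThreeTrans.Uniq.Match

/-! A map between the members commuting with base members which lifts to their centralisers, with one pair of
corresponding traces, extends to an isomorphism of the groups. -/

set_option autoImplicit false
set_option linter.unusedSectionVars false

namespace CfsgLib.ThreeTrans.Uniq

open CfsgLib.ThreeTrans CfsgLib.ThreeTrans.Tower
open CfsgLib.ThreeTrans.ClassTwo (cD)

variable {G₁ G₂ : Type*} [Group G₁] [Group G₂]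

/-- Products of members mapped by `f` respect equality. -/
def Lifts (D₁ : Set G₁) (d₁ : G₁) (f : G₁ → G₂) : Prop :=
  ∀ l : List G₁, (∀ x ∈ l, x ∈ insert d₁ (Dd D₁ d₁)) → l.prod = 1 → (l.map f).prod = 1

/-- A bijection of the members respecting conjugation extends to an isomorphism. -/
theorem exists_mulEquiv {D₁ : Set G₁} {D₂ : Set G₂} (h₁ : Cfsg.IsThreeTranspositionGroup D₁)
    (h₂ : Cfsg.IsThreeTranspositionGroup D₂) (hZ₁ : Subgroup.center G₁ = ⊥) (hZ₂ : Subgroup.center G₂ = ⊥)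
    {φ : G₁ → G₂} (hbij : Set.BijOn φ D₁ D₂)
    (hφ : ∀ a ∈ D₁, ∀ b ∈ D₁, φ (a * b * a) = φ a * φ b * φ a) :
    ∃ e : G₁ ≃* G₂, (∀ a ∈ D₁, e a = φ a) ∧ e '' D₁ = D₂ := by
  set R : Subgroup (G₁ × G₂) := Subgroup.closure ((fun a => (a, φ a)) '' D₁) with hR
  have act : ∀ k ∈ R, ∀ b ∈ D₁, φ (k.1 * b * k.1⁻¹) = k.2 * φ b * k.2⁻¹ := by
    intro k hk
    induction hk using Subgroup.closure_induction with
    | mem x hx =>
      obtain ⟨a, ha, rfl⟩ := hx
      intro b hb
      rw [inv_eq h₁.1 ha, inv_eq h₂.1 (hbij.mapsTo ha), hφ a ha b hb]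
    | one => intro b _; simp
    | mul x y _ _ hx hy =>
      intro b hb
      have hm := h₁.2.1 y.1 b hb
      rw [Prod.fst_mul, Prod.snd_mul, mul_inv_rev, mul_inv_rev,
        show x.1 * y.1 * b * (y.1⁻¹ * x.1⁻¹) = x.1 * (y.1 * b * y.1⁻¹) * x.1⁻¹ by group, hx _ hm, hy b hb]
      group
    | inv x _ hx =>
      intro b hb
      have hm := h₁.2.1 x.1⁻¹ b hb
      rw [inv_inv] at hm
      have h := hx _ hm
      rw [show x.1 * (x.1⁻¹ * b * x.1) * x.1⁻¹ = b by group] at h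
      rw [Prod.fst_inv, Prod.snd_inv, inv_inv, inv_inv, h]
      group
  let p₁ : R →* G₁ := (MonoidHom.fst G₁ G₂).comp R.subtype
  let p₂ : R →* G₂ := (MonoidHom.snd G₁ G₂).comp R.subtype
  have bij₁ : Function.Bijective p₁ := by
    constructor
    · refine (injective_iff_map_eq_one _).2 ?_
      rintro ⟨⟨g, h⟩, hk⟩ e
      obtain rfl : g = 1 := e
      suffices h = 1 by subst this; rfl
      have : h ∈ Subgroup.center G₂ := mem_center_of_commute h₂.2.2 fun e he => by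
        obtain ⟨a, ha, rfl⟩ := hbij.surjOn he
        have := act _ hk a ha
        rw [one_mul, inv_one, mul_one] at this
        exact mul_inv_eq_iff_eq_mul.1 this.symm
      rwa [hZ₂, Subgroup.mem_bot] at this
    · rw [← MonoidHom.range_eq_top, eq_top_iff, ← h₁.2.2, Subgroup.closure_le]
      exact fun a ha => ⟨⟨(a, φ a), Subgroup.subset_closure ⟨a, ha, rfl⟩⟩, rfl⟩
  have bij₂ : Function.Bijective p₂ := by
    constructor
    · refine (injective_iff_map_eq_one _).2 ?_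
      rintro ⟨⟨g, h⟩, hk⟩ e
      obtain rfl : h = 1 := e
      suffices g = 1 by subst this; rfl
      have : g ∈ Subgroup.center G₁ := mem_center_of_commute h₁.2.2 fun a ha => by
        have := act _ hk a ha
        rw [one_mul, inv_one, mul_one] at this
        exact mul_inv_eq_iff_eq_mul.1 (hbij.injOn (h₁.2.1 g a ha) ha this)
      rwa [hZ₁, Subgroup.mem_bot] at this
    · rw [← MonoidHom.range_eq_top, eq_top_iff, ← h₂.2.2, Subgroup.closure_le]
      intro e he
      obtain ⟨a, ha, rfl⟩ := hbij.surjOn he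
      exact ⟨⟨(a, φ a), Subgroup.subset_closure ⟨a, ha, rfl⟩⟩, rfl⟩
  refine ⟨(MulEquiv.ofBijective p₁ bij₁).symm.trans (MulEquiv.ofBijective p₂ bij₂), ?_⟩
  have he : ∀ a ∈ D₁, (MulEquiv.ofBijective p₁ bij₁).symm.trans (MulEquiv.ofBijective p₂ bij₂) a = φ a := by
    intro a ha
    have h : (MulEquiv.ofBijective p₁ bij₁).symm a = ⟨(a, φ a), Subgroup.subset_closure ⟨a, ha, rfl⟩⟩ :=
      (MulEquiv.ofBijective p₁ bij₁).symm_apply_eq.2 rfl
    rw [MulEquiv.trans_apply, h]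
    rfl
  exact ⟨he, by rw [Set.image_congr he, hbij.image_eq]⟩

section Group

variable {G : Type*} [Group G] {D : Set G}

theorem mem_cD {d y : G} (hd : d ∈ D) (h : y ∈ insert d (Dd D d)) : y ∈ cD D d := by
  rcases Set.mem_insert_iff.1 h with rfl | h
  exacts [⟨hd, Commute.refl _⟩, ⟨h.1, h.2.2⟩]

theorem cD_cases {d y : G} (hy : y ∈ D) (h : Commute d y) : y ∈ insert d (Dd D d) := by
  by_cases e : y = d
  exacts [Or.inl e, Or.inr ⟨hy, e, h⟩]

/-- Elements of the closure of a set of involutions are products of lists. -/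
theorem exists_list {S : Set G} (hS : ∀ x ∈ S, x * x = 1) {g : G} (hg : g ∈ Subgroup.closure S) :
    ∃ l : List G, (∀ x ∈ l, x ∈ S) ∧ l.prod = g := by
  induction hg using Subgroup.closure_induction with
  | mem x hx => exact ⟨[x], by simpa using hx, by simp⟩
  | one => exact ⟨[], by simp, rfl⟩
  | mul x y _ _ hx hy =>
    obtain ⟨l, hl, rfl⟩ := hx
    obtain ⟨l', hl', rfl⟩ := hy
    exact ⟨l ++ l', fun x hx => (List.mem_append.1 hx).elim (hl x) (hl' x), List.prod_append⟩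
  | inv x _ hx =>
    obtain ⟨l, hl, rfl⟩ := hx
    refine ⟨l.reverse, fun x hx => hl x (List.mem_reverse.1 hx), ?_⟩
    refine (inv_eq_of_mul_eq_one_right ?_).symm
    induction l with
    | nil => simp
    | cons a t ih =>
      rw [List.reverse_cons, List.prod_append, List.prod_cons, List.prod_cons, List.prod_nil, mul_one]
      calc a * t.prod * (t.reverse.prod * a) = a * (t.prod * t.reverse.prod) * a := by simp [mul_assoc]
        _ = 1 := by rw [ih (fun x hx => hl x (List.mem_cons_of_mem _ hx)) (list_prod_mem fun x hx => Subgroup.subset_closure (hl x (List.mem_cons_of_mem _ hx))), mul_one, hS a (hl a (by simp))]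

theorem prod_mul_reverse (hs : Cfsg.IsThreeTranspositionSet D) : ∀ l : List G, (∀ x ∈ l, x ∈ D) →
    l.prod * l.reverse.prod = 1
  | [], _ => by simp
  | a :: t, h => by
    rw [List.reverse_cons, List.prod_append, List.prod_cons, List.prod_cons, List.prod_nil, mul_one]
    calc a * t.prod * (t.reverse.prod * a) = a * (t.prod * t.reverse.prod) * a := by simp [mul_assoc]
      _ = 1 := by rw [prod_mul_reverse hs t fun x hx => h x (List.mem_cons_of_mem _ hx), mul_one,
        mul_self hs (h a (by simp))]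

/-- The far members commuting with a far member. -/
theorem near_iff (hD : ConjClosed D) {d x y : G} (hd : d ∈ D) (hx : x ∈ D) (hy : y ∈ D) (hdx : ¬ Commute d x)
    (hdy : ¬ Commute d y) :
    (Commute x y ∧ y ≠ x) ↔ ∃ b ∈ Dd D d, ¬ Commute b x ∧ y = d * (b * x * b) * d := by
  have hs := hD.set
  have dd := mul_self_mul hs hd
  have xx := mul_self_mul hs hx
  have e1 : d * x * d = x * d * x := braid hs hd hx hdx
  have cj : ∀ {u}, u ∈ D → ∀ a b : G, Commute (u * a * u) (u * b * u) ↔ Commute a b := fun {u} hu a b => by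
    have := commute_conj_iff u a b
    rwa [inv_eq hs hu] at this
  have ddd : d * (d * x * d) * d = x := by simp [mul_assoc, dd, mul_self hs hd]
  constructor
  · rintro ⟨hc, hne⟩
    set z := d * y * d
    have hz : z ∈ D := conj_mem_left hD hd hy
    set b := x * z * x
    have hb : b ∈ D := conj_mem_left hD hx hz
    have h1 : Commute (d * x * d) z := (cj hd x y).2 hc
    have h2 : Commute b d := by
      have := (cj hx z (x * d * x)).2 (e1 ▸ h1).symm
      rwa [show x * (x * d * x) * x = d by simp [mul_assoc, xx, mul_self hs hx]] at this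
    have hxz : x * z * x = b := rfl
    have hzb : x * b * x = z := by simp [b, mul_assoc, xx, mul_self hs hx]
    have hne' : b ≠ d := fun e => hne (by
      rw [e, ← e1] at hzb
      have := congrArg (fun u => d * u * d) hzb
      simp only [z, mul_assoc, dd, mul_self hs hd, mul_one] at this
      exact this.symm)
    have hbx : ¬ Commute b x := fun h => by
      have : z = b := by rw [← hzb, ← h.eq, mul_assoc, mul_self hs hx, mul_one]
      refine hdy ((commute_swap_iff hs hd (Commute.refl d)).1 ?_).symm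
      show Commute z d
      rw [this]; exact h2
    refine ⟨b, ⟨hb, hne', h2.symm⟩, hbx, ?_⟩
    rw [braid hs hb hx hbx, hzb]
    simp [z, mul_assoc, dd, mul_self hs hd]
  · rintro ⟨b, hb, hbx, rfl⟩
    refine ⟨?_, fun e => ?_⟩
    · refine ((cj hd _ _).1 ?_)
      rw [show d * (d * (b * x * b) * d) * d = b * x * b by simp [mul_assoc, dd, mul_self hs hd], e1,
        braid hs hb.1 hx hbx, cj hx]
      exact hb.2.2
    · have h2 : b * x * b = d * x * d := by
        have := congrArg (fun u => d * u * d) e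
        simpa only [mul_assoc, dd, mul_self hs hd, mul_one] using this
      rw [e1, braid hs hb.1 hx hbx] at h2
      exact hb.2.1 (mul_left_cancel (mul_right_cancel h2))

end Group

/-- Extension of a map of the neighbours to the whole group. -/
theorem Match.extend [Finite G₁] [Finite G₂] {D₁ : Set G₁} {d₁ : G₁} {D₂ : Set G₂} {d₂ : G₂} {k : ℕ}
    {f : G₁ → G₂} (hf : Match D₁ d₁ D₂ d₂ k f) (hl : Lifts D₁ d₁ f) {v N j μ : ℕ} (L₁ : Local D₁ v N j μ)
    (L₂ : Local D₂ v N j μ) (P₁ : PairLocal D₁) (P₂ : PairLocal D₂)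
    (hker : ∀ g : G₁, Commute g d₁ → (∀ y ∈ Dd D₁ d₁, Commute g y) → g = 1 ∨ g = d₁)
    {x₁ : G₁} (hx₁ : x₁ ∈ D₁) (hdx₁ : ¬ Commute d₁ x₁) {x₂ : G₂} (hx₂ : x₂ ∈ D₂) (hdx₂ : ¬ Commute d₂ x₂)
    (htr : f '' (Dd D₁ d₁ ∩ Dd D₁ x₁) = Dd D₂ d₂ ∩ Dd D₂ x₂) :
    ∃ e : G₁ ≃* G₂, (∀ a ∈ insert d₁ (Dd D₁ d₁), e a = f a) ∧ e '' D₁ = D₂ := by
  classical
  have hcl₁ := hf.closed₁
  have hcl₂ := hf.closed₂
  have hs₁ := hcl₁.set
  have hs₂ := hcl₂.set
  set A := insert d₁ (Dd D₁ d₁) with hA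
  have hAD : ∀ u ∈ A, u ∈ D₁ ∧ Commute d₁ u := fun u hu => mem_cD hf.mem₁ hu
  have hfA : ∀ u ∈ A, f u ∈ D₂ ∧ Commute d₂ (f u) ∧ f u ∈ insert d₂ (Dd D₂ d₂) := by
    intro u hu
    rcases Set.mem_insert_iff.1 hu with rfl | hu
    · rw [hf.base]; exact ⟨hf.mem₂, Commute.refl _, Set.mem_insert _ _⟩
    · exact ⟨(hf.mapsTo hu).1, (hf.mapsTo hu).2.2, Set.mem_insert_of_mem _ (hf.mapsTo hu)⟩
  have hfD : ∀ {l : List G₁}, (∀ x ∈ l, x ∈ A) → ∀ x ∈ l.map f, x ∈ D₂ := fun hlA x hx => by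
    obtain ⟨u, hu, rfl⟩ := List.mem_map.1 hx
    exact (hfA u (hlA u hu)).1
  -- the map on the centraliser
  let K := Subgroup.closure A
  have hword : ∀ g ∈ K, ∃ l : List G₁, (∀ x ∈ l, x ∈ A) ∧ l.prod = g := fun g hg =>
    exists_list (fun x hx => mul_self hs₁ (hAD x hx).1) hg
  choose! wd hwd hwdp using hword
  let th : G₁ → G₂ := fun g => ((wd g).map f).prod
  have hKl : ∀ {l : List G₁}, (∀ x ∈ l, x ∈ A) → l.prod ∈ K := fun hlA =>
    list_prod_mem fun x hx => Subgroup.subset_closure (hlA x hx)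
  have th_prod : ∀ l : List G₁, (∀ x ∈ l, x ∈ A) → th l.prod = (l.map f).prod := by
    intro l hlA
    have hm := hKl hlA
    have h := hl (wd l.prod ++ l.reverse) (fun x hx => (List.mem_append.1 hx).elim (hwd _ hm x)
      fun h => hlA x (List.mem_reverse.1 h)) (by
      rw [List.prod_append, hwdp _ hm, prod_mul_reverse hs₁ l fun x hx => (hAD x (hlA x hx)).1])
    rw [List.map_append, List.prod_append, List.map_reverse] at h
    exact (eq_inv_of_mul_eq_one_left h).trans (inv_eq_of_mul_eq_one_left (prod_mul_reverse hs₂ _ (hfD hlA)))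
  have th_mul : ∀ g ∈ K, ∀ g' ∈ K, th (g * g') = th g * th g' := by
    intro g hg g' hg'
    have h := th_prod (wd g ++ wd g') fun x hx => (List.mem_append.1 hx).elim (hwd g hg x) (hwd g' hg' x)
    rw [List.prod_append, hwdp g hg, hwdp g' hg', List.map_append, List.prod_append] at h
    exact h
  have th_gen : ∀ u ∈ A, th u = f u := fun u hu => by simpa using th_prod [u] (by simpa using hu)
  have th_one : th 1 = 1 := by simpa using th_prod [] (by simp)
  have th_inv : ∀ g ∈ K, th g⁻¹ = (th g)⁻¹ := fun g hg => eq_inv_of_mul_eq_one_left (by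
    rw [← th_mul _ (inv_mem hg) _ hg, inv_mul_cancel, th_one])
  have Kc₁ : ∀ g ∈ K, Commute g d₁ := fun g hg => by
    induction hg using Subgroup.closure_induction with
    | mem x hx => exact (hAD x hx).2.symm
    | one => exact Commute.one_left _
    | mul a b _ _ ha hb => exact ha.mul_left hb
    | inv a _ ha => exact ha.inv_left
  have th_comm : ∀ g ∈ K, Commute (th g) d₂ := by
    intro g hg
    have : ∀ l : List G₁, (∀ x ∈ l, x ∈ A) → Commute (l.map f).prod d₂ := by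
      intro l
      induction l with
      | nil => intro _; simp
      | cons x t ih =>
        intro h
        rw [List.map_cons, List.prod_cons]
        exact Commute.mul_left (hfA x (h x (by simp))).2.1.symm (ih fun y hy => h y (List.mem_cons_of_mem _ hy))
    exact this _ (hwd g hg)
  have th_conj : ∀ g ∈ K, ∀ u ∈ A, g * u * g⁻¹ ∈ A ∧ f (g * u * g⁻¹) = th g * f u * (th g)⁻¹ := by
    intro g hg u hu
    have hm : g * u * g⁻¹ ∈ A := cD_cases (hcl₁.conj g u (hAD u hu).1) (by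
      have := (commute_conj_iff g d₁ u).2 (hAD u hu).2
      rwa [(Kc₁ g hg).eq, mul_inv_cancel_right] at this)
    have huK : u ∈ K := Subgroup.subset_closure hu
    exact ⟨hm, by rw [← th_gen _ hm, th_mul _ (mul_mem hg huK) _ (inv_mem hg), th_mul g hg u huK, th_inv g hg,
      th_gen u hu]⟩
  have hfA' : Set.InjOn f A := by
    intro a ha b hb h
    rcases Set.mem_insert_iff.1 ha with rfl | ha <;> rcases Set.mem_insert_iff.1 hb with rfl | hb
    · rfl
    · rw [hf.base] at h; exact absurd h.symm (hf.mapsTo hb).2.1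
    · rw [hf.base] at h; exact absurd h (hf.mapsTo ha).2.1
    · exact hf.inj ha hb h
  have th_ker : ∀ g ∈ K, th g = 1 → g = 1 := by
    intro g hg h
    have hfix : ∀ y ∈ Dd D₁ d₁, Commute g y := fun y hy => by
      obtain ⟨hm, e⟩ := th_conj g hg y (Set.mem_insert_of_mem _ hy)
      rw [h, one_mul, inv_one, mul_one] at e
      exact mul_inv_eq_iff_eq_mul.1 (hfA' hm (Set.mem_insert_of_mem _ hy) e)
    rcases hker g (Kc₁ g hg) hfix with e | e
    · exact e
    · rw [e, th_gen d₁ (Set.mem_insert _ _), hf.base] at h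
      exact absurd h (ne_one hs₂ hf.mem₂)
  have th_onto : ∀ g₂ : G₂, Commute g₂ d₂ → ∃ g ∈ K, th g = g₂ := by
    intro g₂ hg₂
    have hst := L₂.stab d₂ hf.mem₂ g₂ hg₂
    clear hg₂
    induction hst using Subgroup.closure_induction with
    | mem x hx =>
      rcases Set.mem_insert_iff.1 (cD_cases hx.1 hx.2) with rfl | h
      · exact ⟨d₁, Subgroup.subset_closure (Set.mem_insert _ _), by rw [th_gen _ (Set.mem_insert _ _), hf.base]⟩
      · obtain ⟨a, ha, rfl⟩ := hf.onto h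
        exact ⟨a, Subgroup.subset_closure (Set.mem_insert_of_mem _ ha), th_gen _ (Set.mem_insert_of_mem _ ha)⟩
    | one => exact ⟨1, one_mem _, th_one⟩
    | mul a b _ _ ha hb =>
      obtain ⟨u, hu, rfl⟩ := ha
      obtain ⟨w, hw, rfl⟩ := hb
      exact ⟨u * w, mul_mem hu hw, th_mul u hu w hw⟩
    | inv a _ ha =>
      obtain ⟨u, hu, rfl⟩ := ha
      exact ⟨u⁻¹, inv_mem hu, th_inv u hu⟩
  -- the stabilisers of the far members correspond
  set S₁ := Dd D₁ d₁ ∩ Dd D₁ x₁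
  have hS₁A : Subgroup.closure S₁ ≤ K := Subgroup.closure_mono fun y hy => Set.mem_insert_of_mem _ hy.1
  have hS₁ : ∀ g ∈ Subgroup.closure S₁, th g ∈ Subgroup.closure (Dd D₂ d₂ ∩ Dd D₂ x₂) := by
    intro g hg
    induction hg using Subgroup.closure_induction with
    | mem y hy =>
      rw [th_gen y (Set.mem_insert_of_mem _ hy.1), ← htr]
      exact Subgroup.subset_closure ⟨y, hy, rfl⟩
    | one => rw [th_one]; exact one_mem _
    | mul a b ha hb iha ihb => rw [th_mul a (hS₁A ha) b (hS₁A hb)]; exact mul_mem iha ihb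
    | inv a ha iha => rw [th_inv a (hS₁A ha)]; exact inv_mem iha
  have stab₁ : ∀ g ∈ K, (Commute g x₁ ↔ Commute (th g) x₂) := by
    intro g hg
    constructor
    · intro h
      exact (pair_commute (hS₁ g (P₁.stab d₁ hf.mem₁ x₁ hx₁ hdx₁ g (Kc₁ g hg) h))).2
    · intro h
      obtain ⟨s, hs, hse⟩ : ∃ s ∈ Subgroup.closure S₁, th s = th g := by
        have hst := P₂.stab d₂ hf.mem₂ x₂ hx₂ hdx₂ _ (th_comm g hg) h
        revert hst
        generalize th g = t
        intro hst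
        induction hst using Subgroup.closure_induction with
        | mem y hy =>
          rw [← htr] at hy
          obtain ⟨u, hu, rfl⟩ := hy
          exact ⟨u, Subgroup.subset_closure hu, th_gen u (Set.mem_insert_of_mem _ hu.1)⟩
        | one => exact ⟨1, one_mem _, th_one⟩
        | mul a b _ _ ha hb =>
          obtain ⟨u, hu, rfl⟩ := ha
          obtain ⟨w, hw, rfl⟩ := hb
          exact ⟨u * w, mul_mem hu hw, th_mul u (hS₁A hu) w (hS₁A hw)⟩
        | inv a _ ha =>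
          obtain ⟨u, hu, rfl⟩ := ha
          exact ⟨u⁻¹, inv_mem hu, th_inv u (hS₁A hu)⟩
      have h1 := th_ker (s⁻¹ * g) (mul_mem (inv_mem (hS₁A hs)) hg) (by
        rw [th_mul _ (inv_mem (hS₁A hs)) g hg, th_inv s (hS₁A hs), hse, inv_mul_cancel])
      rw [inv_mul_eq_one] at h1
      exact h1 ▸ (pair_commute hs).2
  -- the bijection
  have farK : ∀ {y}, y ∈ D₁ → ¬ Commute d₁ y → ∃ g ∈ K, g * x₁ * g⁻¹ = y := by
    intro y hy hdy
    obtain ⟨g, hg, rfl⟩ := L₁.farT d₁ hf.mem₁ x₁ hx₁ y hy hdx₁ hdy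
    exact ⟨g, Subgroup.closure_mono (fun z hz => cD_cases hz.1 hz.2) (L₁.stab d₁ hf.mem₁ g hg), rfl⟩
  let φ : G₁ → G₂ := fun y => if y ∈ A then f y else
    if h : ∃ g ∈ K, g * x₁ * g⁻¹ = y then th h.choose * x₂ * (th h.choose)⁻¹ else 1
  have hnA : ∀ {y}, ¬ Commute d₁ y → y ∉ A := fun h hy => h (hAD _ hy).2
  have far_conj : ∀ g ∈ K, ¬ Commute d₁ (g * x₁ * g⁻¹) := fun g hg h => hdx₁ ((commute_conj_iff g d₁ x₁).1 (by
    rwa [(Kc₁ g hg).eq, mul_inv_cancel_right]))
  have φA : ∀ u ∈ A, φ u = f u := fun u hu => if_pos hu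
  have φN : ∀ g ∈ K, φ (g * x₁ * g⁻¹) = th g * x₂ * (th g)⁻¹ := by
    intro g hg
    have hex : ∃ g' ∈ K, g' * x₁ * g'⁻¹ = g * x₁ * g⁻¹ := ⟨g, hg, rfl⟩
    simp only [φ, if_neg (hnA (far_conj g hg)), dif_pos hex]
    obtain ⟨hg', he⟩ := hex.choose_spec
    set g' := hex.choose
    have h1 : Commute (g⁻¹ * g') x₁ := mul_inv_eq_iff_eq_mul.1 (by
      rw [show g⁻¹ * g' * x₁ * (g⁻¹ * g')⁻¹ = g⁻¹ * (g' * x₁ * g'⁻¹) * g by group, he]; group)
    have h2 := (stab₁ _ (mul_mem (inv_mem hg) hg')).1 h1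
    rw [th_mul _ (inv_mem hg) g' hg', th_inv g hg] at h2
    have h3 : (th g)⁻¹ * th g' * x₂ * ((th g)⁻¹ * th g')⁻¹ = x₂ := mul_inv_eq_iff_eq_mul.2 h2.eq
    calc th g' * x₂ * (th g')⁻¹ = th g * ((th g)⁻¹ * th g' * x₂ * ((th g)⁻¹ * th g')⁻¹) * (th g)⁻¹ := by group
      _ = th g * x₂ * (th g)⁻¹ := by rw [h3]
  have far₂ : ∀ g ∈ K, ¬ Commute d₂ (th g * x₂ * (th g)⁻¹) := fun g hg h => hdx₂
    ((commute_conj_iff (th g) d₂ x₂).1 (by rwa [(th_comm g hg).eq, mul_inv_cancel_right]))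
  have hcases : ∀ y ∈ D₁, y ∈ A ∨ ∃ g ∈ K, g * x₁ * g⁻¹ = y := fun y hy => by
    by_cases h : Commute d₁ y
    exacts [Or.inl (cD_cases hy h), Or.inr (farK hy h)]
  have hinj : Set.InjOn φ D₁ := by
    intro a ha b hb h
    rcases hcases a ha with ha' | ⟨g, hg, rfl⟩ <;> rcases hcases b hb with hb' | ⟨g', hg', rfl⟩
    · rw [φA a ha', φA b hb'] at h; exact hfA' ha' hb' h
    · rw [φA a ha', φN g' hg'] at h; exact absurd (h ▸ (hfA a ha').2.1) (far₂ g' hg')
    · rw [φN g hg, φA b hb'] at h; exact absurd (h ▸ (hfA b hb').2.1) (far₂ g hg)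
    · rw [φN g hg, φN g' hg'] at h
      have h1 : Commute (th g'⁻¹ * th g) x₂ := mul_inv_eq_iff_eq_mul.1 (by
        rw [th_inv g' hg', show (th g')⁻¹ * th g * x₂ * ((th g')⁻¹ * th g)⁻¹ =
          (th g')⁻¹ * (th g * x₂ * (th g)⁻¹) * th g' by group, h]
        group)
      rw [← th_mul _ (inv_mem hg') g hg] at h1
      have h2 : Commute (g'⁻¹ * g) x₁ := (stab₁ _ (mul_mem (inv_mem hg') hg)).2 h1
      calc g * x₁ * g⁻¹ = g' * (g'⁻¹ * g * x₁ * (g'⁻¹ * g)⁻¹) * g'⁻¹ := by group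
        _ = g' * x₁ * g'⁻¹ := by rw [mul_inv_eq_iff_eq_mul.2 h2.eq]
  have hmaps : Set.MapsTo φ D₁ D₂ := fun y hy => by
    rcases hcases y hy with h | ⟨g, hg, rfl⟩
    · rw [φA y h]; exact (hfA y h).1
    · rw [φN g hg]; exact hcl₂.conj _ _ hx₂
  have hsurj : Set.SurjOn φ D₁ D₂ := by
    intro e he
    by_cases h : Commute d₂ e
    · rcases Set.mem_insert_iff.1 (cD_cases he h) with rfl | h'
      · exact ⟨d₁, hf.mem₁, by rw [φA _ (Set.mem_insert _ _), hf.base]⟩
      · obtain ⟨a, ha, rfl⟩ := hf.onto h'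
        exact ⟨a, ha.1, φA _ (Set.mem_insert_of_mem _ ha)⟩
    · obtain ⟨g₂, hg₂, rfl⟩ := L₂.farT d₂ hf.mem₂ x₂ hx₂ e he hdx₂ h
      obtain ⟨g, hg, rfl⟩ := th_onto g₂ hg₂
      exact ⟨_, hcl₁.conj g x₁ hx₁, φN g hg⟩
  have hK : ∀ g ∈ K, ∀ y ∈ D₁, φ (g * y * g⁻¹) = th g * φ y * (th g)⁻¹ := by
    intro g hg y hy
    rcases hcases y hy with h | ⟨g', hg', rfl⟩
    · obtain ⟨hm, e⟩ := th_conj g hg y h
      rw [φA _ hm, φA y h, e]
    · rw [show g * (g' * x₁ * g'⁻¹) * g⁻¹ = g * g' * x₁ * (g * g')⁻¹ by group, φN _ (mul_mem hg hg'), φN g' hg',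
        th_mul g hg g' hg']
      group
  -- commuting is preserved
  have hcA : ∀ u ∈ A, ∀ y ∈ D₁, (Commute u y ↔ Commute (φ u) (φ y)) := by
    intro u hu y hy
    have h := hK u (Subgroup.subset_closure hu) y hy
    rw [th_gen u hu, inv_eq hs₁ (hAD u hu).1, inv_eq hs₂ (hfA u hu).1] at h
    rw [φA u hu]
    constructor
    · intro hc
      rw [hc.eq, mul_assoc y, mul_self hs₁ (hAD u hu).1, mul_one] at h
      refine mul_inv_eq_iff_eq_mul.1 ?_
      rw [inv_eq hs₂ (hfA u hu).1]; exact h.symm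
    · intro hc
      rw [hc.eq, mul_assoc (φ y), mul_self hs₂ (hfA u hu).1, mul_one] at h
      refine mul_inv_eq_iff_eq_mul.1 ?_
      rw [inv_eq hs₁ (hAD u hu).1]
      exact hinj (conj_mem_left hcl₁ (hAD u hu).1 hy) hy h
  have hx₁φ : φ x₁ = x₂ := by simpa [th_one] using φN 1 (one_mem _)
  have hcX : ∀ y ∈ D₁, (Commute x₁ y ↔ Commute x₂ (φ y)) := by
    intro y hy
    by_cases hdy : Commute d₁ y
    · have := hcA y (cD_cases hy hdy) x₁ hx₁
      rw [hx₁φ] at this
      exact ⟨fun h => (this.1 h.symm).symm, fun h => (this.2 h.symm).symm⟩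
    by_cases he : y = x₁
    · subst he; rw [hx₁φ]
      exact ⟨fun _ => Commute.refl _, fun _ => Commute.refl _⟩
    obtain ⟨g, hg, hgy⟩ := farK hy hdy
    have hdφ : ¬ Commute d₂ (φ y) := by rw [← hgy, φN g hg]; exact far₂ g hg
    have hne : φ y ≠ x₂ := fun h => he (hinj hy hx₁ (h.trans hx₁φ.symm))
    have trans : ∀ b ∈ Dd D₁ d₁, φ (d₁ * (b * x₁ * b) * d₁) = d₂ * (f b * x₂ * f b) * d₂ := by
      intro b hb
      have hdK : d₁ ∈ K := Subgroup.subset_closure (Set.mem_insert _ _)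
      have hbK : b ∈ K := Subgroup.subset_closure (Set.mem_insert_of_mem _ hb)
      have h1 := hK d₁ hdK _ (conj_mem_left hcl₁ hb.1 hx₁)
      have h2 := hK b hbK x₁ hx₁
      rw [th_gen b (Set.mem_insert_of_mem _ hb), inv_eq hs₁ hb.1, inv_eq hs₂ (hf.mapsTo hb).1, hx₁φ] at h2
      rwa [th_gen d₁ (Set.mem_insert _ _), hf.base, inv_eq hs₁ hf.mem₁, inv_eq hs₂ hf.mem₂, h2] at h1
    have hbx : ∀ b ∈ Dd D₁ d₁, (Commute b x₁ ↔ Commute (f b) x₂) := fun b hb => by
      have := hcA b (Set.mem_insert_of_mem _ hb) x₁ hx₁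
      rwa [φA b (Set.mem_insert_of_mem _ hb), hx₁φ] at this
    constructor
    · intro h
      obtain ⟨b, hb, hbn, hye⟩ := (near_iff hcl₁ hf.mem₁ hx₁ hy hdx₁ hdy).1 ⟨h, he⟩
      exact ((near_iff hcl₂ hf.mem₂ hx₂ (hmaps hy) hdx₂ hdφ).2
        ⟨f b, hf.mapsTo hb, fun k => hbn ((hbx b hb).2 k), by rw [hye, trans b hb]⟩).1
    · intro h
      obtain ⟨b', hb', hbn, hye⟩ := (near_iff hcl₂ hf.mem₂ hx₂ (hmaps hy) hdx₂ hdφ).1 ⟨h, hne⟩
      obtain ⟨b, hb, rfl⟩ := hf.onto hb'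
      rw [← trans b hb] at hye
      exact ((near_iff hcl₁ hf.mem₁ hx₁ hy hdx₁ hdy).2 ⟨b, hb, fun k => hbn ((hbx b hb).1 k),
        hinj hy (conj_mem_left hcl₁ hf.mem₁ (conj_mem_left hcl₁ hb.1 hx₁)) hye⟩).1
  have hc : ∀ a ∈ D₁, ∀ b ∈ D₁, (Commute a b ↔ Commute (φ a) (φ b)) := by
    intro a ha b hb
    rcases hcases a ha with h | ⟨g, hg, rfl⟩
    · exact hcA a h b hb
    have hb' := hcl₁.conj g⁻¹ b hb
    rw [inv_inv] at hb'
    have e : g * (g⁻¹ * b * g) * g⁻¹ = b := by group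
    have h := hcX _ hb'
    rw [← commute_conj_iff g, e] at h
    rw [h, φN g hg, ← e, hK g hg _ hb', commute_conj_iff, e]
  have hbij : Set.BijOn φ D₁ D₂ := ⟨hmaps, hinj, hsurj⟩
  -- the third member
  have hline : ∀ a ∈ D₁, ∀ b ∈ D₁, φ (a * b * a) = φ a * φ b * φ a := by
    intro a ha b hb
    by_cases hab : Commute a b
    · rw [hab.eq, mul_assoc, mul_self hs₁ ha, mul_one, ((hc a ha b hb).1 hab).eq, mul_assoc,
        mul_self hs₂ (hmaps ha), mul_one]
    have hab₂ : ¬ Commute (φ a) (φ b) := fun h => hab ((hc a ha b hb).2 h)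
    have hc₁ := conj_mem_left hcl₁ ha hb
    have hac₁ : ¬ Commute a (a * b * a) := fun h => hab (by
      have := (commute_conj_iff a a b).1 (by rwa [mul_inv_cancel_right, inv_eq hs₁ ha])
      exact this)
    have hac₂ : ¬ Commute (φ a) (φ (a * b * a)) := fun h => hac₁ ((hc a ha _ hc₁).2 h)
    have hsub : Dd D₂ (φ a) ∩ Dd D₂ (φ b) ⊆ Dd D₂ (φ a) ∩ Dd D₂ (φ (a * b * a)) := by
      rintro u ⟨hua, hub⟩
      obtain ⟨w, hw, rfl⟩ := hsurj hua.1
      refine ⟨hua, hua.1, fun e => hac₂ (e ▸ hua.2.2), (hc _ hc₁ w hw).1 ?_⟩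
      have h1 := (hc a ha w hw).2 hua.2.2
      exact (h1.mul_left ((hc b hb w hw).2 hub.2.2)).mul_left h1
    have heq := Set.eq_of_subset_of_ncard_le hsub
      (by rw [L₂.mu _ (hmaps ha) _ (hmaps hb) hab₂, L₂.mu _ (hmaps ha) _ (hmaps hc₁) hac₂]) (Set.toFinite _)
    rcases L₂.farTwins _ (hmaps ha) _ (hmaps hb) _ (hmaps hc₁) hab₂ hac₂ (fun u hu => by
      constructor
      · intro h
        exact ((Set.ext_iff.1 heq u).1 ⟨hu, hu.1, fun e => hab₂ (e ▸ hu.2.2), h⟩).2.2.2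
      · intro h
        exact ((Set.ext_iff.1 heq u).2 ⟨hu, hu.1, fun e => hac₂ (e ▸ hu.2.2), h⟩).2.2.2) with h | h
    · refine absurd ?_ hab
      refine mul_inv_eq_iff_eq_mul.1 ?_
      rw [inv_eq hs₁ ha]
      exact hinj hc₁ hb h
    · exact h
  obtain ⟨e, he, himg⟩ := exists_mulEquiv L₁.group L₂.group L₁.center L₂.center hbij hline
  exact ⟨e, fun a ha => by rw [he a (hAD a ha).1, φA a ha], himg⟩

end CfsgLib.ThreeTrans.Uniq
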