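import Mathlib
import Cfsg.Agent.Lib.ThreeTrans.Tower.UnitaryLine
import Cfsg.Agent.Lib.ThreeTrans.TypeTop.Hyperoval

/-! Semilinear isometries between six dimensional unitary spaces over four elements, the classes of six points
of the standard plane, and the normal form of six commuting transvections with product one. -/

set_option autoImplicit false
set_option linter.unusedSectionVars false

namespace CfsgLib.ThreeTrans.USix

open Matrix CfsgLib.ClassicalGroups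

/-- A field map with a scaling of the first hyperbolic pair, on vectors. -/
def twistVec {F F' : Type*} [Field F] [Field F'] (σ : F ≃+* F') (c : F') (v : Fin 6 → F) : Fin 6 → F' :=
  fun i => ![c, c, 1, 1, 1, 1] i * σ (v i)

variable {F : Type*} [Field F] [Fintype F] {F' : Type*} [Field F'] [Fintype F'] (hF : Fintype.card F = 2 ^ 2)
  (hF' : Fintype.card F' = 2 ^ 2)
include hF hF'

theorem twistVec_herm (σ : F ≃+* F') {c : F'} (hc : c ≠ 0) (u v : Fin 6 → F) :
    Cfsg.hermForm 6 F' 2 (twistVec σ c u) (twistVec σ c v) = σ (Cfsg.hermForm 6 F 2 u v) := by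
  have h3 := cube_eq_one hF' hc
  simp [herm_six, twistVec, mul_pow]
  linear_combination (σ (u 0) * σ (v 0) ^ 2 + σ (u 1) * σ (v 1) ^ 2) * h3

theorem twistVec_add_smul (σ : F ≃+* F') (c : F') (s : F) (u v : Fin 6 → F) :
    twistVec σ c (u + s • v) = twistVec σ c u + σ s • twistVec σ c v := by
  funext i
  simp only [twistVec, Pi.add_apply, Pi.smul_apply, smul_eq_mul, map_add, map_mul]
  ring

/-- The isomorphism of simple groups over a semilinear isometry. -/
theorem exists_twist (σ : F ≃+* F') {c : F'} (hc : c ≠ 0) :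
    ∃ ψ : Cfsg.PSU 6 F 2 →* Cfsg.PSU 6 F' 2, Function.Injective ψ ∧
      (∀ (v : Fin 6 → F) (A : Cfsg.SU 6 F 2), IsTvAt v A → ∃ B : Cfsg.SU 6 F' 2,
        IsTvAt (twistVec σ c v) B ∧ ψ (QuotientGroup.mk A) = QuotientGroup.mk B) ∧
      ∀ (w : Fin 6 → F'), ∃ v : Fin 6 → F, twistVec σ c v = w := by
  set d : Fin 6 → F' := ![c, c, 1, 1, 1, 1] with hd
  have hd0 : ∀ i, d i ≠ 0 := fun i => by fin_cases i <;> simp [hd, hc]
  let M : Matrix (Fin 6) (Fin 6) F → Matrix (Fin 6) (Fin 6) F' := fun A =>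
    Matrix.of fun i j => d i * σ (A i j) * (d j)⁻¹
  have hMmul : ∀ A B, M (A * B) = M A * M B := fun A B => by
    ext i j
    simp only [M, Matrix.of_apply, Matrix.mul_apply, map_sum, map_mul, Finset.mul_sum, Finset.sum_mul]
    exact Finset.sum_congr rfl fun k _ => by field_simp [hd0 k]
  have hMone : M 1 = 1 := by
    ext i j
    by_cases h : i = j
    · subst h; simp [M, hd0 i]
    · simp [M, h]
  have hMvec : ∀ A v, M A *ᵥ twistVec σ c v = twistVec σ c (A *ᵥ v) := fun A v => by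
    funext i
    simp only [Matrix.mulVec, dotProduct, twistVec, ← hd, map_sum, map_mul, Finset.mul_sum]
    exact Finset.sum_congr rfl fun k _ => by simp only [M, Matrix.of_apply]; field_simp [hd0 k]
  have hdet : ∀ A, (M A).det = σ A.det := fun A => by
    have h1 : M A = Matrix.diagonal d * (A.map σ) * Matrix.diagonal (fun i => (d i)⁻¹) := by
      ext i j
      simp [M, Matrix.mul_diagonal, Matrix.diagonal_mul]
    rw [h1, Matrix.det_mul, Matrix.det_mul, Matrix.det_diagonal, Matrix.det_diagonal,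
      show (A.map σ).det = σ A.det from (RingHom.map_det σ.toRingHom A).symm, Finset.prod_inv_distrib]
    have hp : (∏ i, d i) ≠ 0 := Finset.prod_ne_zero_iff.2 fun i _ => hd0 i
    field_simp
  have onto : ∀ w : Fin 6 → F', ∃ v : Fin 6 → F, twistVec σ c v = w := fun w =>
    ⟨fun i => σ.symm ((d i)⁻¹ * w i), funext fun i => by
      show d i * σ (σ.symm ((d i)⁻¹ * w i)) = w i
      rw [σ.apply_symm_apply, ← mul_assoc, mul_inv_cancel₀ (hd0 i), one_mul]⟩
  let T : Cfsg.SU 6 F 2 →* Cfsg.SU 6 F' 2 :=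
    { toFun := fun A => ⟨⟨M A.1.1, by rw [hdet, A.1.2, map_one]⟩, mem_SU_iff.2 fun u v => by
        obtain ⟨u, rfl⟩ := onto u
        obtain ⟨v, rfl⟩ := onto v
        show Cfsg.hermForm 6 F' 2 (M A.1.1 *ᵥ _) (M A.1.1 *ᵥ _) = _
        rw [hMvec, hMvec, twistVec_herm hF hF' σ hc, herm_map A, twistVec_herm hF hF' σ hc]⟩
      map_one' := Subtype.ext (Subtype.ext hMone)
      map_mul' := fun A B => Subtype.ext (Subtype.ext (hMmul _ _)) }
  have hT : ∀ A v, (T A).1.1 *ᵥ twistVec σ c v = twistVec σ c (A.1.1 *ᵥ v) := fun A v => hMvec A.1.1 v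
  have hcen : Subgroup.center (Cfsg.SU 6 F 2) ≤ (Subgroup.center (Cfsg.SU 6 F' 2)).comap T := by
    intro z hz
    obtain ⟨a, -, ha⟩ := center_scalar hF hz
    have hz' : ∀ x, (T z).1.1 *ᵥ x = σ a • x := fun x => by
      obtain ⟨v, rfl⟩ := onto x
      rw [hT, ha]
      funext i
      simp [twistVec, mul_left_comm]
    exact Subgroup.mem_center_iff.2 fun g => SU_ext fun x => by
      rw [SU_mul_mulVec, SU_mul_mulVec, hz', hz', Matrix.mulVec_smul]
  let ψ := QuotientGroup.map _ _ T hcen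
  have htv : ∀ (v : Fin 6 → F) (A : Cfsg.SU 6 F 2), IsTvAt v A → ∃ B : Cfsg.SU 6 F' 2,
      IsTvAt (twistVec σ c v) B ∧ ψ (QuotientGroup.mk A) = QuotientGroup.mk B := by
    intro v A hA
    refine ⟨T A, ⟨fun h => hA.1 (funext fun i => ?_), ?_, ?_⟩, rfl⟩
    · have h1 : d i * σ (v i) = 0 := congrFun h i
      simpa [hd0 i] using h1
    · rw [twistVec_herm hF hF' σ hc, hA.2.1, map_zero]
    · refine Matrix.ext_of_mulVec_single fun i => ?_
      obtain ⟨x, hx⟩ := onto (Pi.single i 1)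
      rw [← hx, hT, hA.apply, twistVec_add_smul hF hF', tv_apply, twistVec_herm hF hF' σ hc]
  haveI := CfsgLib.ClassicalGroups.psu_isSimpleGroup (n := 6) hF (by norm_num) (by norm_num)
  refine ⟨ψ, ?_, htv, onto⟩
  rw [← MonoidHom.ker_eq_bot_iff]
  refine (Subgroup.Normal.eq_bot_or_eq_top inferInstance).resolve_right fun htop => ?_
  have hne : (stdP 0 : Fin 6 → F) ≠ 0 := (li_stdP (F := F)).ne_zero 0
  obtain ⟨A, hA⟩ := exists_tvAt hF hne (stdP_gram hF 0 0)
  obtain ⟨B, hB, e⟩ := htv _ A hA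
  have h1 : (QuotientGroup.mk B : Cfsg.PSU 6 F' 2) = 1 := e.symm.trans (MonoidHom.mem_ker.1 (htop.symm ▸ Subgroup.mem_top _))
  have hfix : B.1.1 *ᵥ twistVec σ c (stdP 0) = twistVec σ c (stdP 0) := by
    rw [hB.apply, hB.2.1, zero_smul, add_zero]
  exact hB.ne_one hF' (center_eq_one_of_fix hF' ((QuotientGroup.eq_one_iff B).1 h1) hB.1 hfix)

end CfsgLib.ThreeTrans.USix

namespace CfsgLib.ThreeTrans.USix

open Matrix CfsgLib.ClassicalGroups

variable {F : Type*} [Field F] [Fintype F]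

local notation "V" => Fin 6 → F
local notation "𝕙" => Cfsg.hermForm 6 F 2
local notation "SU₆" => Cfsg.SU 6 F 2
local notation "PSU₆" => Cfsg.PSU 6 F 2

/-- The points of the class `k`. -/
def IsOvalPt (k : F) (r : Fin 3 → F) : Prop :=
  r = ![1, 0, 0] ∨ r = ![0, 1, 0] ∨ r = ![0, 0, 1] ∨ ∃ a : F, a ≠ 0 ∧ r = ![1, a, k * a ^ 2]

/-- The members at the points of the class `k`. -/
def ovalSet (k : F) : Set (Cfsg.PSU 6 F 2) :=
  {x | ∃ (r : Fin 3 → F) (A : Cfsg.SU 6 F 2), IsOvalPt k r ∧ IsTvAt (planeVec r) A ∧ QuotientGroup.mk A = x}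

variable (hF : Fintype.card F = 2 ^ 2)
include hF

/-- A class consists of six commuting members. -/
theorem exists_oval_list {E : Set PSU₆} (hE : TClass E) {k : F} (hk : k ≠ 0) :
    ∃ l : List PSU₆, l.Nodup ∧ l.length = 6 ∧ ∀ x, x ∈ l ↔ x ∈ ovalSet k := by
  obtain ⟨w, hw0, hw1, hw⟩ := exists_omega hF
  have t := two_eq_zero hF
  have w3 := cube_eq_one hF hw0
  have hw20 : w ^ 2 ≠ 0 := pow_ne_zero 2 hw0
  have hw21 : w ^ 2 ≠ 1 := fun h => hw0 (by linear_combination hw - h - t)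
  have hw2w : w ^ 2 ≠ w := fun h => one_ne_zero (α := F) (by linear_combination hw - h - w * t)
  obtain ⟨h1, h2⟩ := oval_lines hF (a := (1 : F)) (b := k) (c := w) (d := k * w ^ 2) (e := w ^ 2) (f := k * w)
    one_ne_zero hw0 hw20 (Ne.symm hw1) (Ne.symm hw21) (Ne.symm hw2w)
  obtain ⟨A, hA, hAi, -, -, -⟩ := six_of_points hF _ h1 h2 (oval_gram hF one_ne_zero hk hw0
    (mul_ne_zero hk hw20) hw20 (mul_ne_zero hk hw0) (by linear_combination hw) (by linear_combination k * hw)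
    (by linear_combination k * hw + k * (w + w ^ 2) * w3)
    (by linear_combination k ^ 2 * hw + k ^ 2 * (w + w ^ 2) * w3)) hE
  refine ⟨List.ofFn fun i => (QuotientGroup.mk (A i) : PSU₆), List.nodup_ofFn.2 hAi, by simp, fun x => ?_⟩
  rw [List.mem_ofFn]
  constructor
  · rintro ⟨i, rfl⟩
    refine ⟨_, A i, ?_, hA i, rfl⟩
    fin_cases i
    · exact Or.inl (by simp [ovalPts])
    · exact Or.inr (Or.inl (by simp [ovalPts]))
    · exact Or.inr (Or.inr (Or.inl (by simp [ovalPts])))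
    all_goals right; right; right
    · exact ⟨1, one_ne_zero, by simp [ovalPts]⟩
    · exact ⟨w, hw0, by simp [ovalPts]⟩
    · refine ⟨w ^ 2, hw20, ?_⟩
      simp [ovalPts]
      left; linear_combination (-w) * w3
  · rintro ⟨r, B, hr, hB, rfl⟩
    have key : ∀ i, r = ovalPts 1 k w (k * w ^ 2) (w ^ 2) (k * w) i →
        (QuotientGroup.mk (A i) : PSU₆) = QuotientGroup.mk B := fun i e => by
      rw [(hA i).unique hF (e ▸ hB)]
    rcases hr with h | h | h | ⟨a, ha, h⟩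
    · exact ⟨0, key 0 (by simp [ovalPts, h])⟩
    · exact ⟨1, key 1 (by simp [ovalPts, h])⟩
    · exact ⟨2, key 2 (by simp [ovalPts, h])⟩
    rcases omega_cases hF hw1 hw ha with e | e | e <;> rw [e] at h
    · exact ⟨3, key 3 (by simp [ovalPts, h])⟩
    · exact ⟨4, key 4 (by simp [ovalPts, h])⟩
    · refine ⟨5, key 5 ?_⟩
      rw [h]
      simp [ovalPts]
      left; linear_combination w * w3

/-- Different classes are different. -/
theorem ovalSet_inj {E : Set PSU₆} (hE : TClass E) {k k' : F} (hk : k ≠ 0)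
    (h : ovalSet k ⊆ ovalSet k') : k = k' := by
  obtain ⟨A, hA⟩ := exists_tvAt hF (v := planeVec ![1, 1, k])
    (fun h => one_ne_zero (congrFun h 0)) (herm_planeVec hF _ _)
  obtain ⟨r, B, hr, hB, e⟩ := h (show (QuotientGroup.mk A : PSU₆) ∈ ovalSet k from
    ⟨![1, 1, k], A, Or.inr (Or.inr (Or.inr ⟨1, one_ne_zero, by simp⟩)), hA, rfl⟩)
  obtain ⟨c, hc, hv⟩ := (hE.mk_eq_iff hF hB hA).1 e
  have e0 : (1 : F) = c * r 0 := congrFun hv 0
  have e2 : (1 : F) = c * r 1 := congrFun hv 2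
  have e4 : k = c * r 2 := congrFun hv 4
  rcases hr with h | h | h | ⟨a, ha, h⟩ <;> rw [h] at e0 e2 e4 <;> simp at e0 e2 e4
  rw [← e0, one_mul] at e2 e4
  rw [e4, ← e2, one_pow, mul_one]

set_option maxHeartbeats 1600000 in
/-- Six commuting members with product one are in standard position for one class. -/
theorem exists_std_six {E : Set PSU₆} (hE : TClass E) {l : List PSU₆} (hnd : l.Nodup) (hlen : l.length = 6)
    (hm : ∀ x ∈ l, x ∈ E) (hc : ∀ x ∈ l, ∀ y ∈ l, Commute x y) (hp : l.prod = 1) :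
    ∃ (g : PSU₆) (k : F), k ≠ 0 ∧ ∀ x ∈ l, g * x * g⁻¹ ∈ ovalSet k := by
  classical
  have t := two_eq_zero hF
  obtain ⟨b, c, rest, rfl⟩ : ∃ b c rest, l = b :: c :: rest := by
    rcases l with _ | ⟨b, _ | ⟨c, rest⟩⟩
    · simp at hlen
    · simp at hlen
    · exact ⟨b, c, rest, rfl⟩
  obtain ⟨hb, hrest⟩ := List.nodup_cons.1 hnd
  obtain ⟨hc', hrest'⟩ := List.nodup_cons.1 hrest
  have hbc : b ≠ c := fun e => hb (e ▸ List.mem_cons_self ..)
  have hcb : c ∈ Dd E b := ⟨hm c (by simp), Ne.symm hbc, hc b (by simp) c (by simp)⟩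
  obtain ⟨e, he, hel⟩ : ∃ e ∈ rest, e ∉ TClass.restLine E b c := by
    by_contra! h
    obtain ⟨e₁, e₂, e₃, -, -, -, -, hall⟩ := (lineClass hF hE.set hE.conj hE.nonempty).line b (hm b (by simp))
      c hcb.1 hbc hcb.2.2
    have hbm := hm b (by simp)
    have hsub : rest ⊆ [e₁, e₂, e₃] := fun x hx => by
      obtain ⟨h1, h2, h3, h4⟩ := h x hx
      have := hall x h1 (h4 b hbm (Commute.refl b) hcb.2.2) (h4 c hcb.1 hcb.2.2.symm (Commute.refl c))
        fun y hy yb yc => h4 y hy yb yc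
      simp only [List.mem_cons, List.not_mem_nil, or_false] at this ⊢
      rcases this with h' | h' | h' | h' | h'
      · exact absurd h' h2
      · exact absurd h' h3
      all_goals simp [h']
    have h1 := (List.subperm_of_subset hrest' hsub).length_le
    simp at h1 hlen
    omega
  obtain ⟨vb, B, hB, hBe⟩ := hE.rep hF (hm b (by simp))
  obtain ⟨vc, C, hC, hCe⟩ := hE.rep hF hcb.1
  obtain ⟨ve, X, hX, hXe⟩ := hE.rep hF (hm e (by simp [he]))
  have heb : e ≠ b := fun h => hb (List.mem_cons_of_mem _ (h ▸ he))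
  have hec : e ≠ c := fun h => hc' (h ▸ he)
  subst hBe hCe hXe
  have hbc0 : 𝕙 vb vc = 0 := (commute_mk_iff hF hB hC).1 hcb.2.2
  have hbe0 : 𝕙 vb ve = 0 := (commute_mk_iff hF hB hX).1 (hc _ (by simp) _ (by simp [he]))
  have hce0 : 𝕙 vc ve = 0 := (commute_mk_iff hF hC hX).1 (hc _ (by simp) _ (by simp [he]))
  have hli₂ : LinearIndependent F ![vb, vc] := li_pair_of_ne hB.1 ((hE.mem_Dd_iff hF hB hC).1 hcb).2
  have hli : LinearIndependent F ![vb, vc, ve] := li_triple hli₂ fun s u h => by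
    have hs : s ≠ 0 := fun h0 => hec (by
      rw [h0, zero_smul, zero_add] at h
      exact ((hE.mk_eq_iff hF hC hX).2 ⟨u, fun h1 => hX.1 (by rw [h, h1, zero_smul]), h⟩).symm)
    have hu : u ≠ 0 := fun h0 => heb (by
      rw [h0, zero_smul, add_zero] at h
      exact ((hE.mk_eq_iff hF hB hX).2 ⟨s, hs, h⟩).symm)
    refine hel ((hE.mem_restLine hF hB hC hcb).2 ⟨u / s, X, div_ne_zero hu hs, ?_, rfl⟩)
    have := hX.scale hF (inv_ne_zero hs)
    rwa [h, smul_add, smul_smul, smul_smul, inv_mul_cancel₀ hs, one_smul, inv_mul_eq_div] at this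
  obtain ⟨s, hs⟩ := exists_move hF hli (li_stdP (F := F)) (fun i j => by
    fin_cases i <;> fin_cases j <;> simp [hB.2.1, hC.2.1, hX.2.1, hbc0, hbe0, hce0, herm_zero_symm hF hbc0,
      herm_zero_symm hF hbe0, herm_zero_symm hF hce0]) (stdP_gram hF)
  set g : PSU₆ := QuotientGroup.mk s
  have hperm : (QuotientGroup.mk X :: rest.erase (QuotientGroup.mk X)).Perm rest := (List.perm_cons_erase he).symm
  obtain ⟨r₁, r₂, r₃, hrest3⟩ : ∃ r₁ r₂ r₃, rest.erase (QuotientGroup.mk X) = [r₁, r₂, r₃] :=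
    List.length_eq_three.1 (by
      rw [List.length_erase_of_mem he]; simp at hlen; omega)
  rw [hrest3] at hperm
  set six : List PSU₆ := [QuotientGroup.mk B, QuotientGroup.mk C, QuotientGroup.mk X, r₁, r₂, r₃] with hsix
  have hP : six.Perm (QuotientGroup.mk B :: QuotientGroup.mk C :: rest) := (hperm.cons _).cons _
  have hnd6 : six.Nodup := hP.nodup_iff.2 hnd
  set cj : List PSU₆ := six.map (MulAut.conj g).toMonoidHom with hcj
  have hcjnd : cj.Nodup := hnd6.map (MulAut.conj g).injective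
  have hcjp : cj.prod = 1 := by
    rw [hcj, ← map_list_prod, hP.prod_eq' (List.pairwise_of_forall_mem_list fun a ha b hb => hc a (hP.subset ha) b (hP.subset hb)), hp, map_one]
  have hstd : ∀ (i : Fin 3) (v : V) (A : SU₆), IsTvAt v A → v = ![vb, vc, ve] i →
      ∃ T : SU₆, IsTvAt (stdP i) T ∧ g * QuotientGroup.mk A * g⁻¹ = QuotientGroup.mk T := by
    intro i v A hA hv
    obtain ⟨a, ha, h⟩ := hs i
    rw [← hv] at h
    have h1 := (hA.conj hF s).scale hF (inv_ne_zero ha)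
    rw [h, smul_smul, inv_mul_cancel₀ ha, one_smul] at h1
    exact ⟨_, h1, rfl⟩
  obtain ⟨T₀, hT₀, hT₀e⟩ := hstd 0 vb B hB rfl
  obtain ⟨T₁, hT₁, hT₁e⟩ := hstd 1 vc C hC rfl
  obtain ⟨T₂, hT₂, hT₂e⟩ := hstd 2 ve X hX rfl
  set M₁ : PSU₆ := g * r₁ * g⁻¹
  set M₂ : PSU₆ := g * r₂ * g⁻¹
  set M₃ : PSU₆ := g * r₃ * g⁻¹
  have hcje : cj = [QuotientGroup.mk T₀, QuotientGroup.mk T₁, QuotientGroup.mk T₂, M₁, M₂, M₃] := by
    simp [hcj, hsix, MulAut.conj_apply, hT₀e, hT₁e, hT₂e, M₁, M₂, M₃]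
  have hcjm : ∀ x ∈ cj, x ∈ E := by
    intro x hx
    obtain ⟨y, hy, rfl⟩ := List.mem_map.1 hx
    exact hE.conj g y (hm y (hP.subset hy))
  have hcjc : ∀ x ∈ cj, ∀ y ∈ cj, Commute x y := by
    intro x hx y hy
    obtain ⟨x', hx', rfl⟩ := List.mem_map.1 hx
    obtain ⟨y', hy', rfl⟩ := List.mem_map.1 hy
    exact (hc x' (hP.subset hx') y' (hP.subset hy')).map _
  rw [hcje] at hcjp hcjnd hcjm hcjc
  -- coordinates of the last three
  have coord : ∀ x ∈ [M₁, M₂, M₃], ∃ (r : Fin 3 → F) (A : SU₆), IsTvAt (planeVec r) A ∧ QuotientGroup.mk A = x := by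
    intro x hx
    have hx' : x ∈ [QuotientGroup.mk T₀, QuotientGroup.mk T₁, QuotientGroup.mk T₂, M₁, M₂, M₃] := by
      simp only [List.mem_cons, List.not_mem_nil, or_false] at hx ⊢; tauto
    obtain ⟨v, A, hA, rfl⟩ := hE.rep hF (hcjm x hx')
    have h0 := (commute_mk_iff hF hA hT₀).1 (hcjc _ hx' _ (by simp))
    have h1 := (commute_mk_iff hF hA hT₁).1 (hcjc _ hx' _ (by simp))
    have h2 := (commute_mk_iff hF hA hT₂).1 (hcjc _ hx' _ (by simp))
    simp [herm_six, stdP] at h0 h1 h2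
    refine ⟨![v 0, v 2, v 4], A, ?_, rfl⟩
    convert hA using 1
    funext i
    fin_cases i <;> simp [planeVec]
    · linear_combination -h0 + v 0 * t
    · linear_combination -h1 + v 2 * t
    · linear_combination -h2 + v 4 * t
  obtain ⟨s₁, A₁, hA₁, hA₁e⟩ := coord M₁ (by simp)
  obtain ⟨s₂, A₂, hA₂, hA₂e⟩ := coord M₂ (by simp)
  obtain ⟨s₃, A₃, hA₃, hA₃e⟩ := coord M₃ (by simp)
  rw [← hA₁e, ← hA₂e, ← hA₃e] at hcjp hcjnd
  have hpl : ∀ i : Fin 3, planeVec ((![![1, 0, 0], ![0, 1, 0], ![0, 0, 1]] : Fin 3 → Fin 3 → F) i) = stdP i := by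
    intro i
    funext j
    fin_cases i <;> fin_cases j <;> simp [planeVec, stdP]
  set P : Fin 6 → Fin 3 → F := ![![1, 0, 0], ![0, 1, 0], ![0, 0, 1], s₁, s₂, s₃] with hPdef
  set A : Fin 6 → SU₆ := ![T₀, T₁, T₂, A₁, A₂, A₃] with hAdef
  have hAP : ∀ i, IsTvAt (planeVec (P i)) (A i) := by
    intro i
    fin_cases i
    · simpa [hPdef, hAdef] using (hpl 0).symm ▸ hT₀
    · simpa [hPdef, hAdef] using (hpl 1).symm ▸ hT₁
    · simpa [hPdef, hAdef] using (hpl 2).symm ▸ hT₂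
    · exact hA₁
    · exact hA₂
    · exact hA₃
  have happ := prod_apply hF (fun i => planeVec (P i)) A hAP fun i j => herm_planeVec hF _ _
  have hAone : (List.ofFn A).prod = 1 := by
    obtain ⟨x, hx, hxp⟩ := exists_perp hF (stdP (F := F)) (by norm_num)
    refine center_eq_one_of_fix hF ((QuotientGroup.eq_one_iff _).1 ?_) hx ?_
    · have h := map_list_prod (QuotientGroup.mk' (Subgroup.center SU₆)) (List.ofFn A)
      rw [List.map_ofFn] at h
      refine h.trans ?_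
      rw [← hcjp]
      rfl
    · rw [happ, add_eq_left]
      refine Finset.sum_eq_zero fun i _ => ?_
      have h0 : 𝕙 x (planeVec (P i)) = 0 := by
        have a0 := hxp 0
        have a1 := hxp 1
        have a2 := hxp 2
        simp [herm_six, stdP] at a0 a1 a2
        rw [herm_planeVec_right hF]
        simp [Fin.sum_univ_three, a0, a1, a2]
      rw [h0, zero_smul]
  have gram : ∀ j k, ∑ i, P i j ^ 2 * P i k = 0 := by
    intro j k
    have h := congrFun (happ (![![1, 0, 0, 0, 0, 0], ![0, 0, 1, 0, 0, 0], ![0, 0, 0, 0, 1, 0]] j))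
      (![0, 2, 4] k)
    rw [hAone, SU_one_mulVec, Pi.add_apply, left_eq_add, Finset.sum_apply] at h
    rw [← h]
    refine Finset.sum_congr rfl fun i _ => ?_
    fin_cases j <;> fin_cases k <;> simp [herm_six, planeVec]
  have g00 := gram 0 0
  have g01 := gram 0 1
  have g02 := gram 0 2
  have g10 := gram 1 0
  have g11 := gram 1 1
  have g12 := gram 1 2
  have g20 := gram 2 0
  have g21 := gram 2 1
  have g22 := gram 2 2
  simp [hPdef, Fin.sum_univ_six] at g00 g01 g02 g10 g11 g12 g20 g21 g22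
  -- no coordinate of the last three vanishes
  have notStd : ∀ (r : Fin 3 → F) (A' : SU₆), IsTvAt (planeVec r) A' →
      (QuotientGroup.mk A' : PSU₆) ∉ [(QuotientGroup.mk T₀ : PSU₆), QuotientGroup.mk T₁, QuotientGroup.mk T₂] →
      (r 1 = 0 → r 2 = 0 → False) ∧ (r 0 = 0 → r 2 = 0 → False) ∧ (r 0 = 0 → r 1 = 0 → False) := by
    intro r A' hA' hnot
    have key : ∀ (i : Fin 3) (T : SU₆), IsTvAt (stdP i) T → planeVec r = r i • stdP i →
        (QuotientGroup.mk T : PSU₆) = QuotientGroup.mk A' := fun i T hT h =>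
      (hE.mk_eq_iff hF hT hA').2 ⟨r i, fun h0 => hA'.1 (by rw [h, h0, zero_smul]), h⟩
    refine ⟨fun a b => hnot ?_, fun a b => hnot ?_, fun a b => hnot ?_⟩
    · rw [← key 0 T₀ hT₀ (by funext j; fin_cases j <;> simp [planeVec, stdP, a, b])]; simp
    · rw [← key 1 T₁ hT₁ (by funext j; fin_cases j <;> simp [planeVec, stdP, a, b])]; simp
    · rw [← key 2 T₂ hT₂ (by funext j; fin_cases j <;> simp [planeVec, stdP, a, b])]; simp
  simp only [List.nodup_cons, List.mem_cons, List.not_mem_nil, or_false, not_or, List.nodup_nil, and_true] at hcjnd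
  obtain ⟨⟨-, -, n01, n02, n03⟩, ⟨-, n11, n12, n13⟩, ⟨n21, n22, n23⟩, -, -⟩ := hcjnd
  obtain ⟨a₁, b₁, c₁⟩ := notStd s₁ A₁ hA₁ (by simp [Ne.symm n01, Ne.symm n11, Ne.symm n21])
  obtain ⟨a₂, b₂, c₂⟩ := notStd s₂ A₂ hA₂ (by simp [Ne.symm n02, Ne.symm n12, Ne.symm n22])
  obtain ⟨a₃, b₃, c₃⟩ := notStd s₃ A₃ hA₃ (by simp [Ne.symm n03, Ne.symm n13, Ne.symm n23])
  -- a coordinate vanishing in one of them vanishes in two, and the third is a basis vector
  have vanish : ∀ {x y z x' y' z' x'' y'' z'' : F}, 1 + x ^ 2 * x + y ^ 2 * y + z ^ 2 * z = 0 →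
      x ^ 2 * x' + y ^ 2 * y' + z ^ 2 * z' = 0 → x ^ 2 * x'' + y ^ 2 * y'' + z ^ 2 * z'' = 0 →
      (y' = 0 → y'' = 0 → False) → (z' = 0 → z'' = 0 → False) → x ≠ 0 := by
    intro x y z x' y' z' x'' y'' z'' hd hp' hp'' hy hz hx
    subst hx
    have h3 : ∀ u : F, u ≠ 0 → u ^ 2 * u = 1 := fun u hu => by rw [← cube_eq_one hF hu]; ring
    simp at hd hp' hp''
    by_cases y0 : y = 0
    · subst y0
      simp at hd hp' hp''
      by_cases z0 : z = 0
      · subst z0; simp at hd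
      · exact hz (hp'.resolve_left z0) (hp''.resolve_left z0)
    · rw [h3 y y0] at hd
      by_cases z0 : z = 0
      · subst z0
        simp at hp' hp''
        exact hy (hp'.resolve_left y0) (hp''.resolve_left y0)
      · rw [h3 z z0] at hd
        exact one_ne_zero (α := F) (by linear_combination hd - t)
  have x10 : s₁ 0 ≠ 0 := vanish (x' := s₁ 1) (x'' := s₁ 2) g00 g01 g02 a₂ a₃
  have x20 : s₂ 0 ≠ 0 := vanish (x := s₂ 0) (y := s₁ 0) (z := s₃ 0) (x' := s₂ 1) (y' := s₁ 1) (z' := s₃ 1) (x'' := s₂ 2) (y'' := s₁ 2) (z'' := s₃ 2)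
    (by linear_combination g00) (by linear_combination g01) (by linear_combination g02) a₁ a₃
  have x30 : s₃ 0 ≠ 0 := vanish (x := s₃ 0) (y := s₁ 0) (z := s₂ 0) (x' := s₃ 1) (y' := s₁ 1) (z' := s₂ 1) (x'' := s₃ 2) (y'' := s₁ 2) (z'' := s₂ 2)
    (by linear_combination g00) (by linear_combination g01) (by linear_combination g02) a₁ a₂
  have y10 : s₁ 1 ≠ 0 := vanish (x' := s₁ 0) (x'' := s₁ 2) g11 g10 g12 b₂ b₃
  have y20 : s₂ 1 ≠ 0 := vanish (x := s₂ 1) (y := s₁ 1) (z := s₃ 1) (x' := s₂ 0) (y' := s₁ 0) (z' := s₃ 0) (x'' := s₂ 2) (y'' := s₁ 2) (z'' := s₃ 2)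
    (by linear_combination g11) (by linear_combination g10) (by linear_combination g12) b₁ b₃
  have y30 : s₃ 1 ≠ 0 := vanish (x := s₃ 1) (y := s₁ 1) (z := s₂ 1) (x' := s₃ 0) (y' := s₁ 0) (z' := s₂ 0) (x'' := s₃ 2) (y'' := s₁ 2) (z'' := s₂ 2)
    (by linear_combination g11) (by linear_combination g10) (by linear_combination g12) b₁ b₂
  have z10 : s₁ 2 ≠ 0 := vanish (x' := s₁ 0) (x'' := s₁ 1) g22 g20 g21 c₂ c₃
  -- normalised coordinates
  have hcube : ∀ x : F, x ≠ 0 → x ^ 2 = x⁻¹ := fun x hx => eq_inv_of_mul_eq_one_left (by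
    rw [← cube_eq_one hF hx]; ring)
  rw [hcube _ x10, hcube _ x20, hcube _ x30] at g01 g02
  rw [hcube _ y10, hcube _ y20, hcube _ y30] at g12
  set a := fun r : Fin 3 → F => r 1 / r 0 with ha
  set bb := fun r : Fin 3 → F => r 2 / r 0 with hb'
  have sa : a s₁ + a s₂ + a s₃ = 0 := by simp only [ha]; linear_combination g01
  have sb : bb s₁ + bb s₂ + bb s₃ = 0 := by simp only [hb']; linear_combination g02
  have sq : ∀ r : Fin 3 → F, r 0 ≠ 0 → r 1 ≠ 0 → a r ^ 2 * bb r = (r 1)⁻¹ * r 2 := fun r h0 h1 => by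
    rw [hcube _ (div_ne_zero h1 h0)]
    show (r 1 / r 0)⁻¹ * (r 2 / r 0) = _
    field_simp
  have sab : a s₁ ^ 2 * bb s₁ + a s₂ ^ 2 * bb s₂ + a s₃ ^ 2 * bb s₃ = 0 := by
    rw [sq _ x10 y10, sq _ x20 y20, sq _ x30 y30]; linear_combination g12
  have na : ∀ r : Fin 3 → F, r 0 ≠ 0 → r 1 ≠ 0 → a r ≠ 0 := fun r h0 h1 => div_ne_zero h1 h0
  set k := bb s₁ * a s₁ with hk
  have e4 := fun r h0 h1 => cube_eq_one hF (na r h0 h1)
  have r2 : a s₁ ^ 2 * bb s₂ = a s₂ ^ 2 * bb s₁ := by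
    linear_combination sab - (a s₁ ^ 2 + a s₂ ^ 2) * sb + bb s₃ * (a s₁ + a s₂ - a s₃) * sa
      - (a s₁ * a s₂ * bb s₃) * t + a s₁ ^ 2 * bb s₂ * t
  have r3 : a s₁ ^ 2 * bb s₃ = a s₃ ^ 2 * bb s₁ := by
    linear_combination sab - (a s₁ ^ 2 + a s₃ ^ 2) * sb + bb s₂ * (a s₁ + a s₃ - a s₂) * sa
      - (a s₁ * a s₃ * bb s₂) * t + a s₁ ^ 2 * bb s₃ * t
  have bval : ∀ r ∈ [s₁, s₂, s₃], r 0 ≠ 0 ∧ a r ≠ 0 ∧ bb r = k * a r ^ 2 := by
    intro r hr
    simp only [List.mem_cons, List.not_mem_nil, or_false] at hr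
    rcases hr with rfl | rfl | rfl
    · exact ⟨x10, na _ x10 y10, by rw [hk]; linear_combination -bb r * e4 r x10 y10⟩
    · exact ⟨x20, na _ x20 y20, by rw [hk]; linear_combination a s₁ * r2 - bb r * e4 s₁ x10 y10⟩
    · exact ⟨x30, na _ x30 y30, by rw [hk]; linear_combination a s₁ * r3 - bb r * e4 s₁ x10 y10⟩
  have hk0 : k ≠ 0 := mul_ne_zero (div_ne_zero z10 x10) (na _ x10 y10)
  have pt : ∀ r ∈ [s₁, s₂, s₃], ∀ A' : SU₆, IsTvAt (planeVec r) A' → (QuotientGroup.mk A' : PSU₆) ∈ ovalSet k := by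
    intro r hr A' hA'
    obtain ⟨h0, ha0, hb0⟩ := bval r hr
    refine ⟨![1, a r, bb r], A', Or.inr (Or.inr (Or.inr ⟨a r, ha0, by rw [← hb0]⟩)), ?_, rfl⟩
    have := hA'.scale hF (inv_ne_zero h0)
    convert this using 1
    funext j
    fin_cases j <;> simp [planeVec, ha, hb', div_eq_inv_mul, h0]
  refine ⟨g, k, hk0, fun x hx => ?_⟩
  have hx6 : x ∈ six := hP.symm.subset hx
  simp only [hsix, List.mem_cons, List.not_mem_nil, or_false] at hx6
  rcases hx6 with rfl | rfl | rfl | rfl | rfl | rfl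
  · rw [hT₀e]; exact ⟨_, T₀, Or.inl rfl, (hpl 0).symm ▸ hT₀, rfl⟩
  · rw [hT₁e]; exact ⟨_, T₁, Or.inr (Or.inl rfl), (hpl 1).symm ▸ hT₁, rfl⟩
  · rw [hT₂e]; exact ⟨_, T₂, Or.inr (Or.inr (Or.inl rfl)), (hpl 2).symm ▸ hT₂, rfl⟩
  · show M₁ ∈ _; rw [← hA₁e]; exact pt s₁ (by simp) A₁ hA₁
  · show M₂ ∈ _; rw [← hA₂e]; exact pt s₂ (by simp) A₂ hA₂
  · show M₃ ∈ _; rw [← hA₃e]; exact pt s₃ (by simp) A₃ hA₃

end CfsgLib.ThreeTrans.USix
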