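import Mathlib
import Cfsg.Agent.Lib.ThreeTrans.Tower.UnitaryLine

/-! A function on the isotropic vectors of the four dimensional unitary space over four elements which is
homogeneous, linear on isotropic lines and additive on hyperbolic triples is given by a vector. -/

set_option autoImplicit false
set_option linter.unusedSectionVars false

namespace CfsgLib.ThreeTrans.USix

open Matrix CfsgLib.ClassicalGroups

variable {F : Type*} [Field F] [Fintype F]

local notation "W" => Fin 4 → F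
local notation "𝕙₄" => Cfsg.hermForm 4 F 2

/-- The properties of the first coordinate of a section. -/
structure IsSection (f : (Fin 4 → F) → F) : Prop where
  smul : ∀ c : F, c ≠ 0 → ∀ z, z ≠ 0 → Cfsg.hermForm 4 F 2 z z = 0 → f (c • z) = c * f z
  line : ∀ z z', z ≠ 0 → Cfsg.hermForm 4 F 2 z z = 0 → z' ≠ 0 → Cfsg.hermForm 4 F 2 z' z' = 0 →
    Cfsg.hermForm 4 F 2 z z' = 0 → (∀ c : F, z' ≠ c • z) → ∀ ξ : F, ξ ≠ 0 → f (z + ξ • z') = f z + ξ * f z'
  hyp : ∀ z z', z ≠ 0 → Cfsg.hermForm 4 F 2 z z = 0 → z' ≠ 0 → Cfsg.hermForm 4 F 2 z' z' = 0 →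
    Cfsg.hermForm 4 F 2 z' z ≠ 0 →
      f (z' + Cfsg.hermForm 4 F 2 z' z • z) = f z' + Cfsg.hermForm 4 F 2 z' z * f z

variable (hF : Fintype.card F = 2 ^ 2)
include hF

theorem iso_halves {z : W} (hz : 𝕙₄ z z = 0) (h0 : z 0 ≠ 0) (h1 : z 1 ≠ 0) :
    𝕙₄ ![z 0, z 1, 0, 0] ![z 0, z 1, 0, 0] = 0 ∧ 𝕙₄ ![0, 0, z 2, z 3] ![0, 0, z 2, z 3] = 0 := by
  have t := two_eq_zero hF
  have a := cube_eq_one hF h0
  have b := cube_eq_one hF h1
  rw [herm_four hF] at hz
  constructor <;> rw [herm_four hF] <;> simp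
  · linear_combination a + b + t
  · linear_combination hz - a - b - t


/-- The vector of a section. -/
theorem IsSection.exists_vec {f : (Fin 4 → F) → F} (hf : IsSection f) :
    ∃ y : W, ∀ z, z ≠ 0 → 𝕙₄ z z = 0 → f z = 𝕙₄ z y := by
  classical
  obtain ⟨w, hw0, hw1, hw⟩ := exists_omega hF
  have t := two_eq_zero hF
  have w3 := cube_eq_one hF hw0
  have p4 := pow_four hF
  set e₁ : W := ![1, 1, 0, 0] with he₁
  set g₁ : W := ![w, w ^ 2, 0, 0] with hg₁
  set e₂ : W := ![0, 0, 1, 1] with he₂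
  set g₂ : W := ![0, 0, w, w ^ 2] with hg₂
  let y : W := ![(f g₁ + w ^ 2 * f e₁) ^ 2, (f g₁ + w * f e₁) ^ 2, (f g₂ + w ^ 2 * f e₂) ^ 2,
    (f g₂ + w * f e₂) ^ 2]
  refine ⟨y, fun z hz hzz => ?_⟩
  have hsq : ∀ x : F, (x ^ 2) ^ 2 = x := fun x => by rw [← pow_mul]; exact p4 x
  set b : W → F := fun z => f z - 𝕙₄ z y with hb
  suffices ∀ z, z ≠ 0 → 𝕙₄ z z = 0 → b z = 0 from sub_eq_zero.1 (this z hz hzz)
  clear hz hzz z
  have bsmul : ∀ c : F, c ≠ 0 → ∀ z, z ≠ 0 → 𝕙₄ z z = 0 → b (c • z) = c * b z := by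
    intro c hc z hz hzz
    simp only [hb, hf.smul c hc z hz hzz, hermForm_smul_left, mul_sub]
  have bline : ∀ z z', z ≠ 0 → 𝕙₄ z z = 0 → z' ≠ 0 → 𝕙₄ z' z' = 0 → 𝕙₄ z z' = 0 → (∀ c : F, z' ≠ c • z) →
      b z = 0 → b z' = 0 → ∀ ξ : F, ξ ≠ 0 → b (z + ξ • z') = 0 := by
    intro z z' h1 h2 h3 h4 h5 h6 h7 h8 ξ hξ
    simp only [hb, sub_eq_zero] at h7 h8 ⊢
    rw [hf.line z z' h1 h2 h3 h4 h5 h6 ξ hξ, hermForm_add_left, hermForm_smul_left, h7, h8]
  have e1 : b e₁ = 0 := by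
    simp [hb, he₁, y, herm_four hF, hsq]
    linear_combination -(f g₁) * t - f ![1, 1, 0, 0] * (hw - t)
  have g1 : b g₁ = 0 := by
    simp [hb, hg₁, y, herm_four hF, hsq]
    linear_combination -(f ![w, w ^ 2, 0, 0]) * (hw - t) - f ![1, 1, 0, 0] * w ^ 3 * t
  have e2 : b e₂ = 0 := by
    simp [hb, he₂, y, herm_four hF, hsq]
    linear_combination -(f g₂) * t - f ![0, 0, 1, 1] * (hw - t)
  have g2 : b g₂ = 0 := by
    simp [hb, hg₂, y, herm_four hF, hsq]
    linear_combination -(f ![0, 0, w, w ^ 2]) * (hw - t) - f ![0, 0, 1, 1] * w ^ 3 * t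
  -- the third isotropic point of each half
  have third : ∀ e g : W, e ≠ 0 → 𝕙₄ e e = 0 → g ≠ 0 → 𝕙₄ g g = 0 → 𝕙₄ g e = 1 → b e = 0 → b g = 0 →
      b (g + e) = 0 := by
    intro e g h1 h2 h3 h4 h5 h6 h7
    simp only [hb, sub_eq_zero] at h6 h7 ⊢
    have h8 := hf.hyp e g h1 h2 h3 h4 (by rw [h5]; exact one_ne_zero)
    rw [h5, one_smul, one_mul] at h8
    rw [h8, hermForm_add_left, h6, h7]
  have half : ∀ c : F, c ≠ 0 → b ![1, c, 0, 0] = 0 ∧ b ![0, 0, 1, c] = 0 := by
    intro c hc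
    have hne : ∀ e : W, e 0 ≠ 0 ∨ e 2 ≠ 0 → e ≠ 0 := fun e he h => by simp [h] at he
    have w20 : w ^ 2 ≠ 0 := pow_ne_zero 2 hw0
    rcases omega_cases hF hw1 hw hc with hcw | hcw | hcw <;> rw [hcw]
    · exact ⟨e1, e2⟩
    · have h1 := bsmul (w ^ 2) w20 g₁ (hne _ (Or.inl (by simpa [hg₁] using hw0))) (by
        simp [hg₁, herm_four hF]; linear_combination (w ^ 3 + 2) * w3 + t)
      have h2 := bsmul (w ^ 2) w20 g₂ (hne _ (Or.inr (by simpa [hg₂] using hw0))) (by
        simp [hg₂, herm_four hF]; linear_combination (w ^ 3 + 2) * w3 + t)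
      rw [g1, mul_zero] at h1
      rw [g2, mul_zero] at h2
      rw [show w ^ 2 • g₁ = ![1, w, 0, 0] by funext i; fin_cases i <;> simp [hg₁] <;> grind] at h1
      rw [show w ^ 2 • g₂ = ![0, 0, 1, w] by funext i; fin_cases i <;> simp [hg₂] <;> grind] at h2
      exact ⟨h1, h2⟩
    · have t1 := third e₁ g₁ (hne _ (Or.inl (by simp [he₁]))) (by simp [he₁, herm_four hF]; linear_combination t)
        (hne _ (Or.inl (by simpa [hg₁] using hw0)))
        (by simp [hg₁, herm_four hF]; linear_combination (w ^ 3 + 2) * w3 + t)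
        (by simp [hg₁, he₁, herm_four hF]; linear_combination hw - t) e1 g1
      have t2 := third e₂ g₂ (hne _ (Or.inr (by simp [he₂]))) (by simp [he₂, herm_four hF]; linear_combination t)
        (hne _ (Or.inr (by simpa [hg₂] using hw0)))
        (by simp [hg₂, herm_four hF]; linear_combination (w ^ 3 + 2) * w3 + t)
        (by simp [hg₂, he₂, herm_four hF]; linear_combination hw - t) e2 g2
      have w10 : w + 1 ≠ 0 := fun h => hw1 (by linear_combination h - t)
      have h1 := bsmul w hw0 (g₁ + e₁) (hne _ (Or.inl (by simpa [hg₁, he₁] using w10))) (by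
        simp [hg₁, he₁, herm_four hF]; grind)
      have h2 := bsmul w hw0 (g₂ + e₂) (hne _ (Or.inr (by simpa [hg₂, he₂] using w10))) (by
        simp [hg₂, he₂, herm_four hF]; grind)
      rw [t1, mul_zero] at h1
      rw [t2, mul_zero] at h2
      rw [show w • (g₁ + e₁) = ![1, w ^ 2, 0, 0] by funext i; fin_cases i <;> simp [hg₁, he₁] <;> grind] at h1
      rw [show w • (g₂ + e₂) = ![0, 0, 1, w ^ 2] by funext i; fin_cases i <;> simp [hg₂, he₂] <;> grind] at h2
      exact ⟨h1, h2⟩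
  have hc3 : ∀ x : F, x ≠ 0 → x * x ^ 2 = 1 := fun x hx => by rw [← cube_eq_one hF hx]; ring
  have front : ∀ a c : F, a ≠ 0 → c ≠ 0 → b ![a, c, 0, 0] = 0 ∧ b ![0, 0, a, c] = 0 := by
    intro a c ha hc
    obtain ⟨h1, h2⟩ := half (c / a) (div_ne_zero hc ha)
    have k1 := bsmul a ha ![1, c / a, 0, 0] (fun h => one_ne_zero (α := F) (congrFun h 0)) (by
      simp [herm_four hF, hc3 _ (div_ne_zero hc ha)]; linear_combination t)
    have k2 := bsmul a ha ![0, 0, 1, c / a] (fun h => one_ne_zero (α := F) (congrFun h 2)) (by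
      simp [herm_four hF, hc3 _ (div_ne_zero hc ha)]; linear_combination t)
    rw [h1, mul_zero] at k1
    rw [h2, mul_zero] at k2
    rw [show a • (![1, c / a, 0, 0] : W) = ![a, c, 0, 0] by
      funext i; fin_cases i <;> simp [mul_div_cancel₀ _ ha]] at k1
    rw [show a • (![0, 0, 1, c / a] : W) = ![0, 0, a, c] by
      funext i; fin_cases i <;> simp [mul_div_cancel₀ _ ha]] at k2
    exact ⟨k1, k2⟩
  -- four non-zero coordinates
  have full : ∀ z : W, 𝕙₄ z z = 0 → (∀ i, z i ≠ 0) → b z = 0 := by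
    intro z hzz hi
    obtain ⟨i1, i2⟩ := iso_halves hF hzz (hi 0) (hi 1)
    have h := bline ![z 0, z 1, 0, 0] ![0, 0, z 2, z 3] (fun h => hi 0 (congrFun h 0)) i1
      (fun h => hi 2 (congrFun h 2)) i2 (by simp [herm_four hF]) (fun c h => hi 2 (by simpa using congrFun h 2))
      (front _ _ (hi 0) (hi 1)).1 (front _ _ (hi 2) (hi 3)).2 1 one_ne_zero
    rwa [one_smul, show ![z 0, z 1, 0, 0] + ![0, 0, z 2, z 3] = z by funext i; fin_cases i <;> simp] at h
  -- two non-zero coordinates are on a line of two vectors with four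
  have step : ∀ u u' : W, 𝕙₄ u u = 0 → 𝕙₄ u' u' = 0 → 𝕙₄ u u' = 0 → (∀ i, u i ≠ 0) → (∀ i, u' i ≠ 0) →
      (∀ c : F, u' ≠ c • u) → ∀ ξ : F, ξ ≠ 0 → b (u + ξ • u') = 0 := fun u u' h1 h2 h3 h4 h5 h6 =>
    bline u u' (fun h => h4 0 (congrFun h 0)) h1 (fun h => h5 0 (congrFun h 0)) h2 h3 h6 (full u h1 h4)
      (full u' h2 h5)
  intro z hz hzz
  by_cases hfull : ∀ i, z i ≠ 0
  · exact full z hzz hfull
  push Not at hfull
  obtain ⟨i, hi⟩ := hfull
  -- two others vanish
  have hn : ∀ i, z i * z i ^ 2 = if z i = 0 then 0 else 1 := fun i => by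
    split_ifs with h
    · simp [h]
    · exact hc3 _ h
  have hsum := hzz
  rw [herm_four hF] at hsum
  simp only [hn] at hsum
  -- the coordinates left over
  set s : W := fun j => if z j = 0 then 1 else 0 with hs
  have ws : ∀ j, (z j + w * s j) ≠ 0 ∧ (z j + w ^ 2 * s j) ≠ 0 := fun j => by
    by_cases h : z j = 0
    · simp [hs, h, hw0]
    · simp [hs, h]
  have hperp : 𝕙₄ z s = 0 ∧ 𝕙₄ s z = 0 := by
    have : ∀ j, z j * s j ^ 2 = 0 ∧ s j * z j ^ 2 = 0 := fun j => by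
      by_cases h : z j = 0 <;> simp [hs, h]
    simp [herm_four hF, this]
  have hss : 𝕙₄ s s = 0 := by
    have : ∀ j, s j * s j ^ 2 = 1 - z j * z j ^ 2 := fun j => by
      by_cases h : z j = 0
      · simp [hs, h]
      · simp [hs, h, hc3 _ h]
    rw [herm_four hF] at hzz ⊢
    simp only [this]
    linear_combination -hzz + 2 * t
  have iso : ∀ c : F, 𝕙₄ (z + c • s) (z + c • s) = 0 := fun c => by
    rw [hermForm_add_left, hermForm_add_right hF, hermForm_add_right hF, hermForm_smul_left, hermForm_smul_left,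
      hermForm_smul_right, hermForm_smul_right, hzz, hperp.1, hperp.2, hss]
    ring
  have hw2w : w ^ 2 ≠ w := fun h => hw1 (by
    have h' : w * (w - 1) = 0 := by linear_combination h
    exact sub_eq_zero.1 ((mul_eq_zero.1 h').resolve_left hw0))
  have horth : 𝕙₄ (z + w • s) (z + w ^ 2 • s) = 0 := by
    rw [hermForm_add_left, hermForm_add_right hF, hermForm_add_right hF, hermForm_smul_left, hermForm_smul_left,
      hermForm_smul_right, hermForm_smul_right, hzz, hperp.1, hperp.2, hss]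
    ring
  obtain ⟨j, hj⟩ : ∃ j, z j ≠ 0 := by
    by_contra! h
    exact hz (funext h)
  have hne : ∀ c : F, z + w ^ 2 • s ≠ c • (z + w • s) := by
    intro c h
    have hi' := congrFun h i
    have hj' := congrFun h j
    simp [hs, hi, hj] at hi' hj'
    rw [hj', one_mul] at hi'
    exact hw2w hi'
  -- w (z + w s) + (z + w² s) = (w + 1) z
  have h1 := step (z + w ^ 2 • s) (z + w • s) (iso _) (iso _) (by rw [hermForm_symm hF 4, horth, zero_pow two_ne_zero])
    (fun j => (ws j).2) (fun j => (ws j).1) (fun c h => by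
      refine hne c⁻¹ ?_
      have hc0 : c ≠ 0 := fun e => (ws i).1 (by
        have := congrFun h i
        simpa [e] using this)
      rw [h, inv_smul_smul₀ hc0]) w hw0
  have hw10 : w + 1 ≠ 0 := fun h => hw1 (by linear_combination h - t)
  rw [show z + w ^ 2 • s + w • (z + w • s) = (w + 1) • z by
    funext k; simp; linear_combination (w ^ 2 * s k) * t, bsmul _ hw10 z hz hzz] at h1
  exact (mul_eq_zero.1 h1).resolve_left hw10

end CfsgLib.ThreeTrans.USix
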