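import Mathlib
import Cfsg.Agent.Lib.ThreeTrans.Tower.PairUnitary
import Cfsg.Agent.Lib.ThreeTrans.Tower.RestHex
import Cfsg.Agent.Lib.ThreeTrans.Uniq.SectionLinear

/-! In `PSU(6,2)`: the members commuting with a transvection `a` and with a member not commuting with `a` form
a section of the lines through `a` closed under conjugation and under lines, and every such section is of
this form; a member is determined by part of this section and its invariance. -/

set_option autoImplicit false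
set_option linter.unusedSectionVars false

namespace CfsgLib.ThreeTrans.USix

open Matrix CfsgLib.ClassicalGroups

variable {F : Type*} [Field F] [Fintype F]

local notation "V" => Fin 6 → F
local notation "W" => Fin 4 → F
local notation "𝕙" => Cfsg.hermForm 6 F 2
local notation "𝕙₄" => Cfsg.hermForm 4 F 2
local notation "SU₆" => Cfsg.SU 6 F 2
local notation "SU₄" => Cfsg.SU 4 F 2
local notation "PSU₆" => Cfsg.PSU 6 F 2

open TClass (restLine)

/-- One member on each line through `a`. -/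
def FibreOne (E : Set (Cfsg.PSU 6 F 2)) (a : Cfsg.PSU 6 F 2) (T : Set (Cfsg.PSU 6 F 2)) : Prop :=
  ∀ e ∈ Dd E a, ∃ t ∈ T, (t = e ∨ t ∈ restLine E a e) ∧ ∀ t' ∈ T, (t' = e ∨ t' ∈ restLine E a e) → t' = t

/-- The abstract properties of the trace of a member. -/
structure IsTrace (E : Set (Cfsg.PSU 6 F 2)) (a : Cfsg.PSU 6 F 2) (T : Set (Cfsg.PSU 6 F 2)) : Prop where
  sub : T ⊆ Dd E a
  one : FibreOne E a T
  conj : ∀ t ∈ T, ∀ t' ∈ T, t * t' * t ∈ T
  line : ∀ t ∈ T, ∀ t' ∈ T, t ≠ t' → Commute t t' → ∃ l : List (Cfsg.PSU 6 F 2),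
    l.Nodup ∧ l.length = 5 ∧ (∀ y ∈ l, y ∈ T) ∧ (∀ y ∈ l, ∀ y' ∈ l, Commute y y') ∧ l.prod = 1 ∧ t ∈ l ∧ t' ∈ l

variable (hF : Fintype.card F = 2 ^ 2)
include hF

namespace TClass

variable {E : Set (Cfsg.PSU 6 F 2)} (hE : TClass E)
include hE

theorem lineClass' : LineClass E := USix.lineClass hF hE.set hE.conj hE.nonempty

theorem restLine_conj (g : PSU₆) {a e x : PSU₆} (hx : x ∈ restLine E a e) :
    g * x * g⁻¹ ∈ restLine E (g * a * g⁻¹) (g * e * g⁻¹) := by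
  obtain ⟨h1, h2, h3, h4⟩ := hx
  refine ⟨hE.conj g x h1, fun e' => h2 (mul_left_cancel (mul_right_cancel e')),
    fun e' => h3 (mul_left_cancel (mul_right_cancel e')), fun z hz za ze => ?_⟩
  have hz' := hE.conj g⁻¹ z hz
  rw [inv_inv] at hz'
  have := (commute_conj_iff g x _).2 (h4 _ hz' ((commute_conj_iff g _ _).1 (by
    rwa [show g * (g⁻¹ * z * g) * g⁻¹ = z by group])) ((commute_conj_iff g _ _).1 (by
    rwa [show g * (g⁻¹ * z * g) * g⁻¹ = z by group])))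
  rwa [show g * (g⁻¹ * z * g) * g⁻¹ = z by group] at this

/-- The trace of a member is a trace. -/
theorem isTrace {a x : PSU₆} (ha : a ∈ E) (hx : x ∈ E) (hax : ¬ Commute a x) :
    IsTrace E a (Dd E a ∩ Dd E x) := by
  have hcl := hE.closed hF
  refine ⟨Set.inter_subset_left, fun e he => ?_, fun t ht t' ht' => ?_, fun t ht t' ht' hne hc => ?_⟩
  · obtain ⟨va, A, hA, rfl⟩ := hE.rep hF ha
    obtain ⟨ve, B, hB, rfl⟩ := hE.rep hF he.1
    obtain ⟨vx, X, hX, rfl⟩ := hE.rep hF hx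
    have hax' : 𝕙 va vx ≠ 0 := fun h => hax ((commute_mk_iff hF hA hX).2 h)
    have hmem : ∀ t, t = (QuotientGroup.mk B : PSU₆) ∨ t ∈ restLine E (QuotientGroup.mk A) (QuotientGroup.mk B) →
        t ∈ Dd E (QuotientGroup.mk A) := by
      rintro t (rfl | ht)
      · exact he
      · exact ⟨ht.1, ht.2.1, (ht.2.2.2 _ (hE.hall hF hA) (Commute.refl _) he.2.2).symm⟩
    have hcomm : ∀ {t : PSU₆}, t ∈ Dd E (QuotientGroup.mk A) → Commute (QuotientGroup.mk X) t →
        t ∈ Dd E (QuotientGroup.mk A) ∩ Dd E (QuotientGroup.mk X) := fun ht hc =>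
      ⟨ht, ht.1, fun e => hax (e ▸ ht.2.2), hc⟩
    have key : ∀ t ∈ restLine E (QuotientGroup.mk A) (QuotientGroup.mk B), ∃ (ξ : F) (T : SU₆), ξ ≠ 0 ∧
        IsTvAt (va + ξ • ve) T ∧ QuotientGroup.mk T = t ∧
        (Commute t (QuotientGroup.mk X) ↔ 𝕙 va vx + ξ * 𝕙 ve vx = 0) := by
      intro t ht
      obtain ⟨ξ, T, hξ, hT, rfl⟩ := (hE.mem_restLine hF hA hB he).1 ht
      exact ⟨ξ, T, hξ, hT, rfl, by rw [commute_mk_iff hF hT hX, hermForm_add_left, hermForm_smul_left]⟩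
    by_cases hev : 𝕙 ve vx = 0
    · refine ⟨_, hcomm he ((commute_mk_iff hF hB hX).2 hev).symm, Or.inl rfl, fun t' ht' h => ?_⟩
      rcases h with h | h
      · exact h
      obtain ⟨ξ, T, hξ, hT, rfl, hiff⟩ := key t' h
      have h0 := hiff.1 ht'.2.2.2.symm
      rw [hev, mul_zero, add_zero] at h0
      exact absurd h0 hax'
    · set ξ := -(𝕙 va vx / 𝕙 ve vx) with hξdef
      have hξ : ξ ≠ 0 := neg_ne_zero.2 (div_ne_zero hax' hev)
      have hiso : 𝕙 (va + ξ • ve) (va + ξ • ve) = 0 := by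
        have hab : 𝕙 ve va = 0 := ((hE.mem_Dd_iff hF hA hB).1 he).1
        simp [hermForm_add_left, hermForm_add_right hF, hermForm_smul_left, hermForm_smul_right, hA.2.1, hB.2.1,
          hab, herm_zero_symm hF hab]
      have hne : va + ξ • ve ≠ 0 := fun h => ((hE.mem_Dd_iff hF hA hB).1 he).2 (-ξ⁻¹) (by
        rw [eq_neg_of_add_eq_zero_left h, smul_neg, neg_smul, neg_neg, smul_smul, inv_mul_cancel₀ hξ, one_smul])
      obtain ⟨T, hT⟩ := exists_tvAt hF hne hiso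
      have hTm := (hE.mem_restLine hF hA hB he).2 ⟨ξ, T, hξ, hT, rfl⟩
      refine ⟨_, hcomm (hmem _ (Or.inr hTm)) ?_, Or.inr hTm, fun t' ht' h => ?_⟩
      · refine ((commute_mk_iff hF hT hX).2 ?_).symm
        rw [hermForm_add_left, hermForm_smul_left, hξdef, neg_mul, div_mul_cancel₀ _ hev, add_neg_cancel]
      rcases h with rfl | h
      · exact absurd ((commute_mk_iff hF hB hX).1 ht'.2.2.2.symm) hev
      obtain ⟨η, T', hη, hT', rfl, hiff⟩ := key t' h
      have h0 := hiff.1 ht'.2.2.2.symm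
      have : η = ξ := by rw [hξdef]; field_simp; linear_combination h0
      subst this
      exact congrArg _ (hT'.unique hF hT)
  · have hi := inv_eq hE.set ht.1.1
    have h1 := conj_mem_Dd_conj hcl t ht'.1
    have h2 := conj_mem_Dd_conj hcl t ht'.2
    rw [hi] at h1 h2
    rw [show t * a * t = a by rw [← ht.1.2.2.eq, mul_assoc, mul_self hE.set ht.1.1, mul_one]] at h1
    rw [show t * x * t = x by rw [← ht.2.2.2.eq, mul_assoc, mul_self hE.set ht.1.1, mul_one]] at h2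
    exact ⟨h1, h2⟩
  · obtain ⟨e, f, g, hnd, hm, hcm, hp, -⟩ := (lineClass' hF hE).line t ht.1.1 t' ht'.1.1 hne hc
    refine ⟨_, hnd, rfl, fun y hy => ?_, hcm, hp, by simp, by simp⟩
    have h5 := (lineClass' hF hE).five _ hnd rfl hm hcm hp t (by simp) t' (by simp) hne y hy
    have hya := h5 a ha ht.1.2.2 ht'.1.2.2
    have hyx := h5 x hx ht.2.2.2 ht'.2.2.2
    exact ⟨⟨hm y hy, fun e => hax (e ▸ hyx.symm), hya⟩, hm y hy, fun e => hax (e ▸ hya), hyx⟩

/-- Five commuting members with product one hold the whole line of two of them. -/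
theorem restLine_subset_five {t t' : PSU₆} {l : List PSU₆} (hnd : l.Nodup) (hlen : l.length = 5)
    (hm : ∀ y ∈ l, y ∈ E) (hcm : ∀ y ∈ l, ∀ y' ∈ l, Commute y y') (hp : l.prod = 1) (ht : t ∈ l) (ht' : t' ∈ l)
    (hne : t ≠ t') : ∀ z ∈ restLine E t t', z ∈ l := by
  classical
  obtain ⟨e, f, g, hnd', -, -, -, hall⟩ := (lineClass' hF hE).line t (hm t ht) t' (hm t' ht') hne (hcm t ht t' ht')
  have hsub : l ⊆ [t, t', e, f, g] := fun y hy => hall y (hm y hy) (hcm y hy t ht) (hcm y hy t' ht') fun z hz za zb =>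
    ((lineClass' hF hE).five l hnd hlen hm hcm hp t ht t' ht' hne y hy z hz za zb).symm
  have hperm := (List.subperm_of_subset hnd hsub).perm_of_length_le (by simp [hlen])
  intro z hz
  exact hperm.symm.subset (hall z hz.1 (hz.2.2.2 t (hm t ht) (Commute.refl t) (hcm t ht t' ht'))
    (hz.2.2.2 t' (hm t' ht') (hcm t' ht' t ht) (Commute.refl t')) fun w hw wa wb => hz.2.2.2 w hw wa wb)

/-- Every trace is the trace of a member, at the standard transvection. -/
theorem exists_of_trace_std {A₀ : SU₆} (hA₀ : IsTvAt v₀ A₀) {T : Set PSU₆}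
    (hT : IsTrace E (QuotientGroup.mk A₀) T) :
    ∃ x ∈ E, ¬ Commute (QuotientGroup.mk A₀) x ∧ T ⊆ Dd E (QuotientGroup.mk A₀) ∩ Dd E x := by
  classical
  have t2 := two_eq_zero hF
  set a : PSU₆ := QuotientGroup.mk A₀
  have isoM : ∀ (s : F) (z : W), z ≠ 0 → 𝕙₄ z z = 0 → ∃ B : SU₆, IsTvAt (mk6 s s z) B := by
    intro s z hz hzz
    refine exists_tvAt hF (fun h => hz ((tl_mk6 s s z).symm.trans ((congrArg tl h).trans rfl))) ?_
    rw [herm_mk6, hzz]
    linear_combination (s * s ^ 2) * t2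
  have inDd : ∀ {s : F} {z : W} {B : SU₆}, z ≠ 0 → IsTvAt (mk6 s s z) B → (QuotientGroup.mk B : PSU₆) ∈ Dd E a := by
    intro s z B hz hB
    refine (hE.mem_Dd_iff hF hA₀ hB).2 ⟨?_, smul_ne_of_tl (tl_mk6 1 1 0) (by rw [tl_mk6]; exact hz)⟩
    rw [herm_v₀ hF, mk6_zero, mk6_one, add_self' hF]
  have fib : ∀ {s : F} {z : W} {B B₀ : SU₆}, z ≠ 0 → IsTvAt (mk6 s s z) B → IsTvAt (mk6 0 0 z) B₀ →
      (QuotientGroup.mk B : PSU₆) = QuotientGroup.mk B₀ ∨
        (QuotientGroup.mk B : PSU₆) ∈ restLine E a (QuotientGroup.mk B₀) := by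
    intro s z B B₀ hz hB hB₀
    by_cases hs : s = 0
    · subst hs; exact Or.inl (congrArg _ (hB.unique hF hB₀))
    refine Or.inr ((hE.mem_restLine hF hA₀ hB₀ (inDd hz hB₀)).2 ⟨s⁻¹, B, inv_ne_zero hs, ?_, rfl⟩)
    have := hB.scale hF (inv_ne_zero hs)
    convert this using 1
    rw [v₀, smul_mk6, smul_mk6, add_mk6, inv_mul_cancel₀ hs, mul_zero, add_zero, zero_add]
  have uniq : ∀ {s s' : F} {z : W} {B B' : SU₆}, z ≠ 0 → 𝕙₄ z z = 0 → IsTvAt (mk6 s s z) B → IsTvAt (mk6 s' s' z) B' →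
      (QuotientGroup.mk B : PSU₆) ∈ T → (QuotientGroup.mk B' : PSU₆) ∈ T → s = s' := by
    intro s s' z B B' hz hzz hB hB' hBT hB'T
    obtain ⟨B₀, hB₀⟩ := isoM 0 z hz hzz
    obtain ⟨t, -, -, hu⟩ := hT.one _ (inDd hz hB₀)
    obtain ⟨c, -, hc⟩ := (hE.mk_eq_iff hF hB hB').1
      ((hu _ hBT (fib hz hB hB₀)).trans (hu _ hB'T (fib hz hB' hB₀)).symm)
    rw [smul_mk6, mk6_inj] at hc
    obtain ⟨i, hi⟩ : ∃ i, z i ≠ 0 := by by_contra! h; exact hz (funext h)
    have h1 := congrFun hc.2.2 i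
    have hc1 : c = 1 := mul_right_cancel₀ hi (by simpa using h1.symm)
    rw [hc.1, hc1, one_mul]
  have rep : ∀ t ∈ T, ∃ (s : F) (z : W) (B : SU₆), z ≠ 0 ∧ 𝕙₄ z z = 0 ∧ IsTvAt (mk6 s s z) B ∧
      (QuotientGroup.mk B : PSU₆) = t := by
    intro t ht
    obtain ⟨v, B, hB, rfl⟩ := hE.rep hF (hT.sub ht).1
    obtain ⟨h1, h2⟩ := (hE.mem_Dd_iff hF hA₀ hB).1 (hT.sub ht)
    rw [herm_v₀ hF] at h1
    have hv : v = mk6 (v 0) (v 0) (tl v) := by
      conv_lhs => rw [← mk6_tl v]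
      rw [mk6_inj]
      exact ⟨rfl, by linear_combination h1 - v 0 * t2, rfl⟩
    refine ⟨v 0, tl v, B, fun h => h2 (v 0) ?_, ?_, hv ▸ hB, rfl⟩
    · refine hv.trans ?_
      rw [h, v₀, smul_mk6, smul_zero, mul_one]
    · have := hB.2.1
      rw [hv, herm_mk6] at this
      linear_combination this - (v 0 * v 0 ^ 2) * t2
  have ex : ∀ z : W, ∃ s : F, z ≠ 0 → 𝕙₄ z z = 0 → ∃ B : SU₆, IsTvAt (mk6 s s z) B ∧ (QuotientGroup.mk B : PSU₆) ∈ T := by
    intro z
    by_cases hz : z ≠ 0 ∧ 𝕙₄ z z = 0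
    swap
    · exact ⟨0, fun h1 h2 => absurd ⟨h1, h2⟩ hz⟩
    obtain ⟨B₀, hB₀⟩ := isoM 0 z hz.1 hz.2
    obtain ⟨t, ht, hcase, -⟩ := hT.one _ (inDd hz.1 hB₀)
    rcases hcase with rfl | hl
    · exact ⟨0, fun _ _ => ⟨B₀, hB₀, ht⟩⟩
    obtain ⟨ξ, B, hξ, hB, rfl⟩ := (hE.mem_restLine hF hA₀ hB₀ (inDd hz.1 hB₀)).1 hl
    refine ⟨ξ⁻¹, fun _ _ => ⟨B, ?_, ht⟩⟩
    have := hB.scale hF (inv_ne_zero hξ)
    rwa [v₀, smul_mk6, add_mk6, smul_mk6, zero_add, smul_smul,
      inv_mul_cancel₀ hξ, one_smul, mul_zero, add_zero, mul_one] at this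
  choose f hf using ex
  have hsec : IsSection f := by
    refine ⟨fun c hc z hz hzz => ?_, fun z z' hz hzz hz' hzz' hperp hind ξ hξ => ?_,
      fun z z' hz hzz hz' hzz' hne => ?_⟩
    · have hcz : c • z ≠ 0 := smul_ne_zero hc hz
      have hczz : 𝕙₄ (c • z) (c • z) = 0 := by rw [hermForm_smul_left, hermForm_smul_right, hzz, mul_zero, mul_zero]
      obtain ⟨B, hB, hBT⟩ := hf z hz hzz
      obtain ⟨B', hB', hB'T⟩ := hf _ hcz hczz
      have hB2 := hB.scale hF hc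
      rw [smul_mk6] at hB2
      exact uniq hcz hczz hB' hB2 hB'T hBT
    · have hperp' : 𝕙₄ z' z = 0 := by rw [hermForm_symm hF 4, hperp, zero_pow two_ne_zero]
      obtain ⟨B, hB, hBT⟩ := hf z hz hzz
      obtain ⟨B', hB', hB'T⟩ := hf z' hz' hzz'
      have hne : (QuotientGroup.mk B : PSU₆) ≠ QuotientGroup.mk B' := fun h => by
        obtain ⟨c, -, hc⟩ := (hE.mk_eq_iff hF hB hB').1 h
        rw [smul_mk6, mk6_inj] at hc
        exact hind c hc.2.2
      have hBB : 𝕙 (mk6 (f z) (f z) z) (mk6 (f z') (f z') z') = 0 := by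
        rw [herm_mk6, hperp]; linear_combination (f z * f z' ^ 2) * t2
      have hcm := (commute_mk_iff hF hB hB').2 hBB
      obtain ⟨l, hnd, hlen, hlT, hlc, hlp, h1, h2⟩ := hT.line _ hBT _ hB'T hne hcm
      have hq : (QuotientGroup.mk B' : PSU₆) ∈ Dd E (QuotientGroup.mk B) := ⟨hE.hall hF hB', Ne.symm hne, hcm⟩
      have hzξ : z + ξ • z' ≠ 0 := fun h => hind (-ξ⁻¹) (by
        rw [eq_neg_of_add_eq_zero_left h, smul_neg, neg_smul, neg_neg, smul_smul, inv_mul_cancel₀ hξ, one_smul])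
      have hzzξ : 𝕙₄ (z + ξ • z') (z + ξ • z') = 0 := by
        simp [hermForm_add_left, hermForm_add_right hF, hermForm_smul_left, hermForm_smul_right, hzz, hzz',
          hperp, hperp']
      obtain ⟨C, hC⟩ := isoM (f z + ξ * f z') _ hzξ hzzξ
      have hCT : (QuotientGroup.mk C : PSU₆) ∈ T := hlT _ (hE.restLine_subset_five hF hnd hlen
        (fun y hy => (hT.sub (hlT y hy)).1) hlc hlp h1 h2 hne _ ((hE.mem_restLine hF hB hB' hq).2
          ⟨ξ, C, hξ, by rwa [smul_mk6, add_mk6], rfl⟩))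
      obtain ⟨C', hC', hC'T⟩ := hf _ hzξ hzzξ
      exact uniq hzξ hzzξ hC' hC hC'T hCT
    · obtain ⟨B, hB, hBT⟩ := hf z hz hzz
      obtain ⟨B', hB', hB'T⟩ := hf z' hz' hzz'
      set c := 𝕙₄ z' z with hc
      have hcc : 𝕙₄ z z' = c ^ 2 := hermForm_symm hF 4 z' z
      have hzc : z' + c • z ≠ 0 := fun h => hne (by
        rw [hc, eq_neg_of_add_eq_zero_left h, ← neg_smul, hermForm_smul_left, hzz, mul_zero])
      have hzzc : 𝕙₄ (z' + c • z) (z' + c • z) = 0 := by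
        rw [hermForm_add_left, hermForm_add_right hF, hermForm_add_right hF, hermForm_smul_left, hermForm_smul_left,
          hermForm_smul_right, hermForm_smul_right, hzz, hzz', hcc, ← hc]
        linear_combination (c ^ 3) * t2
      have h := hT.conj _ hBT _ hB'T
      have h1 := hB'.conj hF B
      rw [hB.apply, herm_mk6, ← hc, smul_mk6, add_mk6] at h1
      rw [show f z' * f z ^ 2 + f z' * f z ^ 2 + c = c by linear_combination (f z' * f z ^ 2) * t2] at h1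
      have hBi : B⁻¹ = B := inv_eq_of_mul_eq_one_right (hB.sq hF)
      rw [hBi] at h1
      obtain ⟨C, hC, hCT⟩ := hf _ hzc hzzc
      exact uniq hzc hzzc hC h1 hCT h
  obtain ⟨y, hy⟩ := hsec.exists_vec hF
  obtain ⟨w, hw0, hw1, hw⟩ := exists_omega hF
  have w3 := cube_eq_one hF hw0
  obtain ⟨β, γ, hbg, hiso⟩ : ∃ β γ : F, β + γ = 1 ∧ β * β ^ 2 + γ * γ ^ 2 + 𝕙₄ y y = 0 := by
    rcases sq_eq_self_cases hF (x := 𝕙₄ y y) (by rw [← hermForm_symm hF 4]) with h | h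
    · exact ⟨w, w ^ 2, by linear_combination hw - t2, by rw [h]; linear_combination (w ^ 3 + 2) * w3 + t2⟩
    · exact ⟨1, 0, add_zero 1, by rw [h]; linear_combination t2⟩
  have hxne : mk6 β γ y ≠ (0 : V) := fun h => one_ne_zero (α := F) (by
    have h0 := congrFun h 0
    have h1 := congrFun h 1
    rw [mk6_zero, Pi.zero_apply] at h0
    rw [mk6_one, Pi.zero_apply] at h1
    rw [← hbg, h0, h1, add_zero])
  obtain ⟨X, hX⟩ := exists_tvAt hF hxne (by rw [herm_mk6]; exact hiso)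
  have hna : ¬ Commute a (QuotientGroup.mk X : PSU₆) := fun h => by
    have h1 := herm_zero_symm hF ((commute_mk_iff hF hA₀ hX).1 h)
    rw [herm_v₀ hF, mk6_zero, mk6_one, hbg] at h1
    exact one_ne_zero h1
  refine ⟨_, hE.hall hF hX, hna, fun t ht => ?_⟩
  obtain ⟨s, z, B, hz, hzz, hB, rfl⟩ := rep t ht
  obtain ⟨B', hB', hB'T⟩ := hf z hz hzz
  have hs : s = 𝕙₄ z y := (uniq hz hzz hB hB' ht hB'T).trans (hy z hz hzz)
  refine ⟨hT.sub ht, hE.hall hF hB, fun e => hna (e ▸ (hT.sub ht).2.2), ((commute_mk_iff hF hB hX).2 ?_).symm⟩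
  rw [herm_mk6, ← hs]
  linear_combination (s * (β + γ + 1)) * hbg + (s - s * β * γ) * t2

/-- Every trace is the trace of a member. -/
theorem exists_of_trace {a : PSU₆} (ha : a ∈ E) {T : Set PSU₆} (hT : IsTrace E a T) :
    ∃ x ∈ E, ¬ Commute a x ∧ T ⊆ Dd E a ∩ Dd E x := by
  obtain ⟨v, A, hA, rfl⟩ := hE.rep hF ha
  obtain ⟨A₀, hA₀⟩ := exists_tvAt hF (v₀_ne hF) (v₀_iso hF)
  obtain ⟨s, hs⟩ := tv_conjugate hF hA₀ hA
  set g : PSU₆ := QuotientGroup.mk s
  have hga : g * QuotientGroup.mk A₀ * g⁻¹ = QuotientGroup.mk A := by rw [← hs]; rfl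
  have hcl := hE.closed hF
  have back : ∀ z : PSU₆, g⁻¹ * (g * z * g⁻¹) * g⁻¹⁻¹ = z := fun z => by group
  have forth : ∀ z : PSU₆, g * (g⁻¹ * z * g) * g⁻¹ = z := fun z => by group
  have hT₀ : IsTrace E (QuotientGroup.mk A₀ : PSU₆) {t | g * t * g⁻¹ ∈ T} := by
    refine ⟨fun t ht => ?_, fun e he => ?_, fun t ht t' ht' => ?_, fun t ht t' ht' hne hc => ?_⟩
    · have := conj_mem_Dd_conj hcl g⁻¹ (hT.sub ht)
      rwa [← hga, back, back] at this
    · have he' := conj_mem_Dd_conj hcl g he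
      rw [hga] at he'
      obtain ⟨t, ht, hcase, hu⟩ := hT.one _ he'
      refine ⟨g⁻¹ * t * g, by rw [Set.mem_ofPred_eq, forth]; exact ht, ?_, fun t' ht' h => ?_⟩
      · rcases hcase with rfl | hl
        · left; group
        · right
          have := hE.restLine_conj hF g⁻¹ hl
          rwa [← hga, back, back, inv_inv] at this
      · have := hu _ ht' (h.imp (fun e => by rw [e]) fun hl => hga ▸ hE.restLine_conj hF g hl)
        rw [← this]; group
    · have := hT.conj _ ht _ ht'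
      rw [Set.mem_ofPred_eq]
      rwa [show g * (t * t' * t) * g⁻¹ = g * t * g⁻¹ * (g * t' * g⁻¹) * (g * t * g⁻¹) by group]
    · obtain ⟨l, hnd, hlen, hlT, hlc, hlp, h1, h2⟩ := hT.line _ ht _ ht'
        (fun e => hne (mul_left_cancel (mul_right_cancel e))) ((commute_conj_iff g t t').2 hc)
      refine ⟨l.map (MulAut.conj g⁻¹), hnd.map (MulAut.conj g⁻¹).injective, by simpa using hlen, ?_, ?_, ?_, ?_, ?_⟩
      · intro y hy
        obtain ⟨u, hu, rfl⟩ := List.mem_map.1 hy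
        rw [Set.mem_ofPred_eq, MulAut.conj_apply, inv_inv, forth]
        exact hlT u hu
      · intro y hy y' hy'
        obtain ⟨u, hu, rfl⟩ := List.mem_map.1 hy
        obtain ⟨u', hu', rfl⟩ := List.mem_map.1 hy'
        exact (hlc u hu u' hu').map (MulAut.conj g⁻¹).toMonoidHom
      · rw [show l.map (MulAut.conj g⁻¹) = l.map (MulAut.conj g⁻¹).toMonoidHom from rfl, ← map_list_prod, hlp,
          map_one]
      · exact List.mem_map.2 ⟨_, h1, by rw [MulAut.conj_apply, back]⟩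
      · exact List.mem_map.2 ⟨_, h2, by rw [MulAut.conj_apply, back]⟩
  obtain ⟨x, hx, hnc, hsub⟩ := hE.exists_of_trace_std hF hA₀ hT₀
  refine ⟨g * x * g⁻¹, hE.conj g x hx, fun h => hnc ((commute_conj_iff g _ _).1 (by rwa [hga])), fun t ht => ?_⟩
  obtain ⟨h1, h2⟩ := hsub (show g⁻¹ * t * g ∈ {t | g * t * g⁻¹ ∈ T} by rw [Set.mem_ofPred_eq, forth]; exact ht)
  have h1' := conj_mem_Dd_conj hcl g h1
  have h2' := conj_mem_Dd_conj hcl g h2
  rw [forth] at h1' h2'
  exact ⟨hga ▸ h1', h2'⟩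

/-- A member commuting with one member of a trace and with its neighbours in the trace, and fixed up to the
pair by the stabiliser of that member, is one of the pair. -/
theorem pair_of_invariant {a x q y : PSU₆} (ha : a ∈ E) (hx : x ∈ E) (hax : ¬ Commute a x)
    (hq : q ∈ Dd E a ∩ Dd E x) (hy : y ∈ E) (hay : ¬ Commute a y) (hqy : Commute y q)
    (hu : ∀ u ∈ Dd E a ∩ Dd E x, u ∈ Dd E q → Commute y u)
    (hg : ∀ g ∈ Subgroup.closure (Dd E a ∩ Dd E x), Commute g q → g * y * g⁻¹ = y ∨ g * y * g⁻¹ = a * y * a) :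
    y = x ∨ y = a * x * a := by
  have t2 := two_eq_zero hF
  obtain ⟨w, hw0, hw1, hw⟩ := exists_omega hF
  have w3 := cube_eq_one hF hw0
  obtain ⟨hu0, huu, hvu, huv⟩ := u₀_spec hF hw0 hw
  obtain ⟨A₀, hA₀⟩ := exists_tvAt hF (v₀_ne hF) (v₀_iso hF)
  obtain ⟨U₀, hU₀⟩ := exists_tvAt hF hu0 huu
  obtain ⟨g, hga, hgx⟩ := hE.normal hF hw0 hw hA₀ hU₀ ha hx hax
  have hcl := hE.closed hF
  have back : ∀ z : PSU₆, g⁻¹ * (g * z * g⁻¹) * g⁻¹⁻¹ = z := fun z => by group
  have hq₀ : g⁻¹ * q * g⁻¹⁻¹ ∈ Dd E (QuotientGroup.mk A₀) ∩ Dd E (QuotientGroup.mk U₀) := by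
    refine ⟨?_, ?_⟩
    · have := conj_mem_Dd_conj hcl g⁻¹ hq.1
      rwa [← hga, back] at this
    · have := conj_mem_Dd_conj hcl g⁻¹ hq.2
      rwa [← hgx, back] at this
  obtain ⟨z, Z, hZ, hzz, hz0, hZq⟩ := hE.pair_tail hF hw hA₀ hU₀ hq₀
  have hgq : g * QuotientGroup.mk Z * g⁻¹ = q := by rw [hZq]; group
  obtain ⟨x₁, Q, hQ, hQy⟩ := hE.rep hF (hE.conj g⁻¹ y hy)
  have hgy : g * QuotientGroup.mk Q * g⁻¹ = y := by rw [hQy]; group
  have hxv : 𝕙 x₁ v₀ ≠ 0 := fun e => hay (by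
    rw [← hga, ← hgy, commute_conj_iff, commute_mk_iff hF hA₀ hQ]
    exact herm_zero_symm hF e)
  have hQ' := hQ.scale hF (inv_ne_zero hxv)
  set v : V := (𝕙 x₁ v₀)⁻¹ • x₁ with hv
  have hv1 : v 0 + v 1 = 1 := by rw [← herm_v₀ hF, hv, hermForm_smul_left, inv_mul_cancel₀ hxv]
  set m := tl v with hm
  have hzm : 𝕙₄ m z = 0 := by
    have h1 : Commute (QuotientGroup.mk Q : PSU₆) (QuotientGroup.mk Z) := (commute_conj_iff g _ _).1 (by
      rw [hgy, hgq]; exact hqy)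
    have h2 := (commute_mk_iff hF hQ' hZ).1 h1
    rwa [herm_split, mk6_zero, mk6_one, tl_mk6, zero_pow two_ne_zero, mul_zero, mul_zero, zero_add, zero_add] at h2
  -- the frame
  set e : W := ![1, 1, 0, 0] with he
  obtain ⟨γ, hγ⟩ := exists_GU_family hF ![e] ![z]
    (LinearIndependent.of_subsingleton 0 fun h => one_ne_zero (α := F) (congrFun h 0))
    (LinearIndependent.of_subsingleton 0 hz0) (fun i j => by
      fin_cases i; fin_cases j
      simp only [Fin.zero_eta, Matrix.cons_val_fin_one, hzz, herm_four hF, he]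
      simp; linear_combination t2)
  have hG : ∀ p p', 𝕙₄ (γ.1.val *ᵥ p) (γ.1.val *ᵥ p') = 𝕙₄ p p' := mem_GU_iff.1 γ.2
  have hγe : γ.1.val *ᵥ e = z := hγ 0
  set m' := γ⁻¹.1.val *ᵥ m with hm'
  have hmm : γ.1.val *ᵥ m' = m := by rw [hm', ← GU_mul_mulVec, mul_inv_cancel, GU_one_mulVec]
  have h01 : m' 0 + m' 1 = 0 := by
    rw [← hmm, ← hγe, hG, herm_four hF] at hzm
    simpa [he] using hzm
  have htail : ∀ c : F, c ≠ 0 → m' 2 + m' 3 * c ^ 2 = 0 := by
    intro c hc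
    set u : W := γ.1.val *ᵥ ![0, 0, 1, c] with hudef
    have huu4 : 𝕙₄ u u = 0 := by
      rw [hudef, hG, herm_four hF]; simp
      linear_combination cube_eq_one hF hc + t2
    have huz : 𝕙₄ u z = 0 := by rw [hudef, ← hγe, hG, herm_four hF]; simp [he]
    have hune : ∀ s : F, u ≠ s • z := fun s h => by
      rw [hudef, ← hγe, ← Matrix.mulVec_smul] at h
      have h' := congrArg (γ⁻¹.1.val *ᵥ ·) h
      simp only [← GU_mul_mulVec, inv_mul_cancel, GU_one_mulVec] at h'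
      simpa [he] using congrFun h' 2
    have hu0' : u ≠ 0 := fun h => hune 0 (by rw [h, zero_smul])
    obtain ⟨U, hU⟩ := exists_tvAt hF (v := mk6 0 0 u)
      (fun h => hu0' ((tl_mk6 0 0 u).symm.trans ((congrArg tl h).trans rfl)))
      (by rw [herm_mk6, huu4]; ring)
    obtain ⟨hUa, hUx⟩ := hE.tail_mem_pair hF hA₀ hU₀ hU
    have hUq : (QuotientGroup.mk U : PSU₆) ∈ Dd E (QuotientGroup.mk Z) := (hE.mem_Dd_iff hF hZ hU).2
      ⟨by rw [herm_mk6, huz]; ring, fun s h => hune s (by rw [smul_mk6, mk6_inj] at h; exact h.2.2)⟩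
    have h3 := hu _ ⟨hga ▸ conj_mem_Dd_conj hcl g hUa, hgx ▸ conj_mem_Dd_conj hcl g hUx⟩
      (hgq ▸ conj_mem_Dd_conj hcl g hUq)
    rw [← hgy, commute_conj_iff, commute_mk_iff hF hQ' hU, herm_split, mk6_zero, mk6_one, tl_mk6] at h3
    rw [zero_pow two_ne_zero, mul_zero, mul_zero, zero_add, zero_add, ← hm, ← hmm, hudef, hG, herm_four hF] at h3
    simpa using h3
  have h1t := htail 1 one_ne_zero
  have hwt := htail w hw0
  have h3' : m' 3 = 0 := by
    have : m' 3 * (1 + w ^ 2) = 0 := by linear_combination h1t + hwt - m' 2 * t2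
    exact (mul_eq_zero.1 this).resolve_right fun h => hw0 (by linear_combination hw - h)
  have h2' : m' 2 = 0 := by linear_combination h1t - h3'
  have hm'e : m' = m' 0 • e := by
    funext i
    fin_cases i <;> simp [he, h2', h3']
    linear_combination h01 - m' 0 * t2
  -- the torus moves the tail
  let L : W →ₗ[F] W :=
    { toFun := fun p => ![w, w, w ^ 2, w ^ 2] * p
      map_add' := fun p p' => mul_add _ _ _
      map_smul' := fun c p => mul_smul_comm _ _ _ }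
  obtain ⟨τ, hτ⟩ := exists_GU_of_preserving hF L (fun p p' => by
    show 𝕙₄ (![w, w, w ^ 2, w ^ 2] * p) (![w, w, w ^ 2, w ^ 2] * p') = 𝕙₄ p p'
    simp [herm_four hF]
    linear_combination (p 0 * p' 0 ^ 2 + p 1 * p' 1 ^ 2) * w3 +
      (p 2 * p' 2 ^ 2 + p 3 * p' 3 ^ 2) * (w ^ 3 + 1) * w3)
  have hτd : τ.1.val.det = 1 := by
    have : τ.1.val = Matrix.diagonal ![w, w, w ^ 2, w ^ 2] := Matrix.ext_of_mulVec_single fun i => by
      rw [hτ]; funext j; fin_cases i <;> fin_cases j <;> simp [L, Matrix.diagonal, Pi.single_apply]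
    rw [this, Matrix.det_diagonal]
    simp [Fin.prod_univ_four]
    linear_combination (w ^ 3 + 1) * w3
  obtain ⟨M, hM⟩ := exists_SU_of_GU (γ * τ * γ⁻¹) (by
    have h1 : γ.1.val * γ⁻¹.1.val = 1 := by
      rw [← Units.val_mul, ← Subgroup.coe_mul, mul_inv_cancel]; rfl
    have h2 := congrArg Matrix.det h1
    rw [Matrix.det_mul, Matrix.det_one] at h2
    show (γ.1.val * τ.1.val * γ⁻¹.1.val).det = 1
    rw [Matrix.det_mul, Matrix.det_mul, hτd, mul_one, h2])
  have hMap : ∀ p : W, M.1.1 *ᵥ (γ.1.val *ᵥ p) = γ.1.val *ᵥ L p := fun p => by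
    rw [hM, GU_mul_mulVec, GU_mul_mulVec, ← GU_mul_mulVec γ⁻¹ γ, inv_mul_cancel, GU_one_mulVec, hτ]
  have hLe : L e = w • e := by funext i; fin_cases i <;> simp [L, he]
  have hMz : M.1.1 *ᵥ z = w • z := by rw [← hγe, hMap, hLe, Matrix.mulVec_smul]
  have hMm : M.1.1 *ᵥ m = w • m := by
    rw [← hmm, hm'e, hMap, map_smul, hLe, smul_comm, Matrix.mulVec_smul]
  obtain ⟨k, hk, hkx⟩ := isExt_all hF M
  have hkc : g * QuotientGroup.mk k * g⁻¹ ∈ Subgroup.closure (Dd E a ∩ Dd E x) := by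
    have hmap : (tailTv F).map ((MulAut.conj g).toMonoidHom.comp (QuotientGroup.mk' (Subgroup.center SU₆))) ≤
        Subgroup.closure (Dd E a ∩ Dd E x) := by
      rw [tailTv, MonoidHom.map_closure, Subgroup.closure_le]
      rintro _ ⟨B, ⟨u, hB⟩, rfl⟩
      obtain ⟨h1, h2⟩ := hE.tail_mem_pair hF hA₀ hU₀ hB
      refine Subgroup.subset_closure ⟨?_, ?_⟩
      · have := conj_mem_Dd_conj hcl g h1
        rwa [hga] at this
      · have := conj_mem_Dd_conj hcl g h2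
        rwa [hgx] at this
    exact hmap ⟨k, hk, rfl⟩
  have hkq : (QuotientGroup.mk k : PSU₆) * QuotientGroup.mk Z * (QuotientGroup.mk k)⁻¹ = QuotientGroup.mk Z :=
    hE.conj_mk hF hZ hZ hw0 (by rw [hkx, mk6_zero, mk6_one, tl_mk6, hMz, smul_mk6, mul_zero])
  have hk2 := hg _ hkc (by
    rw [← hgq, commute_conj_iff]
    exact mul_inv_eq_iff_eq_mul.1 hkq)
  have hkv : IsTvAt (mk6 (v 0) (v 1) (w • m)) (k * Q * k⁻¹) := by
    have := hQ'.conj hF k
    rwa [hkx, ← hm, hMm] at this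
  have cancel : ∀ {P : PSU₆}, g * P * g⁻¹ = g * QuotientGroup.mk (k * Q * k⁻¹) * g⁻¹ →
      P = QuotientGroup.mk (k * Q * k⁻¹) := fun h => mul_left_cancel (mul_right_cancel h)
  have hconjk : g * QuotientGroup.mk k * g⁻¹ * y * (g * QuotientGroup.mk k * g⁻¹)⁻¹ =
      g * QuotientGroup.mk (k * Q * k⁻¹) * g⁻¹ := by
    rw [← hgy, QuotientGroup.mk_mul, QuotientGroup.mk_mul, QuotientGroup.mk_inv]; group
  rw [hconjk] at hk2
  have hm0 : m = 0 := by
    have fin : ∀ c : F, (v 0 + v 1) * c = 1 → w • m = c • m → m = 0 := by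
      intro c hc h
      rw [hv1, one_mul] at hc
      rw [hc, one_smul] at h
      by_contra hne
      obtain ⟨i, hi⟩ : ∃ i, m i ≠ 0 := by by_contra! hh; exact hne (funext hh)
      exact hw1 (mul_right_cancel₀ hi (by simpa using congrFun h i))
    rcases hk2 with h | h
    · have h' := cancel (P := QuotientGroup.mk Q) (by rw [hgy, h])
      obtain ⟨c, -, hc⟩ := (hE.mk_eq_iff hF hQ' hkv).1 h'
      rw [← mk6_tl v, smul_mk6, ← hm, mk6_inj] at hc
      simp only [mk6_zero, mk6_one] at hc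
      refine fin c ?_ hc.2.2
      linear_combination -hc.1 - hc.2.1 + hv1
    · have h1 := hQ'.conj hF A₀
      rw [hA₀.apply, herm_v₀ hF, hv1, one_smul] at h1
      have hA₀i : A₀⁻¹ = A₀ := inv_eq_of_mul_eq_one_right (hA₀.sq hF)
      rw [hA₀i] at h1
      have h' := cancel (P := QuotientGroup.mk (A₀ * Q * A₀)) (by
        rw [h, QuotientGroup.mk_mul, QuotientGroup.mk_mul, ← hga, ← hgy]; group)
      obtain ⟨c, -, hc⟩ := (hE.mk_eq_iff hF h1 hkv).1 h'
      rw [← mk6_tl v, v₀, add_mk6, smul_mk6, add_zero, ← hm, mk6_inj] at hc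
      simp only [mk6_zero, mk6_one] at hc
      refine fin c ?_ hc.2.2
      linear_combination -hc.1 - hc.2.1 + hv1 - c * t2
  refine hE.farTwins hF ha hx hy hax hay fun u hu' => ?_
  obtain ⟨p, P, hP, hPu⟩ := hE.rep hF (hE.conj g⁻¹ u hu'.1)
  have hgu : g * QuotientGroup.mk P * g⁻¹ = u := by rw [hPu]; group
  have hpa : p 0 + p 1 = 0 := by
    have h1 := hu'.2.2
    rw [← hga, ← hgu, commute_conj_iff, commute_mk_iff hF hA₀ hP] at h1
    rw [← herm_v₀ hF]
    exact herm_zero_symm hF h1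
  rw [← hgx, ← hgy, ← hgu, commute_conj_iff, commute_conj_iff, Commute.symm_iff, commute_mk_iff hF hP hU₀,
    Commute.symm_iff (a := (QuotientGroup.mk Q : PSU₆)), commute_mk_iff hF hP hQ']
  rw [herm_split, herm_split (y := v), ← hm, hm0, u₀, mk6_zero, mk6_one, tl_mk6, hermForm_zero_right hF, add_zero,
    add_zero]
  have hp1 : p 1 = p 0 := by linear_combination hpa - p 0 * t2
  rw [hp1, show p 0 * w ^ 2 + p 0 * (w ^ 2) ^ 2 = p 0 by linear_combination p 0 * (hw - t2) + p 0 * w * w3,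
    show p 0 * v 0 ^ 2 + p 0 * v 1 ^ 2 = p 0 by
      linear_combination p 0 * (v 0 + v 1 + 1) * hv1 - p 0 * v 0 * v 1 * t2]

end TClass

end CfsgLib.ThreeTrans.USix
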