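import Mathlib
import Cfsg.Agent.Lib.ThreeTrans.Uniq.Twist
import Cfsg.Agent.Lib.ThreeTrans.Uniq.Match
import Cfsg.Agent.Lib.ThreeTrans.Uniq.UnitaryTrace
import Cfsg.Agent.Lib.ThreeTrans.Tower.Hexad

/-! The relations of six members seen in `PSU(6,2)`: those with a given product upstairs form one class, and
semilinear maps permute the classes. -/

set_option autoImplicit false
set_option linter.unusedSectionVars false

namespace CfsgLib.ThreeTrans.Uniq

open CfsgLib.ThreeTrans CfsgLib.ThreeTrans.Tower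

/-- Distinct commuting members with product one. -/
structure IsRel {Y : Type*} [Group Y] (E : Set Y) (n : ℕ) (l : List Y) : Prop where
  nd : l.Nodup
  len : l.length = n
  mem : ∀ x ∈ l, x ∈ E
  comm : ∀ x ∈ l, ∀ y ∈ l, Commute x y
  prod : l.prod = 1

/-- Six members in standard position for the class `k` up to conjugation. -/
def InClass {F : Type*} [Field F] [Fintype F] (k : F) (m : List (Cfsg.PSU 6 F 2)) : Prop :=
  ∃ g : Cfsg.PSU 6 F 2, ∀ x ∈ m, g * x * g⁻¹ ∈ USix.ovalSet k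

theorem prod_perm {Y : Type*} [Monoid Y] {l l' : List Y} (h : l.Perm l') (hc : ∀ x ∈ l, ∀ y ∈ l, Commute x y) :
    l.prod = l'.prod := h.prod_eq' (List.pairwise_of_forall_mem_list hc)

theorem IsRel.perm {Y : Type*} [Group Y] {E : Set Y} {n : ℕ} {l l' : List Y} (h : IsRel E n l) (hp : l.Perm l') :
    IsRel E n l' :=
  ⟨hp.nodup_iff.1 h.nd, hp.length_eq.symm.trans h.len, fun x hx => h.mem x (hp.symm.subset hx),
    fun x hx y hy => h.comm x (hp.symm.subset hx) y (hp.symm.subset hy), (prod_perm hp h.comm).symm.trans h.prod⟩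

theorem IsRel.conj {Y : Type*} [Group Y] {E : Set Y} {n : ℕ} {l : List Y} (hE : ∀ g : Y, ∀ x ∈ E, g * x * g⁻¹ ∈ E)
    (h : IsRel E n l) (g : Y) : IsRel E n (l.map (MulAut.conj g).toMonoidHom) := by
  refine ⟨h.nd.map (MulAut.conj g).injective, by simpa using h.len, fun x hx => ?_, fun x hx y hy => ?_, ?_⟩
  · obtain ⟨u, hu, rfl⟩ := List.mem_map.1 hx
    exact hE g u (h.mem u hu)
  · obtain ⟨u, hu, rfl⟩ := List.mem_map.1 hx
    obtain ⟨w, hw, rfl⟩ := List.mem_map.1 hy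
    exact (h.comm u hu w hw).map _
  · rw [← map_list_prod, h.prod, map_one]

theorem perm_of_subset_length {α : Type*} {l l' : List α} (hnd : l.Nodup) (hs : l ⊆ l')
    (hlen : l'.length ≤ l.length) : l.Perm l' := (List.subperm_of_subset hnd hs).perm_of_length_le hlen

section AtMember

variable {G Y : Type*} [Group G] [Finite G] [Group Y] {D : Set G} {E : Set Y} {a : G} {π : Hd D a →* Y}

/-- The image of members commuting with `a` whose product acts trivially. -/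
theorem img_isRel (M : Model D a E π) {n : ℕ} {u : List G} (hnd : u.Nodup) (hlen : u.length = n)
    (hu : ∀ x ∈ u, x ∈ Dd D a) (hc : ∀ x ∈ u, ∀ y ∈ u, Commute x y) (hp : ∀ y ∈ Dd D a, Commute u.prod y) :
    IsRel E n (u.map (phi π)) := by
  refine ⟨hnd.map_on fun x hx y hy => M.inj (hu x hx) (hu y hy), by simpa using hlen, fun e he => ?_,
    fun e he e' he' => ?_, ?_⟩
  · obtain ⟨x, hx, rfl⟩ := List.mem_map.1 he
    exact M.mem (hu x hx)
  · obtain ⟨x, hx, rfl⟩ := List.mem_map.1 he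
    obtain ⟨y, hy, rfl⟩ := List.mem_map.1 he'
    exact (M.comm (hu x hx) (hu y hy)).2 (hc x hx y hy)
  · obtain ⟨h, hh, hπ⟩ := phi_prod (π := π) u hu
    rw [← hπ, M.base.map_eq_one_iff', hh]
    exact hp

/-- Members whose images have product one. -/
theorem central_of_img (M : Model D a E π) {u : List G} (hu : ∀ x ∈ u, x ∈ Dd D a)
    (hp : (u.map (phi π)).prod = 1) : Commute u.prod a ∧ ∀ y ∈ Dd D a, Commute u.prod y := by
  obtain ⟨h, hh, hπ⟩ := phi_prod (π := π) u hu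
  rw [← hh]
  exact ⟨commute_of_mem_Hd h.2, (M.base.map_eq_one_iff' h).1 (hπ.trans hp)⟩

/-- A relation seen at one of its members. -/
theorem IsRel.at_mem [DecidableEq G] {n : ℕ} {l : List G} (h : IsRel D (n + 1) l) (hp : a ∈ l) (M : Model D a E π) :
    IsRel E n ((l.erase a).map (phi π)) ∧ (∀ x ∈ l.erase a, x ∈ Dd D a) ∧ (l.erase a).prod = a := by
  have hm : ∀ x ∈ l.erase a, x ∈ Dd D a := fun x hx => by
    obtain ⟨hne, hx'⟩ := h.nd.mem_erase_iff.1 hx
    exact ⟨h.mem x hx', hne, h.comm a hp x hx'⟩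
  have hprod : (l.erase a).prod = a := by
    have h1 := prod_perm (List.perm_cons_erase hp) h.comm
    rw [h.prod, List.prod_cons] at h1
    exact (eq_inv_of_mul_eq_one_right h1.symm).trans (inv_eq M.base.group.1 (h.mem a hp))
  refine ⟨img_isRel M (h.nd.erase a) (by rw [List.length_erase_of_mem hp, h.len]; omega) hm
    (fun x hx y hy => h.comm x (List.erase_subset hx) y (List.erase_subset hy)) ?_, hm, hprod⟩
  rw [hprod]
  exact fun y hy => hy.2.2

/-- Members commuting with `a` with product `a`, and their images. -/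
theorem prod_eq_iff [Finite Y] {N k l m : ℕ} (S : Stage D E N k l m) (ha : a ∈ D) (M : Model D a E π) {j : ℕ}
    (hno : NoRel D j) {u : List G} (hnd : u.Nodup) (hlen : u.length = j) (hu : ∀ x ∈ u, x ∈ Dd D a)
    (hc : ∀ x ∈ u, ∀ y ∈ u, Commute x y) : u.prod = a ↔ (u.map (phi π)).prod = 1 := by
  constructor
  · intro e
    exact (img_isRel M hnd rfl hu hc fun y hy => e ▸ hy.2.2).prod
  · intro e
    obtain ⟨h1, h2⟩ := central_of_img M hu e
    exact (S.kernel ha h1 h2).resolve_left (hno u hnd hlen (fun x hx => (hu x hx).1) hc)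

end AtMember

/-- Two relations of six in a group over `PSU(6,2)` with three members in common are equal. -/
theorem share_three {G : Type*} [Group G] [Finite G] {D : Set G} {F : Type*} [Field F] [Fintype F]
    (hF : Fintype.card F = 2 ^ 2) {E : Set (Cfsg.PSU 6 F 2)} (hT : USix.TClass E) {N k l' m : ℕ}
    (S : Stage D E N k l' m) {l₁ l₂ : List G} (h₁ : IsRel D 6 l₁) (h₂ : IsRel D 6 l₂) {p q r : G}
    (hp : p ∈ l₁) (hq : q ∈ l₁) (hr : r ∈ l₁) (hp' : p ∈ l₂) (hq' : q ∈ l₂) (hr' : r ∈ l₂)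
    (npq : p ≠ q) (npr : p ≠ r) (nqr : q ≠ r) : l₁ ⊆ l₂ := by
  classical
  obtain ⟨π, M⟩ := S.base p (h₁.mem p hp)
  obtain ⟨i₁, m₁, -⟩ := h₁.at_mem hp M
  obtain ⟨i₂, m₂, -⟩ := h₂.at_mem hp' M
  have hq₁ : q ∈ l₁.erase p := (List.mem_erase_of_ne (Ne.symm npq)).2 hq
  have hr₁ : r ∈ l₁.erase p := (List.mem_erase_of_ne (Ne.symm npr)).2 hr
  have hq₂ : q ∈ l₂.erase p := (List.mem_erase_of_ne (Ne.symm npq)).2 hq'
  have hr₂ : r ∈ l₂.erase p := (List.mem_erase_of_ne (Ne.symm npr)).2 hr'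
  intro x hx
  by_cases hxp : x = p
  · rwa [hxp]
  by_cases hxq : x = q
  · rwa [hxq]
  by_cases hxr : x = r
  · rwa [hxr]
  have hx₁ : x ∈ l₁.erase p := (List.mem_erase_of_ne hxp).2 hx
  have hne : phi π q ≠ phi π r := fun e => nqr (M.inj (m₁ q hq₁) (m₁ r hr₁) e)
  have hline : phi π x ∈ USix.TClass.restLine E (phi π q) (phi π r) := by
    refine ⟨M.mem (m₁ x hx₁), fun e => hxq (M.inj (m₁ x hx₁) (m₁ q hq₁) e),
      fun e => hxr (M.inj (m₁ x hx₁) (m₁ r hr₁) e), fun z hz zq zr => ?_⟩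
    exact ((hT.lineClass' hF).five _ i₁.nd i₁.len i₁.mem i₁.comm i₁.prod _ (List.mem_map_of_mem hq₁) _
      (List.mem_map_of_mem hr₁) hne _ (List.mem_map_of_mem hx₁) z hz zq zr).symm
  obtain ⟨y, hy, e⟩ := List.mem_map.1 (hT.restLine_subset_five hF i₂.nd i₂.len i₂.mem i₂.comm i₂.prod
    (List.mem_map_of_mem hq₂) (List.mem_map_of_mem hr₂) hne _ hline)
  rw [← M.inj (m₂ y hy) (m₁ x hx₁) e]
  exact List.erase_subset hy

/-- Two relations of seven with four members in common are equal. -/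
theorem share_four {G : Type*} [Group G] [Finite G] {D : Set G} {Y : Type*} [Group Y] [Finite Y] {E : Set Y}
    {N k l' m : ℕ} (S : Stage D E N k l' m) {F : Type*} [Field F] [Fintype F] (hF : Fintype.card F = 2 ^ 2)
    {E₀ : Set (Cfsg.PSU 6 F 2)} (hT : USix.TClass E₀) {N' k₀ l₀ m₀ : ℕ} (S' : Stage E E₀ N' k₀ l₀ m₀)
    {l₁ l₂ : List G} (h₁ : IsRel D 7 l₁) (h₂ : IsRel D 7 l₂) {s p q r : G}
    (hs : s ∈ l₁) (hp : p ∈ l₁) (hq : q ∈ l₁) (hr : r ∈ l₁) (hs' : s ∈ l₂) (hp' : p ∈ l₂) (hq' : q ∈ l₂)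
    (hr' : r ∈ l₂) (nsp : p ≠ s) (nsq : q ≠ s) (nsr : r ≠ s) (npq : p ≠ q) (npr : p ≠ r) (nqr : q ≠ r) :
    l₁ ⊆ l₂ := by
  classical
  obtain ⟨π, M⟩ := S.base s (h₁.mem s hs)
  obtain ⟨i₁, m₁, -⟩ := h₁.at_mem hs M
  obtain ⟨i₂, m₂, -⟩ := h₂.at_mem hs' M
  have e₁ : ∀ {x}, x ≠ s → x ∈ l₁ → x ∈ l₁.erase s := fun h hx => (List.mem_erase_of_ne h).2 hx
  have e₂ : ∀ {x}, x ≠ s → x ∈ l₂ → x ∈ l₂.erase s := fun h hx => (List.mem_erase_of_ne h).2 hx
  have ne' : ∀ {x y}, x ∈ l₁.erase s → y ∈ l₁.erase s → x ≠ y → phi π x ≠ phi π y :=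
    fun hx hy h e => h (M.inj (m₁ _ hx) (m₁ _ hy) e)
  have hsub := share_three hF hT S' i₁ i₂ (List.mem_map_of_mem (e₁ nsp hp)) (List.mem_map_of_mem (e₁ nsq hq))
    (List.mem_map_of_mem (e₁ nsr hr)) (List.mem_map_of_mem (e₂ nsp hp')) (List.mem_map_of_mem (e₂ nsq hq'))
    (List.mem_map_of_mem (e₂ nsr hr')) (ne' (e₁ nsp hp) (e₁ nsq hq) npq) (ne' (e₁ nsp hp) (e₁ nsr hr) npr)
    (ne' (e₁ nsq hq) (e₁ nsr hr) nqr)
  intro x hx
  by_cases hxs : x = s
  · rwa [hxs]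
  obtain ⟨y, hy, e⟩ := List.mem_map.1 (hsub (List.mem_map_of_mem (e₁ hxs hx)))
  rw [← M.inj (m₂ y hy) (m₁ x (e₁ hxs hx)) e]
  exact List.erase_subset hy

/-- Members mapped bijectively to the transvections, with the group acting through them. -/
structure Chart {G : Type*} [Group G] {F : Type*} [Field F] [Fintype F] (A : Set G) (χ : G → Cfsg.PSU 6 F 2)
    (E : Set (Cfsg.PSU 6 F 2)) (τ : G) : Prop where
  bij : Set.BijOn χ A E
  comm : ∀ x ∈ A, ∀ y ∈ A, (Commute (χ x) (χ y) ↔ Commute x y)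
  lift : ∀ g : Cfsg.PSU 6 F 2, ∃ h : G, Commute h τ ∧
    ∀ x ∈ A, h * x * h⁻¹ ∈ A ∧ χ (h * x * h⁻¹) = g * χ x * g⁻¹

/-- The sixes with product `τ` form one class. -/
theorem Chart.exists_class {G : Type*} [Group G] [Finite G] {F : Type*} [Field F] [Fintype F]
    (hF : Fintype.card F = 2 ^ 2) {A : Set G} {χ : G → Cfsg.PSU 6 F 2} {E : Set (Cfsg.PSU 6 F 2)} {τ : G}
    (C : Chart A χ E τ) (hT : USix.TClass E)
    (hex : ∃ u : List G, (∀ x ∈ u, x ∈ A) ∧ IsRel E 6 (u.map χ) ∧ u.prod = τ)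
    (huniq : ∀ u u' : List G, (∀ x ∈ u, x ∈ A) → (∀ x ∈ u', x ∈ A) → IsRel E 6 (u.map χ) → IsRel E 6 (u'.map χ) →
      u.prod = τ → u'.prod = τ → ∀ p q r, p ∈ u → q ∈ u → r ∈ u → p ∈ u' → q ∈ u' → r ∈ u' →
        p ≠ q → p ≠ r → q ≠ r → u ⊆ u') :
    ∃ k : F, k ≠ 0 ∧
      ∀ u : List G, (∀ x ∈ u, x ∈ A) → IsRel E 6 (u.map χ) → (u.prod = τ ↔ InClass k (u.map χ)) := by
  classical
  set t := Function.invFunOn χ A with ht
  have tA : ∀ {e}, e ∈ E → t e ∈ A ∧ χ (t e) = e := fun he =>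
    ⟨Function.invFunOn_mem (C.bij.surjOn he), Function.invFunOn_eq (C.bij.surjOn he)⟩
  have tχ : ∀ {x}, x ∈ A → t (χ x) = x := fun hx => C.bij.injOn.leftInvOn_invFunOn hx
  have tmap : ∀ {u : List G}, (∀ x ∈ u, x ∈ A) → (u.map χ).map t = u := fun hu => by
    rw [List.map_map]
    exact (List.map_congr_left fun x hx => tχ (hu x hx)).trans (List.map_id _)
  -- the property of a six
  let P : List (Cfsg.PSU 6 F 2) → Prop := fun m => (m.map t).prod = τ
  have memA : ∀ {m}, IsRel E 6 m → ∀ x ∈ m.map t, x ∈ A := fun hm x hx => by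
    obtain ⟨e, he, rfl⟩ := List.mem_map.1 hx
    exact (tA (hm.mem e he)).1
  have back : ∀ {m}, IsRel E 6 m → (m.map t).map χ = m := fun hm => by
    rw [List.map_map]
    exact (List.map_congr_left fun e he => (tA (hm.mem e he)).2).trans (List.map_id _)
  have hperm : ∀ {m m'}, IsRel E 6 m → m.Perm m' → P m → P m' := fun {m m'} hm hp h => by
    show (m'.map t).prod = τ
    rw [← prod_perm (hp.map t) fun x hx y hy => ?_, h]
    obtain ⟨e, he, rfl⟩ := List.mem_map.1 hx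
    obtain ⟨e', he', rfl⟩ := List.mem_map.1 hy
    refine (C.comm _ (tA (hm.mem e he)).1 _ (tA (hm.mem e' he')).1).1 ?_
    rw [(tA (hm.mem e he)).2, (tA (hm.mem e' he')).2]
    exact hm.comm e he e' he'
  have hinv : ∀ (g) {m}, IsRel E 6 m → P m → P (m.map (MulAut.conj g).toMonoidHom) := by
    intro g m hm h
    obtain ⟨z, hzτ, hz⟩ := C.lift g
    show (((m.map _).map t)).prod = τ
    have e : (m.map (MulAut.conj g).toMonoidHom).map t = (m.map t).map (MulAut.conj z).toMonoidHom := by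
      rw [List.map_map, List.map_map]
      refine List.map_congr_left fun x hx => ?_
      obtain ⟨hA, hχ⟩ := hz _ (tA (hm.mem x hx)).1
      have h2 := tχ hA
      rw [hχ, (tA (hm.mem x hx)).2] at h2
      exact h2
    rw [e, ← map_list_prod, h]
    show z * τ * z⁻¹ = τ
    rw [hzτ.eq, mul_inv_cancel_right]
  obtain ⟨u₀, hu₀, hm₀, hp₀⟩ := hex
  have hP₀ : P (u₀.map χ) := by show ((u₀.map χ).map t).prod = τ; rw [tmap hu₀, hp₀]
  -- the standard list of a class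
  have std : ∀ {m}, IsRel E 6 m → P m → ∀ {g : Cfsg.PSU 6 F 2} {k : F}, k ≠ 0 →
      (∀ x ∈ m, g * x * g⁻¹ ∈ USix.ovalSet k) →
      ∃ lo, IsRel E 6 lo ∧ P lo ∧ ∀ x, x ∈ lo ↔ x ∈ USix.ovalSet k := by
    intro m hm h g k hk hg
    obtain ⟨lo, -, hlen, hlo⟩ := USix.exists_oval_list hF hT hk
    have hmg := hm.conj hT.conj g
    have hp : (m.map (MulAut.conj g).toMonoidHom).Perm lo := perm_of_subset_length hmg.nd (fun x hx => by
      obtain ⟨y, hy, rfl⟩ := List.mem_map.1 hx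
      exact (hlo _).2 (hg y hy)) (by rw [hlen, hmg.len])
    exact ⟨lo, hmg.perm hp, hperm hmg hp (hinv g hm h), hlo⟩
  obtain ⟨g₀, k, hk, hg₀⟩ := USix.exists_std_six hF hT hm₀.nd hm₀.len hm₀.mem hm₀.comm hm₀.prod
  obtain ⟨lo, hlor, hloP, hlo⟩ := std hm₀ hP₀ hk hg₀
  refine ⟨k, hk, fun u hu hm => ⟨fun hp => ?_, fun ⟨g, hg⟩ => ?_⟩⟩
  · have hP : P (u.map χ) := by show ((u.map χ).map t).prod = τ; rw [tmap hu, hp]
    obtain ⟨g, k', hk', hg⟩ := USix.exists_std_six hF hT hm.nd hm.len hm.mem hm.comm hm.prod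
    obtain ⟨lo', hlor', hloP', hlo'⟩ := std hm hP hk' hg
    suffices hsub : lo ⊆ lo' by
      refine ⟨g, fun x hx => ?_⟩
      rw [USix.ovalSet_inj hF hT hk fun y hy => (hlo' y).1 (hsub ((hlo y).2 hy))]
      exact hg x hx
    have pts : ∀ r : Fin 3 → F, r ≠ 0 → ∃ T, USix.IsTvAt (USix.planeVec r) T := fun r hr =>
      USix.exists_tvAt hF (fun h => hr (funext fun j => by
        fin_cases j
        exacts [congrFun h 0, congrFun h 2, congrFun h 4])) (USix.herm_planeVec hF r r)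
    obtain ⟨T₀, hT₀⟩ := pts ![1, 0, 0] fun h => one_ne_zero (congrFun h 0)
    obtain ⟨T₁, hT₁⟩ := pts ![0, 1, 0] fun h => one_ne_zero (congrFun h 1)
    obtain ⟨T₂, hT₂⟩ := pts ![0, 0, 1] fun h => one_ne_zero (congrFun h 2)
    have o0 : ∀ {k : F}, (QuotientGroup.mk T₀ : Cfsg.PSU 6 F 2) ∈ USix.ovalSet k :=
      ⟨_, T₀, Or.inl rfl, hT₀, rfl⟩
    have o1 : ∀ {k : F}, (QuotientGroup.mk T₁ : Cfsg.PSU 6 F 2) ∈ USix.ovalSet k :=
      ⟨_, T₁, Or.inr (Or.inl rfl), hT₁, rfl⟩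
    have o2 : ∀ {k : F}, (QuotientGroup.mk T₂ : Cfsg.PSU 6 F 2) ∈ USix.ovalSet k :=
      ⟨_, T₂, Or.inr (Or.inr (Or.inl rfl)), hT₂, rfl⟩
    have m0 := (hlo _).2 o0
    have m1 := (hlo _).2 o1
    have m2 := (hlo _).2 o2
    have m0' := (hlo' _).2 o0
    have m1' := (hlo' _).2 o1
    have m2' := (hlo' _).2 o2
    have n01 : (QuotientGroup.mk T₀ : Cfsg.PSU 6 F 2) ≠ QuotientGroup.mk T₁ := fun e => by
      obtain ⟨c, -, hc⟩ := (hT.mk_eq_iff hF hT₀ hT₁).1 e
      simpa [USix.planeVec] using congrFun hc 2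
    have n02 : (QuotientGroup.mk T₀ : Cfsg.PSU 6 F 2) ≠ QuotientGroup.mk T₂ := fun e => by
      obtain ⟨c, -, hc⟩ := (hT.mk_eq_iff hF hT₀ hT₂).1 e
      simpa [USix.planeVec] using congrFun hc 4
    have n12 : (QuotientGroup.mk T₁ : Cfsg.PSU 6 F 2) ≠ QuotientGroup.mk T₂ := fun e => by
      obtain ⟨c, -, hc⟩ := (hT.mk_eq_iff hF hT₁ hT₂).1 e
      simpa [USix.planeVec] using congrFun hc 4
    have tne : ∀ {x y}, x ∈ lo → y ∈ lo → x ≠ y → t x ≠ t y := fun hx hy hne e => hne (by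
      rw [← (tA (hlor.mem _ hx)).2, e, (tA (hlor.mem _ hy)).2])
    have hs := huniq (lo.map t) (lo'.map t) (memA hlor) (memA hlor') (by rw [back hlor]; exact hlor)
      (by rw [back hlor']; exact hlor') hloP hloP' _ _ _ (List.mem_map_of_mem m0) (List.mem_map_of_mem m1)
      (List.mem_map_of_mem m2) (List.mem_map_of_mem m0') (List.mem_map_of_mem m1') (List.mem_map_of_mem m2')
      (tne m0 m1 n01) (tne m0 m2 n02) (tne m1 m2 n12)
    intro x hx
    obtain ⟨y, hy, e⟩ := List.mem_map.1 (hs (List.mem_map_of_mem hx))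
    rw [← (tA (hlor.mem x hx)).2, ← e, (tA (hlor'.mem y hy)).2]
    exact hy
  · have hmg := hm.conj hT.conj g
    have hp : ((u.map χ).map (MulAut.conj g).toMonoidHom).Perm lo := perm_of_subset_length hmg.nd (fun x hx => by
      obtain ⟨y, hy, rfl⟩ := List.mem_map.1 hx
      exact (hlo _).2 (hg y hy)) (by rw [hlor.len, hmg.len])
    have h := hinv g⁻¹ hmg (hperm hlor hp.symm hloP)
    have e : (((u.map χ).map (MulAut.conj g).toMonoidHom).map (MulAut.conj g⁻¹).toMonoidHom) = u.map χ := by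
      rw [List.map_map]
      refine (List.map_congr_left fun x _ => ?_).trans (List.map_id _)
      show g⁻¹ * (g * x * g⁻¹) * g⁻¹⁻¹ = x
      group
    rw [e] at h
    have h' : ((u.map χ).map t).prod = τ := h
    rwa [tmap hu] at h'

section Maps

variable {F : Type*} [Field F] [Fintype F] {F' : Type*} [Field F'] [Fintype F']

/-- A semilinear map permutes the classes of six. -/
theorem exists_classMap (hF : Fintype.card F = 2 ^ 2) (hF' : Fintype.card F' = 2 ^ 2)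
    {E : Set (Cfsg.PSU 6 F 2)} (hE : USix.TClass E) {E' : Set (Cfsg.PSU 6 F' 2)} (hE' : USix.TClass E')
    (σ : F ≃+* F') {c : F'} (hc : c ≠ 0) :
    ∃ ψ : Cfsg.PSU 6 F 2 →* Cfsg.PSU 6 F' 2, Function.Bijective ψ ∧ Set.BijOn ψ E E' ∧
      ∀ k : F, k ≠ 0 → ∀ m : List (Cfsg.PSU 6 F 2), InClass (c * σ k) (m.map ψ) ↔ InClass k m := by
  obtain ⟨ψ, hinj, htv, honto⟩ := USix.exists_twist hF hF' σ hc
  obtain ⟨ψ', hinj', -, -⟩ := USix.exists_twist hF' hF σ.symm (one_ne_zero (α := F))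
  have hbij : Function.Bijective ψ :=
    hinj.bijective_of_nat_card_le (Nat.card_le_card_of_injective ψ' hinj')
  have hnz : ∀ v : Fin 6 → F, USix.twistVec σ c v ≠ 0 → v ≠ 0 := fun v hv e => hv (by
    subst e; funext i; simp [USix.twistVec])
  have hmaps : Set.MapsTo ψ E E' := fun x hx => by
    obtain ⟨v, A, hA, rfl⟩ := hE.rep hF hx
    obtain ⟨B, hB, e⟩ := htv v A hA
    rw [e]
    exact hE'.hall hF' hB
  have hsurj : Set.SurjOn ψ E E' := fun y hy => by
    obtain ⟨w, B, hB, rfl⟩ := hE'.rep hF' hy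
    obtain ⟨v, rfl⟩ := honto w
    obtain ⟨A, hA⟩ := USix.exists_tvAt hF (hnz v hB.1) (σ.injective (by
      rw [← USix.twistVec_herm hF hF' σ hc, hB.2.1, map_zero]))
    obtain ⟨B', hB', e⟩ := htv v A hA
    exact ⟨_, hE.hall hF hA, by rw [e, hB'.unique hF' hB]⟩
  refine ⟨ψ, hbij, ⟨hmaps, hinj.injOn, hsurj⟩, fun k hk m => ?_⟩
  -- the standard points
  have fwd : ∀ x ∈ USix.ovalSet k, ψ x ∈ USix.ovalSet (c * σ k) := by
    rintro _ ⟨r, A, hr, hA, rfl⟩
    obtain ⟨B, hB, e⟩ := htv _ A hA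
    rw [e]
    have htp : ∀ r : Fin 3 → F,
        USix.twistVec σ c (USix.planeVec r) = USix.planeVec ![c * σ (r 0), σ (r 1), σ (r 2)] := fun r => by
      funext i
      fin_cases i <;> simp [USix.twistVec, USix.planeVec]
    rw [htp] at hB
    have hsm : ∀ (s : F') (r : Fin 3 → F'), s • USix.planeVec r = USix.planeVec (s • r) := fun s r => by
      funext i
      fin_cases i <;> simp [USix.planeVec]
    have hs := hB.scale hF' (inv_ne_zero hc)
    rw [hsm] at hs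
    rcases hr with rfl | rfl | rfl | ⟨a, ha, rfl⟩
    · refine ⟨_, B, Or.inl rfl, ?_, rfl⟩
      convert hs using 2
      funext j; fin_cases j <;> simp [hc]
    · refine ⟨_, B, Or.inr (Or.inl rfl), ?_, rfl⟩
      convert hB using 2
      funext j; fin_cases j <;> simp
    · refine ⟨_, B, Or.inr (Or.inr (Or.inl rfl)), ?_, rfl⟩
      convert hB using 2
      funext j; fin_cases j <;> simp
    · refine ⟨_, B, Or.inr (Or.inr (Or.inr ⟨c⁻¹ * σ a, mul_ne_zero (inv_ne_zero hc) (by simpa using ha), rfl⟩)),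
        ?_, rfl⟩
      convert hs using 2
      funext j
      fin_cases j
      · simp [hc]
      · simp
      · simp
        field_simp
  have bwd : ∀ x, ψ x ∈ USix.ovalSet (c * σ k) → x ∈ USix.ovalSet k := by
    intro x hx
    obtain ⟨lo, hnd, hlen, hlo⟩ := USix.exists_oval_list hF hE hk
    obtain ⟨lo', -, hlen', hlo'⟩ := USix.exists_oval_list hF' hE'
      (mul_ne_zero hc ((map_ne_zero σ).2 hk))
    have hp : (lo.map ψ).Perm lo' := perm_of_subset_length (hnd.map hinj) (fun y hy => by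
      obtain ⟨z, hz, rfl⟩ := List.mem_map.1 hy
      exact (hlo' _).2 (fwd z ((hlo z).1 hz))) (by simp [hlen, hlen'])
    obtain ⟨z, hz, e⟩ := List.mem_map.1 (hp.symm.subset ((hlo' _).2 hx))
    exact hinj e ▸ (hlo z).1 hz
  constructor
  · rintro ⟨g', hg⟩
    obtain ⟨g, rfl⟩ := hbij.surjective g'
    refine ⟨g, fun x hx => bwd _ ?_⟩
    have := hg _ (List.mem_map_of_mem hx)
    rwa [← map_inv, ← map_mul, ← map_mul] at this
  · rintro ⟨g, hg⟩
    refine ⟨ψ g, fun y hy => ?_⟩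
    obtain ⟨x, hx, rfl⟩ := List.mem_map.1 hy
    rw [← map_inv, ← map_mul, ← map_mul]
    exact fwd _ (hg x hx)

/-- The squaring automorphism of the field of four elements. -/
theorem exists_square_auto (hF : Fintype.card F = 2 ^ 2) : ∃ φ : F ≃+* F, ∀ x, φ x = x ^ 2 := by
  let s : F →+* F :=
    { toFun := fun x => x ^ 2
      map_one' := one_pow 2
      map_mul' := fun x y => mul_pow x y 2
      map_zero' := zero_pow two_ne_zero
      map_add' := fun x y => by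
        show (x + y) ^ 2 = x ^ 2 + y ^ 2
        linear_combination (x * y) * USix.two_eq_zero hF }
  exact ⟨RingEquiv.ofBijective s (Finite.injective_iff_bijective.1 s.injective), fun x => rfl⟩

/-- Parameters of semilinear maps with prescribed effect on two classes. -/
theorem exists_param (hF : Fintype.card F = 2 ^ 2) (hF' : Fintype.card F' = 2 ^ 2) {a b : F} {a' b' : F'}
    (ha : a ≠ 0) (hb : b ≠ 0) (hab : a ≠ b) (ha' : a' ≠ 0) (hb' : b' ≠ 0) (hab' : a' ≠ b') :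
    ∃ (σ : F ≃+* F') (c : F'), c ≠ 0 ∧ c * σ a = a' ∧ c * σ b = b' := by
  obtain ⟨φ, hφ⟩ := exists_square_auto hF
  set σ := FiniteField.ringEquivOfCardEq (K := F) (K' := F') (hF.trans hF'.symm)
  set s := b' * a'⁻¹
  set t := σ (b * a⁻¹) with ht
  have ht0 : t ≠ 0 := (map_ne_zero σ).2 (mul_ne_zero hb (inv_ne_zero ha))
  have ht1 : t ≠ 1 := fun h => hab (by
    have h' : b * a⁻¹ = 1 := σ.injective (by rw [map_one]; exact h)
    exact ((mul_inv_eq_one₀ ha).1 h').symm)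
  have hs0 : s ≠ 0 := mul_ne_zero hb' (inv_ne_zero ha')
  have hs1 : s ≠ 1 := fun h => hab' ((mul_inv_eq_one₀ ha').1 h).symm
  have fin : ∀ τ : F ≃+* F', τ (b * a⁻¹) = s →
      ∃ (σ : F ≃+* F') (c : F'), c ≠ 0 ∧ c * σ a = a' ∧ c * σ b = b' := by
    intro τ hτ
    have h0 : τ a ≠ 0 := (map_ne_zero τ).2 ha
    refine ⟨τ, a' * (τ a)⁻¹, mul_ne_zero ha' (inv_ne_zero h0), by rw [mul_assoc, inv_mul_cancel₀ h0, mul_one], ?_⟩
    rw [map_mul, map_inv₀] at hτ
    calc a' * (τ a)⁻¹ * τ b = a' * (τ b * (τ a)⁻¹) := by ring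
      _ = b' := by rw [hτ]; simp only [s]; field_simp
  have hcube : t ^ 3 = 1 := USix.cube_eq_one hF' ht0
  have hpoly : 1 + t + t ^ 2 = 0 := by
    have : (t - 1) * (1 + t + t ^ 2) = 0 := by linear_combination hcube
    exact (mul_eq_zero.1 this).resolve_left (sub_ne_zero.2 ht1)
  rcases USix.omega_cases hF' ht1 hpoly hs0 with h | h | h
  · exact absurd h hs1
  · exact fin σ h.symm
  · refine fin (φ.trans σ) ?_
    rw [RingEquiv.trans_apply, hφ, map_pow, h]

end Maps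

end CfsgLib.ThreeTrans.Uniq
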