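import Mathlib
import Cfsg.Agent.Lib.ThreeTrans.Uniq.Extend
import Cfsg.Agent.Lib.ThreeTrans.Uniq.UnitaryTrace

/-! Traces correspond under maps of neighbours, for type M(22) and, step by step, for M(23) and M(24). -/

set_option autoImplicit false
set_option linter.unusedSectionVars false

namespace CfsgLib.ThreeTrans.Uniq

open CfsgLib.ThreeTrans CfsgLib.ThreeTrans.Tower

universe u₁ u₂

/-- The trace of each far member corresponds to the trace of a far member. -/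
def TraceCorr {G₁ : Type*} {G₂ : Type*} [Group G₁] [Group G₂] (D₁ : Set G₁) (D₂ : Set G₂) (k : ℕ) : Prop :=
  ∀ (d₁ : G₁) (d₂ : G₂) (f : G₁ → G₂), Match D₁ d₁ D₂ d₂ k f → ∀ x₁ ∈ D₁, ¬ Commute d₁ x₁ →
    ∃ x₂ ∈ D₂, ¬ Commute d₂ x₂ ∧ f '' (Dd D₁ d₁ ∩ Dd D₁ x₁) = Dd D₂ d₂ ∩ Dd D₂ x₂

variable {G₁ : Type*} [Group G₁] [Finite G₁] {G₂ : Type*} [Group G₂] [Finite G₂] {D₁ : Set G₁} {D₂ : Set G₂}

theorem trace_card {G Y : Type*} [Group G] [Finite G] [Group Y] {D : Set G} {E : Set Y} {N k l m : ℕ}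
    (S : Stage D E N k l m) {d x p : G} (hd : d ∈ D) (hx : x ∈ D) (hdx : ¬ Commute d x)
    (hp : p ∈ Dd D d ∩ Dd D x) : (Dd D d ∩ Dd D x ∩ Dd D p).ncard = m := by
  obtain ⟨π, M⟩ := S.base p hp.1.1
  have hd' := Dd_symm hd hp.1
  have hx' := Dd_symm hx hp.2
  rw [Set.inter_comm, M.card_two hd' hx']
  exact S.loc.mu _ (M.mem hd') _ (M.mem hx') fun h => hdx ((M.comm hd' hx').1 h)

theorem trace_uniq {G Y : Type*} [Group G] [Finite G] [Group Y] {D : Set G} {E : Set Y} {N k l m : ℕ}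
    (S : Stage D E N k l m) {d P y y' : G} (hd : d ∈ D) (hy : y ∈ D) (hy' : y' ∈ D) (hdy : ¬ Commute d y)
    (hdy' : ¬ Commute d y') (hP : P ∈ Dd D d ∩ Dd D y) (hP' : P ∈ Dd D d ∩ Dd D y')
    (h : Dd D d ∩ Dd D y ∩ Dd D P = Dd D d ∩ Dd D y' ∩ Dd D P) : y' = y ∨ y' = d * y * d := by
  obtain ⟨π, M⟩ := S.base P hP.1.1
  exact pair_of_trace_eq S.loc M (Dd_symm hd hP.1) (Dd_symm hy hP.2) (Dd_symm hy' hP'.2) hdy hdy' h

theorem commute_iff_of_trace {G : Type*} [Group G] {D : Set G} {d y p u : G} (hdy : ¬ Commute d y)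
    (hu : u ∈ Dd D d) (hup : u ∈ Dd D p) {T : Set G} (hT : T = Dd D d ∩ Dd D y ∩ Dd D p) :
    Commute y u ↔ u ∈ T := by
  subst hT
  exact ⟨fun h => ⟨⟨hu, hu.1, fun e => hdy (e ▸ hu.2.2), h⟩, hup⟩, fun h => h.1.2.2.2⟩

section Local

variable {d₁ : G₁} {d₂ : G₂} {k : ℕ} {f : G₁ → G₂} (hf : Match D₁ d₁ D₂ d₂ k f) {Y₁ : Type*} [Group Y₁]
  {Y₂ : Type*} [Group Y₂] {E₁ : Set Y₁} {E₂ : Set Y₂} {N k' l m : ℕ} (S₁ : Stage D₁ E₁ N k' l m)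
  (S₂ : Stage D₂ E₂ N k' l m)
include hf S₁ S₂

/-- A trace in the quotients gives a trace at a member. -/
theorem loc_of_trace {x₁ p : G₁} (hx₁ : x₁ ∈ D₁) (hdx : ¬ Commute d₁ x₁) (hp : p ∈ Dd D₁ d₁ ∩ Dd D₁ x₁)
    {π₁ : Hd D₁ p →* Y₁} (M₁ : Model D₁ p E₁ π₁) {π₂ : Hd D₂ (f p) →* Y₂} (M₂ : Model D₂ (f p) E₂ π₂)
    {g : Y₁ → Y₂} (hg : ∀ x ∈ Dd D₁ p, g (phi π₁ x) = phi π₂ (f x)) {y' : Y₂} (hy' : y' ∈ E₂)
    (hdy' : ¬ Commute (phi π₂ d₂) y')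
    (hsub : g '' (Dd E₁ (phi π₁ d₁) ∩ Dd E₁ (phi π₁ x₁)) ⊆ Dd E₂ (phi π₂ d₂) ∩ Dd E₂ y') :
    ∃ y ∈ D₂, ¬ Commute d₂ y ∧ f p ∈ Dd D₂ y ∧
      f '' (Dd D₁ d₁ ∩ Dd D₁ x₁ ∩ Dd D₁ p) = Dd D₂ d₂ ∩ Dd D₂ y ∩ Dd D₂ (f p) := by
  have hfp := hf.mapsTo hp.1
  have hd' := Dd_symm hf.mem₂ hfp
  obtain ⟨y, hy, rfl⟩ := M₂.onto hy'
  have hdy : ¬ Commute d₂ y := fun h => hdy' ((M₂.comm hd' hy).2 h)
  have hP : f p ∈ Dd D₂ d₂ ∩ Dd D₂ y := ⟨hfp, Dd_symm hfp.1 hy⟩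
  refine ⟨y, hy.1, hdy, hP.2, Set.eq_of_subset_of_ncard_le ?_ (le_of_eq ?_) (Set.toFinite _)⟩
  · rintro _ ⟨u, hu, rfl⟩
    have hu₂ := (hf.mem_Dd_iff hp.1 hu.1.1).2 hu.2
    obtain ⟨-, h2⟩ := hsub ⟨_, ⟨(M₁.mem_Dd (Dd_symm hf.mem₁ hp.1) hu.2).2 hu.1.1,
      (M₁.mem_Dd (Dd_symm hx₁ hp.2) hu.2).2 hu.1.2⟩, hg u hu.2⟩
    exact ⟨⟨hf.mapsTo hu.1.1, (M₂.mem_Dd hy hu₂).1 h2⟩, hu₂⟩
  · rw [trace_card S₂ hf.mem₂ hy.1 hdy hP, Set.InjOn.ncard_image fun a ha b hb h => hf.inj ha.1.1 hb.1.1 h,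
      trace_card S₁ hf.mem₁ hx₁ hdx hp]

end Local

/-- One level up. -/
theorem TraceCorr.step {Y₁ : Type*} [Group Y₁] [Finite Y₁] {Y₂ : Type*} [Group Y₂] [Finite Y₂] {Z₂ : Type*}
    [Group Z₂] {E₁ : Set Y₁} {E₂ : Set Y₂} {E' : Set Z₂} {N k l m N' k' l' m' μ : ℕ} {j : ℕ}
    (S₁ : Stage D₁ E₁ N k l m) (S₂ : Stage D₂ E₂ N k l m) (S' : Stage E₂ E' N' k' l' m')
    (hμ₁ : ∀ a ∈ D₁, ∀ c ∈ D₁, ¬ Commute a c → (Dd D₁ a ∩ Dd D₁ c).ncard = μ)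
    (hμ₂ : ∀ a ∈ D₂, ∀ c ∈ D₂, ¬ Commute a c → (Dd D₂ a ∩ Dd D₂ c).ncard = μ) (hμ : 0 < μ) (hm : 0 < m)
    (hno : NoRel D₁ j) (hno₂ : NoRel D₂ j) (hT : TraceCorr E₁ E₂ j) : TraceCorr D₁ D₂ (j + 1) := by
  intro d₁ d₂ f hf x₁ hx₁ hdx
  refine hf.trace_of_local hx₁ hdx (hμ₁ _ hf.mem₁ _ hx₁ hdx) (fun y hy h => hμ₂ _ hf.mem₂ _ hy h) hm
    (fun p hp => trace_card S₁ hf.mem₁ hx₁ hdx hp) (fun y hy h P hP => trace_card S₂ hf.mem₂ hy h hP)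
    (Set.nonempty_of_ncard_ne_zero (by rw [hμ₁ _ hf.mem₁ _ hx₁ hdx]; omega))
    (fun P y hy y' hy' h h' hP hP' he => trace_uniq S₂ hf.mem₂ hy hy' h h' hP hP' he) ?_ ?_
  · intro p hp
    obtain ⟨π₁, M₁⟩ := S₁.base p hp.1.1
    obtain ⟨π₂, M₂⟩ := S₂.base (f p) (hf.mapsTo hp.1).1
    obtain ⟨g, hgM, hg⟩ := hf.descend rfl S₁ S₂ hno hno₂ hp.1 M₁ M₂
    have hd' := Dd_symm hf.mem₁ hp.1
    have hx' := Dd_symm hx₁ hp.2
    obtain ⟨y', hy', hdy', he⟩ := hT _ _ g hgM _ (M₁.mem hx') fun h => hdx ((M₁.comm hd' hx').1 h)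
    exact loc_of_trace hf S₁ S₂ hx₁ hdx hp M₁ M₂ hg hy' hdy' he.subset
  · intro p hp q hq hqp y hy y' hy' hdy hdy' hpy hTy hqy hTy'
    have hfq : f q ∈ Dd D₂ (f p) := (hf.mem_Dd_iff hp.1 hq.1).2 hqp
    have hpq' : p ∈ Dd D₁ q := Dd_symm hp.1.1 hqp
    have hq1 : f q ∈ Dd D₂ d₂ ∩ Dd D₂ y ∩ Dd D₂ (f p) := hTy ▸ ⟨q, ⟨hq, hqp⟩, rfl⟩
    have hp1 : f p ∈ Dd D₂ d₂ ∩ Dd D₂ y' ∩ Dd D₂ (f q) := hTy' ▸ ⟨p, ⟨hp, hpq'⟩, rfl⟩
    obtain ⟨π, M⟩ := S₂.base (f p) (hf.mapsTo hp.1).1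
    obtain ⟨π', M'⟩ := S'.base (phi π (f q)) (M.mem hfq)
    have hd' := Dd_symm hf.mem₂ (hf.mapsTo hp.1)
    have hy₁ := Dd_symm hy hpy
    have hy₂ := Dd_symm hy' hp1.1.2
    have dQ : ∀ {u : G₂}, u ∈ D₂ → u ∈ Dd D₂ (f p) → f q ∈ Dd D₂ u → phi π u ∈ Dd E₂ (phi π (f q)) :=
      fun hu hup hqu => (M.mem_Dd hfq hup).2 (Dd_symm hu hqu)
    rcases pair_of_trace S'.loc M' (dQ hf.mem₂ hd' hq1.1.1) (dQ hy hy₁ hq1.1.2) (dQ hy' hy₂ hqy)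
      (fun h => hdy ((M.comm hd' hy₁).1 h)) (fun h => hdy' ((M.comm hd' hy₂).1 h)) (fun e he heq => by
        obtain ⟨u, hu, rfl⟩ := M.onto he.1
        have hud := (M.mem_Dd hd' hu).1 he
        have huq := (M.mem_Dd hfq hu).1 heq
        rw [M.comm hy₁ hu, M.comm hy₂ hu, commute_iff_of_trace hdy hud hu hTy, commute_iff_of_trace hdy' hud huq hTy']
        constructor
        · rintro ⟨w, hw, rfl⟩
          exact ⟨w, ⟨hw.1, (hf.mem_Dd_iff hq.1 hw.1.1).1 huq⟩, rfl⟩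
        · rintro ⟨w, hw, rfl⟩
          exact ⟨w, ⟨hw.1, (hf.mem_Dd_iff hp.1 hw.1.1).1 hu⟩, rfl⟩) with e | e
    · exact Or.inl (M.inj hy₂ hy₁ e)
    · right
      have h1 := M.phi_conj ⟨d₂, Subgroup.subset_closure hd'⟩ hy₁
      have h2 := M.conj_mem ⟨d₂, Subgroup.subset_closure hd'⟩ hy₁
      rw [inv_eq S₂.threeSet hf.mem₂] at h1 h2
      rw [← phi_of_mem π (x := ⟨d₂, Subgroup.subset_closure hd'⟩) hd', inv_eq S₂.loc.group.1 (M.mem hd'), ← e] at h1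
      exact (M.inj h2 hy₂ h1).symm

theorem restLine_iff {F : Type*} [Field F] [Fintype F] {E : Set (Cfsg.PSU 6 F 2)} {a e x : Cfsg.PSU 6 F 2}
    (ha : a ∈ E) (he : e ∈ Dd E a) : x ∈ USix.TClass.restLine E a e ↔
      x ∈ Dd E a ∧ x ≠ e ∧ ∀ z ∈ Dd E a, Commute z e → Commute x z := by
  constructor
  · rintro ⟨h1, h2, h3, h4⟩
    exact ⟨⟨h1, h2, (h4 a ha (Commute.refl a) he.2.2).symm⟩, h3, fun z hz hze => h4 z hz.1 hz.2.2.symm hze⟩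
  · rintro ⟨h1, h2, h3⟩
    refine ⟨h1.1, h1.2.1, h2, fun z hz hza hze => ?_⟩
    by_cases h : z = a
    · rw [h]; exact h1.2.2.symm
    · exact h3 z ⟨hz, h, hza.symm⟩ hze

/-- Type M(22). -/
theorem traceCorr22 (hD₁ : Cfsg.IsThreeTranspositionGroup D₁) (hprim₁ : Cfsg.IsPrimitiveUnderConj D₁)
    (h₁ : Cfsg.IsOfTypeM22 G₁ D₁) (hD₂ : Cfsg.IsThreeTranspositionGroup D₂)
    (hprim₂ : Cfsg.IsPrimitiveUnderConj D₂) (h₂ : Cfsg.IsOfTypeM22 G₂ D₂) : TraceCorr D₁ D₂ 6 := by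
  obtain ⟨e₁, c₁, F₁, _, _, π₀, hB₁, -, -, hloc₁, -, hF₁⟩ := bottom22 hD₁ h₁
  obtain ⟨e₂, c₂, F₂, _, _, π₀', hB₂, -, -, hloc₂, -, hF₂⟩ := bottom22 hD₂ h₂
  have S₁ := stage_of_base hD₁ hprim₁ h₁.1 hloc₁ hB₁ rfl
  have S₂ := stage_of_base hD₂ hprim₂ h₂.1 hloc₂ hB₂ rfl
  set E₁ := imgSet D₁ e₁ π₀
  set E₂ := imgSet D₂ e₂ π₀'
  have T₁ : USix.TClass E₁ := ⟨hloc₁.group.1, hloc₁.group.2.1, hloc₁.rigid.nonabelian.imp fun _ h => h.1⟩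
  have T₂ : USix.TClass E₂ := ⟨hloc₂.group.1, hloc₂.group.2.1, hloc₂.rigid.nonabelian.imp fun _ h => h.1⟩
  have L₁ := local22 hD₁ hprim₁ h₁
  have L₂ := local22 hD₂ hprim₂ h₂
  have hno : NoRel D₁ 5 := (good22 hD₁ h₁).rel 5 le_rfl (by norm_num)
  have hno₂ : NoRel D₂ 5 := (good22 hD₂ h₂).rel 5 le_rfl (by norm_num)
  intro d₁ d₂ f hf x₁ hx₁ hdx
  refine hf.trace_of_local hx₁ hdx (L₁.mu _ hf.mem₁ _ hx₁ hdx) (fun y hy h => L₂.mu _ hf.mem₂ _ hy h)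
    (by norm_num : 0 < 45) (fun p hp => trace_card S₁ hf.mem₁ hx₁ hdx hp)
    (fun y hy h P hP => trace_card S₂ hf.mem₂ hy h hP)
    (Set.nonempty_of_ncard_ne_zero (by rw [L₁.mu _ hf.mem₁ _ hx₁ hdx]; norm_num))
    (fun P y hy y' hy' h h' hP hP' he => trace_uniq S₂ hf.mem₂ hy hy' h h' hP hP' he) ?_ ?_
  · intro p hp
    obtain ⟨π₁, M₁⟩ := S₁.base p hp.1.1
    obtain ⟨π₂, M₂⟩ := S₂.base (f p) (hf.mapsTo hp.1).1
    obtain ⟨g, hgM, hg⟩ := hf.descend (j := 5) rfl S₁ S₂ hno hno₂ hp.1 M₁ M₂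
    have hd' := Dd_symm hf.mem₁ hp.1
    have hx' := Dd_symm hx₁ hp.2
    have hT := T₁.isTrace hF₁ (M₁.mem hd') (M₁.mem hx') fun h => hdx ((M₁.comm hd' hx').1 h)
    set a₁ := phi π₁ d₁
    set a₂ := phi π₂ d₂
    set T := Dd E₁ a₁ ∩ Dd E₁ (phi π₁ x₁)
    have line : ∀ {e x}, e ∈ Dd E₁ a₁ → x ∈ Dd E₁ a₁ →
        (g x ∈ USix.TClass.restLine E₂ a₂ (g e) ↔ x ∈ USix.TClass.restLine E₁ a₁ e) := by
      intro e x he hx
      rw [restLine_iff hgM.mem₂ (hgM.mapsTo he), restLine_iff hgM.mem₁ he]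
      constructor
      · rintro ⟨-, h2, h3⟩
        exact ⟨hx, fun h => h2 (by rw [h]), fun z hz hze =>
          (hgM.commute_iff hx hz).1 (h3 _ (hgM.mapsTo hz) ((hgM.commute_iff hz he).2 hze))⟩
      · rintro ⟨-, h2, h3⟩
        refine ⟨hgM.mapsTo hx, fun h => h2 (hgM.inj hx he h), fun z hz hze => ?_⟩
        obtain ⟨z, hz', rfl⟩ := hgM.onto hz
        exact (hgM.commute_iff hx hz').2 (h3 z hz' ((hgM.commute_iff hz' he).1 hze))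
    have hT' : USix.IsTrace E₂ a₂ (g '' T) := by
      refine ⟨?_, fun e he => ?_, ?_, ?_⟩
      · rintro _ ⟨t, ht, rfl⟩; exact hgM.mapsTo ht.1
      · obtain ⟨e, he', rfl⟩ := hgM.onto he
        obtain ⟨t, ht, hcase, hu⟩ := hT.one e he'
        refine ⟨g t, ⟨t, ht, rfl⟩, hcase.imp (fun h => by rw [h]) (fun h => (line he' ht.1).2 h), ?_⟩
        rintro _ ⟨t', ht', rfl⟩ h
        rw [hu t' ht' (h.imp (fun h => hgM.inj ht'.1 he' h) fun h => (line he' ht'.1).1 h)]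
      · rintro _ ⟨t, ht, rfl⟩ _ ⟨t', ht', rfl⟩
        exact ⟨_, hT.conj t ht t' ht', hgM.conj t ht.1 t' ht'.1⟩
      · rintro _ ⟨t, ht, rfl⟩ _ ⟨t', ht', rfl⟩ hne hc
        obtain ⟨l, hnd, hlen, hlT, hlc, hlp, h1, h2⟩ :=
          hT.line t ht t' ht' (fun e => hne (by rw [e])) ((hgM.commute_iff ht.1 ht'.1).1 hc)
        refine ⟨l.map g, hnd.map_on fun a ha b hb h => hgM.inj (hlT a ha).1 (hlT b hb).1 h, by simpa using hlen,
          fun y hy => ?_, fun y hy y' hy' => ?_,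
          (hgM.rel l hnd hlen (fun y hy => Set.mem_insert_of_mem _ (hlT y hy).1) hlc).1 hlp,
          List.mem_map_of_mem h1, List.mem_map_of_mem h2⟩
        · obtain ⟨u, hu, rfl⟩ := List.mem_map.1 hy; exact ⟨u, hlT u hu, rfl⟩
        · obtain ⟨u, hu, rfl⟩ := List.mem_map.1 hy
          obtain ⟨u', hu', rfl⟩ := List.mem_map.1 hy'
          exact (hgM.commute_iff (hlT u hu).1 (hlT u' hu').1).2 (hlc u hu u' hu')
    obtain ⟨y', hy', hdy', hsub⟩ := T₂.exists_of_trace hF₂ hgM.mem₂ hT'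
    exact loc_of_trace hf S₁ S₂ hx₁ hdx hp M₁ M₂ hg hy' hdy' hsub
  · intro p hp q hq hqp y hy y' hy' hdy hdy' hpy hTy hqy hTy'
    have hfp := hf.mapsTo hp.1
    have hfq : f q ∈ Dd D₂ (f p) := (hf.mem_Dd_iff hp.1 hq.1).2 hqp
    have hpq' : p ∈ Dd D₁ q := Dd_symm hp.1.1 hqp
    have hq1 : f q ∈ Dd D₂ d₂ ∩ Dd D₂ y ∩ Dd D₂ (f p) := hTy ▸ ⟨q, ⟨hq, hqp⟩, rfl⟩
    have hp1 : f p ∈ Dd D₂ d₂ ∩ Dd D₂ y' ∩ Dd D₂ (f q) := hTy' ▸ ⟨p, ⟨hp, hpq'⟩, rfl⟩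
    obtain ⟨π, M⟩ := S₂.base (f p) hfp.1
    have hd' := Dd_symm hf.mem₂ hfp
    have hy₁ := Dd_symm hy hpy
    have hy₂ := Dd_symm hy' hp1.1.2
    have hconj : ∀ h : Hd D₂ (f p), ∀ {u : G₂}, u ∈ Dd D₂ (f p) →
        phi π ((h : G₂) * u * (h : G₂)⁻¹) = π h * phi π u * (π h)⁻¹ := fun h u hu => M.phi_conj h hu
    have hswap : phi π (d₂ * y * d₂) = phi π d₂ * phi π y * phi π d₂ ∧
        phi π (d₂ * y' * d₂) = phi π d₂ * phi π y' * phi π d₂ := by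
      have e1 := hconj ⟨d₂, Subgroup.subset_closure hd'⟩ hy₁
      have e2 := hconj ⟨d₂, Subgroup.subset_closure hd'⟩ hy₂
      rw [← phi_of_mem π (x := ⟨d₂, Subgroup.subset_closure hd'⟩) hd', inv_eq S₂.threeSet hf.mem₂,
        inv_eq hloc₂.group.1 (M.mem hd')] at e1 e2
      exact ⟨e1, e2⟩
    rcases T₂.pair_of_invariant hF₂ (M.mem hd') (M.mem hy₁) (fun h => hdy ((M.comm hd' hy₁).1 h))
      (q := phi π (f q)) ⟨(M.mem_Dd hd' hfq).2 hq1.1.1, (M.mem_Dd hy₁ hfq).2 hq1.1.2⟩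
      (M.mem hy₂) (fun h => hdy' ((M.comm hd' hy₂).1 h)) ((M.comm hy₂ hfq).2 hqy.2.2)
      (fun e he heq => by
        obtain ⟨u, hu, rfl⟩ := M.onto he.1.1
        have hud := (M.mem_Dd hd' hu).1 he.1
        have huq := (M.mem_Dd hfq hu).1 heq
        rw [M.comm hy₂ hu, commute_iff_of_trace hdy' hud huq hTy']
        obtain ⟨w, hw, rfl⟩ := (commute_iff_of_trace hdy hud hu hTy).1 ((M.mem_Dd hy₁ hu).1 he.2).2.2
        exact ⟨w, ⟨hw.1, (hf.mem_Dd_iff hq.1 hw.1.1).1 huq⟩, rfl⟩)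
      (fun c hc hcq => by
        -- a lift of `c` as a product of members of the trace at `p`
        obtain ⟨L, hL, hLc⟩ : ∃ L : List G₁, (∀ w ∈ L, w ∈ Dd D₁ d₁ ∩ Dd D₁ x₁ ∩ Dd D₁ p) ∧
            ∃ h : Hd D₂ (f p), (h : G₂) = (L.map f).prod ∧ π h = c := by
          obtain ⟨L', hL', hLp⟩ := exists_list (fun u hu => mul_self hloc₂.group.1 hu.1.1) hc
          have pick : ∀ e ∈ L', ∃ w ∈ Dd D₁ d₁ ∩ Dd D₁ x₁ ∩ Dd D₁ p, phi π (f w) = e := by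
            intro e he
            obtain ⟨u, hu, rfl⟩ := M.onto (hL' e he).1.1
            obtain ⟨w, hw, rfl⟩ := (commute_iff_of_trace hdy ((M.mem_Dd hd' hu).1 (hL' _ he).1) hu hTy).1
              ((M.mem_Dd hy₁ hu).1 (hL' _ he).2).2.2
            exact ⟨w, hw, rfl⟩
          choose! t ht hte using pick
          refine ⟨L'.map t, fun w hw => ?_, ?_⟩
          · obtain ⟨e, he, rfl⟩ := List.mem_map.1 hw; exact ht e he
          obtain ⟨h, hh, hπ⟩ := phi_prod (π := π) ((L'.map t).map f) fun w hw => by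
            obtain ⟨w, hw', rfl⟩ := List.mem_map.1 hw
            obtain ⟨e, he, rfl⟩ := List.mem_map.1 hw'
            exact (hf.mem_Dd_iff hp.1 (ht e he).1.1).2 (ht e he).2
          refine ⟨h, hh, hπ.trans ?_⟩
          rw [List.map_map, List.map_map, ← hLp]
          exact congrArg List.prod ((List.map_congr_left fun e he => hte e he).trans (List.map_id _))
        obtain ⟨h, hh, hπc⟩ := hLc
        have act : ∀ L : List G₁, (∀ w ∈ L, w ∈ Dd D₁ d₁ ∩ Dd D₁ x₁) → ∀ u ∈ Dd D₁ d₁ ∩ Dd D₁ x₁,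
            L.prod * u * L.prod⁻¹ ∈ Dd D₁ d₁ ∩ Dd D₁ x₁ ∧
              f (L.prod * u * L.prod⁻¹) = (L.map f).prod * f u * (L.map f).prod⁻¹ := by
          intro L
          induction L with
          | nil => intro _ u hu; simp [hu]
          | cons w t ih =>
            intro hm u hu
            obtain ⟨h1, h2⟩ := ih (fun v hv => hm v (List.mem_cons_of_mem _ hv)) u hu
            obtain ⟨hwd, hwx⟩ := hm w (by simp)
            rw [List.prod_cons, List.map_cons, List.prod_cons,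
              show w * t.prod * u * (w * t.prod)⁻¹ = w * (t.prod * u * t.prod⁻¹) * w⁻¹ by group,
              show f w * (t.map f).prod * f u * (f w * (t.map f).prod)⁻¹ =
                f w * ((t.map f).prod * f u * (t.map f).prod⁻¹) * (f w)⁻¹ by group, ← h2,
              inv_eq S₁.threeSet hwd.1, inv_eq S₂.threeSet (hf.mapsTo hwd).1]
            refine ⟨⟨hf.conj_mem hwd h1.1, ?_⟩, hf.conj w hwd _ h1.1⟩
            have h3 := conj_mem_Dd hf.closed₁ hwx.2.2.symm h1.2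
            rwa [inv_eq S₁.threeSet hwd.1] at h3
        have hLS : ∀ w ∈ L, w ∈ Dd D₁ d₁ ∩ Dd D₁ x₁ := fun w hw => (hL w hw).1
        obtain ⟨hq', hfq'⟩ := act L hLS q hq
        rw [← hh] at hfq'
        have e1 : (h : G₂) * f q * (h : G₂)⁻¹ = f q := by
          refine M.inj (M.conj_mem h hfq) hfq ?_
          rw [hconj h hfq, hπc, hcq.eq, mul_inv_cancel_right]
        have e2 : L.prod * q * L.prod⁻¹ = q := hf.inj hq'.1 hq.1 (hfq'.trans e1)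
        have hz : (h : G₂) * y' * (h : G₂)⁻¹ ∈ Dd D₂ (f p) := M.conj_mem h hy₂
        have hhd : Commute (h : G₂) d₂ := by
          rw [hh]
          clear hh hfq' e2 hq' hL
          induction L with
          | nil => simp
          | cons w t ih =>
            rw [List.map_cons, List.prod_cons]
            exact (hf.mapsTo (hLS w (by simp)).1).2.2.symm.mul_left
              (ih fun v hv => hLS v (List.mem_cons_of_mem _ hv))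
        have hdz : ¬ Commute d₂ ((h : G₂) * y' * (h : G₂)⁻¹) := fun k => hdy'
          ((commute_conj_iff (h : G₂) d₂ y').1 (by rwa [hhd.eq, mul_inv_cancel_right]))
        have hqz : f q ∈ Dd D₂ ((h : G₂) * y' * (h : G₂)⁻¹) := by
          have := conj_mem_Dd_conj hf.closed₂ (h : G₂) hqy
          rwa [e1] at this
        have hsame : Dd D₂ d₂ ∩ Dd D₂ y' ∩ Dd D₂ (f q) =
            Dd D₂ d₂ ∩ Dd D₂ ((h : G₂) * y' * (h : G₂)⁻¹) ∩ Dd D₂ (f q) := by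
          symm
          refine (Set.eq_of_subset_of_ncard_le ?_ (le_of_eq ((trace_card S₂ hf.mem₂ hz.1 hdz ⟨hq1.1.1, hqz⟩).trans
            (trace_card S₂ hf.mem₂ hy' hdy' ⟨hq1.1.1, hqy⟩).symm)) (Set.toFinite _)).symm
          rintro v hv
          have hv' : (h : G₂)⁻¹ * v * h ∈ Dd D₂ d₂ ∩ Dd D₂ y' ∩ Dd D₂ (f q) := by
            obtain ⟨w, hw, rfl⟩ : v ∈ f '' (Dd D₁ d₁ ∩ Dd D₁ x₁ ∩ Dd D₁ q) := hTy' ▸ hv
            obtain ⟨h1, h2⟩ := act L.reverse (fun u hu => hLS u (List.mem_reverse.1 hu)) w hw.1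
            have hrev : L.reverse.prod = L.prod⁻¹ := (inv_eq_of_mul_eq_one_right
              (prod_mul_reverse S₁.threeSet L fun u hu => (hLS u hu).1.1)).symm
            have hrev₂ : (L.reverse.map f).prod = (h : G₂)⁻¹ := by
              rw [List.map_reverse, hh]
              exact (inv_eq_of_mul_eq_one_right (prod_mul_reverse S₂.threeSet (L.map f) fun u hu => by
                obtain ⟨u, hu', rfl⟩ := List.mem_map.1 hu
                exact (hf.mapsTo (hLS u hu').1).1)).symm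
            rw [hrev₂, inv_inv] at h2
            rw [← h2]
            rw [← hTy']
            refine ⟨_, ⟨h1, ?_⟩, rfl⟩
            have h3 := conj_mem_Dd_conj hf.closed₁ L.prod⁻¹ hw.2
            rw [inv_inv, show L.prod⁻¹ * q * L.prod = q by
              nth_rw 1 [← e2]; group] at h3
            rw [hrev, inv_inv]
            exact h3
          obtain ⟨⟨h1, h2⟩, h3⟩ := hv'
          have back : (h : G₂) * ((h : G₂)⁻¹ * v * h) * (h : G₂)⁻¹ = v := by group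
          have k1 := conj_mem_Dd_conj hf.closed₂ (h : G₂) h1
          have k2 := conj_mem_Dd_conj hf.closed₂ (h : G₂) h2
          have k3 := conj_mem_Dd_conj hf.closed₂ (h : G₂) h3
          rw [back, hhd.eq, mul_inv_cancel_right] at k1
          rw [back] at k2 k3
          rw [e1] at k3
          exact ⟨⟨k1, k2⟩, k3⟩
        rcases trace_uniq S₂ hf.mem₂ hy' hz.1 hdy' hdz ⟨hq1.1.1, hqy⟩ ⟨hq1.1.1, hqz⟩ hsame with e | e
        · left; rw [← hπc, ← hconj h hy₂, e]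
        · right; rw [← hπc, ← hconj h hy₂, e, hswap.2]) with e | e
    · exact Or.inl (M.inj hy₂ hy₁ e)
    · refine Or.inr (M.inj hy₂ ?_ (e.trans hswap.1.symm))
      have h2 := M.conj_mem ⟨d₂, Subgroup.subset_closure hd'⟩ hy₁
      rwa [inv_eq S₂.threeSet hf.mem₂] at h2

end CfsgLib.ThreeTrans.Uniq
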