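import Mathlib
import Cfsg.Agent.Lib.ThreeTrans.Uniq.Extend
import Cfsg.Agent.Lib.ThreeTrans.TypeTop.Parity
import Cfsg.Agent.Lib.ThreeTrans.TypeTop.CoverBase

/-! Maps of neighbours respecting relations lift to the centralisers: the pairs of products form a cover of
the quotient with at most two sheets, which splits. -/

set_option autoImplicit false
set_option linter.unusedSectionVars false

namespace CfsgLib.ThreeTrans.Uniq

open CfsgLib.ThreeTrans CfsgLib.ThreeTrans.Tower CfsgLib.ThreeTrans.TypeTop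

/-- A double cover in which the lifts of the members are conjugate has its kernel inside the lifts of the
members commuting with one member. -/
theorem cover_climb {K Y : Type*} [Group K] [Finite K] [Group Y] [Finite Y] {E : Set Y} (hH : CoverHyp E)
    (hprimE : Cfsg.IsPrimitiveUnderConj E) (hgE : Cfsg.IsThreeTranspositionGroup E)
    (hw : ∃ a ∈ E, ∃ b ∈ E, a ≠ b ∧ Commute a b) {ρ : K →* Y} {L : Y → K} {z : K}
    (himg : ∀ a ∈ E, ρ (L a) = a) (hsq : ∀ a ∈ E, L a * L a = 1)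
    (hconj : ∀ g : K, ∀ a ∈ E, g * L a * g⁻¹ = L (ρ g * a * (ρ g)⁻¹))
    (hgen : Subgroup.closure (L '' E) = ⊤) (hρz : ρ z = 1) (hz1 : z ≠ 1)
    (hker : ∀ k, ρ k = 1 → k = 1 ∨ k = z) :
    ∃ a ∈ E, z ∈ Subgroup.closure {k | ∃ b ∈ E, Commute a b ∧ L b = k} := by
  by_contra hno
  push Not at hno
  have Linj : ∀ a ∈ E, ∀ b ∈ E, L a = L b → a = b := fun a ha b hb e => by rw [← himg a ha, e, himg b hb]
  have hcomm : ∀ a ∈ E, ∀ b ∈ E, (Commute (L a) (L b) ↔ Commute a b) := by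
    intro a ha b hb
    constructor
    · intro h
      have := h.map ρ
      rwa [himg a ha, himg b hb] at this
    · intro h
      have e := hconj (L a) b hb
      rw [himg a ha, h.eq, mul_inv_cancel_right] at e
      exact mul_inv_eq_iff_eq_mul.1 e
  have hLinv : ∀ a ∈ E, (L a)⁻¹ = L a := fun a ha => inv_eq_of_mul_eq_one_right (hsq a ha)
  set D' := L '' E with hD'
  have hset : Cfsg.IsThreeTranspositionSet D' := by
    refine ⟨?_, ?_⟩
    · rintro _ ⟨a, ha, rfl⟩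
      refine orderOf_eq_prime (by rw [pow_two, hsq a ha]) fun e => ne_one hgE.1 ha ?_
      rw [← himg a ha, e, map_one]
    · rintro _ ⟨a, ha, rfl⟩ _ ⟨b, hb, rfl⟩
      by_cases hc : Commute a b
      · left
        rw [((hcomm a ha b hb).2 hc).mul_pow, pow_two, pow_two, hsq a ha, hsq b hb, one_mul]
      · right
        have e1 := hconj (L a) b hb
        have e2 := hconj (L b) a ha
        rw [himg a ha, hLinv a ha, inv_eq hgE.1 ha] at e1
        rw [himg b hb, hLinv b hb, inv_eq hgE.1 hb, ← braid hgE.1 ha hb hc] at e2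
        have h3 : L a * L b * L a = L b * L a * L b := e1.trans e2.symm
        calc (L a * L b) ^ 3 = (L a * L b * L a) * (L b * L a * L b) := by
              simp [pow_succ, mul_assoc]
          _ = 1 := by
            rw [h3]
            calc L b * L a * L b * (L b * L a * L b) = L b * (L a * (L b * L b) * L a) * L b := by
                  simp [mul_assoc]
              _ = 1 := by rw [hsq b hb, mul_one, hsq a ha, mul_one, hsq b hb]
  have hgroup : Cfsg.IsThreeTranspositionGroup D' := by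
    refine ⟨hset, ?_, hgen⟩
    rintro g _ ⟨a, ha, rfl⟩
    exact ⟨_, hgE.2.1 _ a ha, (hconj g a ha).symm⟩
  have hρs : Function.Surjective ρ := by
    rw [← MonoidHom.range_eq_top, eq_top_iff, ← hgE.2.2, Subgroup.closure_le]
    exact fun a ha => ⟨L a, himg a ha⟩
  have hprim : Cfsg.IsPrimitiveUnderConj D' := by
    refine ⟨?_, ?_, fun B hB hblock => ?_⟩
    · rintro _ ⟨a, ha, rfl⟩ _ ⟨b, hb, rfl⟩
      obtain ⟨g, rfl⟩ := hprimE.1 a ha b hb
      obtain ⟨k, rfl⟩ := hρs g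
      exact ⟨k, hconj k a ha⟩
    · obtain ⟨a, ha, b, hb, hne⟩ := hprimE.2.1
      exact ⟨_, ⟨a, ha, rfl⟩, _, ⟨b, hb, rfl⟩, fun e => hne (Linj a ha b hb e)⟩
    · set B₀ := {a | a ∈ E ∧ L a ∈ B} with hB₀
      have key : ∀ g : K, ∀ a ∈ E, (ρ g * a * (ρ g)⁻¹ ∈ (fun x => ρ g * x * (ρ g)⁻¹) '' B₀ ↔
          L (ρ g * a * (ρ g)⁻¹) ∈ (fun x => g * x * g⁻¹) '' B) := by
        intro g a ha
        constructor
        · rintro ⟨c, ⟨hc, hcB⟩, e⟩
          exact ⟨L c, hcB, (hconj g c hc).trans (congrArg L e)⟩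
        · rintro ⟨x, hx, e⟩
          obtain ⟨c, hc, rfl⟩ := hB hx
          refine ⟨c, ⟨hc, hx⟩, Linj _ (hgE.2.1 _ c hc) _ (hgE.2.1 _ a ha) ?_⟩
          rw [← hconj g c hc]; exact e
      have hblock₀ : ∀ y : Y, (fun x => y * x * y⁻¹) '' B₀ = B₀ ∨ Disjoint ((fun x => y * x * y⁻¹) '' B₀) B₀ := by
        intro y
        obtain ⟨g, rfl⟩ := hρs y
        have mk : ∀ b ∈ E, ρ g * ((ρ g)⁻¹ * b * ρ g) * (ρ g)⁻¹ = b := fun b _ => by group
        have hmem : ∀ b ∈ E, (ρ g)⁻¹ * b * ρ g ∈ E := fun b hb => by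
          simpa using hgE.2.1 (ρ g)⁻¹ b hb
        have key' : ∀ b ∈ E, (b ∈ (fun x => ρ g * x * (ρ g)⁻¹) '' B₀ ↔ L b ∈ (fun x => g * x * g⁻¹) '' B) := by
          intro b hb
          have := key g _ (hmem b hb)
          rwa [mk b hb] at this
        rcases hblock g with e | e
        · left
          ext b
          constructor
          · rintro ⟨c, hc, rfl⟩
            have hb := hgE.2.1 (ρ g) c hc.1
            refine ⟨hb, ?_⟩
            have := (key' _ hb).1 ⟨c, hc, rfl⟩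
            rwa [e] at this
          · rintro ⟨hb, hbB⟩
            exact (key' b hb).2 (e.symm ▸ hbB)
        · right
          rw [Set.disjoint_left]
          rintro b hb1 ⟨hb, hbB⟩
          exact Set.disjoint_left.1 e ((key' b hb).1 hb1) hbB
      rcases hprimE.2.2 B₀ (fun a ha => ha.1) hblock₀ with h | h
      · left
        intro x hx y hy
        obtain ⟨a, ha, rfl⟩ := hB hx
        obtain ⟨b, hb, rfl⟩ := hB hy
        rw [h ⟨ha, hx⟩ ⟨hb, hy⟩]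
      · right
        refine hB.antisymm ?_
        rintro _ ⟨a, ha, rfl⟩
        exact (h.symm ▸ ha : a ∈ B₀).2
  have hwK : ∃ a ∈ D', ∃ b ∈ D', a ≠ b ∧ Commute a b := by
    obtain ⟨a, ha, b, hb, hne, hc⟩ := hw
    exact ⟨_, ⟨a, ha, rfl⟩, _, ⟨b, hb, rfl⟩, fun e => hne (Linj a ha b hb e), (hcomm a ha b hb).2 hc⟩
  have hDd : ∀ a ∈ E, ∀ b ∈ E, (L b ∈ Dd D' (L a) ↔ b ∈ Dd E a) := fun a ha b hb =>
    ⟨fun h => ⟨hb, fun e => h.2.1 (by rw [e]), (hcomm a ha b hb).1 h.2.2⟩,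
      fun h => ⟨⟨b, hb, rfl⟩, fun e => h.2.1 (Linj b hb a ha e), (hcomm a ha b hb).2 h.2.2⟩⟩
  have hKc : ∀ a ∈ E, ∀ h ∈ Kc D' (L a), ρ h ∈ Kc E a := by
    intro a ha h hh
    induction hh using Subgroup.closure_induction with
    | mem y hy =>
      obtain ⟨⟨b, hb, rfl⟩, hc⟩ := hy
      rw [himg b hb]
      exact Subgroup.subset_closure ⟨hb, (hcomm a ha b hb).1 hc⟩
    | one => rw [map_one]; exact one_mem _
    | mul p q _ _ hp hq => rw [map_mul]; exact mul_mem hp hq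
    | inv p _ hp => rw [map_inv]; exact inv_mem hp
  have liftC : ∀ (T : Set Y) (T' : Set K), (∀ b ∈ T, b ∈ E ∧ L b ∈ T') → ∀ y ∈ Subgroup.closure T,
      ∃ h ∈ Subgroup.closure T', ρ h = y := by
    intro T T' hT y hy
    induction hy using Subgroup.closure_induction with
    | mem b hb => exact ⟨L b, Subgroup.subset_closure (hT b hb).2, himg b (hT b hb).1⟩
    | one => exact ⟨1, one_mem _, map_one ρ⟩
    | mul p q _ _ hp hq =>
      obtain ⟨u, hu, rfl⟩ := hp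
      obtain ⟨w, hw, rfl⟩ := hq
      exact ⟨u * w, mul_mem hu hw, map_mul ρ u w⟩
    | inv p _ hp =>
      obtain ⟨u, hu, rfl⟩ := hp
      exact ⟨u⁻¹, inv_mem hu, map_inv ρ u⟩
  have hbase : ∀ a ∈ E, ∀ k ∈ Kc D' (L a), ρ k = 1 → k = 1 := by
    intro a ha k hk h1
    refine (hker k h1).resolve_right fun e => hno a ha (e ▸ Subgroup.closure_mono ?_ hk)
    rintro y ⟨⟨b, hb, rfl⟩, hc⟩
    exact ⟨b, hb, (hcomm _ ha b hb).1 hc, rfl⟩
  have hHK : CoverHyp D' := by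
    refine ⟨?_, ?_, ?_, ?_, ?_, ?_⟩
    · rintro _ ⟨a, ha, rfl⟩ _ hb h hh hhb
      obtain ⟨b, hbE, rfl⟩ := hb.1
      have hb' := (hDd a ha b hbE).1 hb
      have hρ : Commute (ρ h) b := by
        have := hhb.map ρ
        rwa [himg b hbE] at this
      obtain ⟨h', hh', e⟩ := liftC _ (ClassTwo.cD D' (L a) ∩ ClassTwo.cD D' (L b))
        (fun c hc => ⟨hc.1.1, ⟨⟨⟨c, hc.1.1, rfl⟩, (hcomm a ha c hc.1.1).2 hc.1.2⟩,
          ⟨⟨c, hc.1.1, rfl⟩, (hcomm b hbE c hc.1.1).2 hc.2.2⟩⟩⟩) _ (hH.stab a ha b hb' _ (hKc a ha h hh) hρ)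
      have hk : h'⁻¹ * h ∈ Kc D' (L a) :=
        mul_mem (inv_mem (Subgroup.closure_mono Set.inter_subset_left hh')) hh
      have := hbase a ha _ hk (by rw [map_mul, map_inv, e, inv_mul_cancel])
      rwa [inv_mul_eq_one.1 this] at hh'
    · rintro _ ⟨a, ha, rfl⟩ _ hb _ hb'
      obtain ⟨b, hbE, rfl⟩ := hb.1
      obtain ⟨b', hbE', rfl⟩ := hb'.1
      obtain ⟨g, hg, rfl⟩ := hH.trans a ha b ((hDd a ha b hbE).1 hb) b' ((hDd a ha b' hbE').1 hb')
      obtain ⟨h, hh, rfl⟩ := liftC _ (ClassTwo.cD D' (L a))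
        (fun c hc => ⟨hc.1, ⟨c, hc.1, rfl⟩, (hcomm a ha c hc.1).2 hc.2⟩) _ hg
      exact ⟨h, hh, hconj h b hbE⟩
    · rintro _ ⟨a, ha, rfl⟩ _ hb _ hxa hxb _ hya hyb
      obtain ⟨b, hbE, rfl⟩ := hb.1
      obtain ⟨x, hxE, rfl⟩ := hxa.1
      obtain ⟨y, hyE, rfl⟩ := hya.1
      obtain ⟨g, hg, hgb, rfl⟩ := hH.trans₂ a ha b ((hDd a ha b hbE).1 hb) x ((hDd a ha x hxE).1 hxa)
        ((hDd b hbE x hxE).1 hxb) y ((hDd a ha y hyE).1 hya) ((hDd b hbE y hyE).1 hyb)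
      obtain ⟨h, hh, rfl⟩ := liftC _ (ClassTwo.cD D' (L a))
        (fun c hc => ⟨hc.1, ⟨c, hc.1, rfl⟩, (hcomm a ha c hc.1).2 hc.2⟩) _ hg
      refine ⟨h, hh, ?_, hconj h x hxE⟩
      refine mul_inv_eq_iff_eq_mul.1 ((hconj h b hbE).trans ?_)
      rw [hgb.eq, mul_inv_cancel_right]
    · rintro _ ⟨a, ha, rfl⟩ _ hx
      obtain ⟨x, hxE, rfl⟩ := hx.1
      obtain ⟨b, hb1, hb2⟩ := hH.nonempty a ha x ((hDd a ha x hxE).1 hx)
      exact ⟨L b, (hDd a ha b hb1.1).2 hb1, (hDd x hxE b hb1.1).2 hb2⟩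
    · rintro _ ⟨a, ha, rfl⟩ _ hx _ hba hbx _ hba' hbx' hn
      obtain ⟨x, hxE, rfl⟩ := hx.1
      obtain ⟨b, hbE, rfl⟩ := hba.1
      obtain ⟨b', hbE', rfl⟩ := hba'.1
      obtain ⟨c, h1, h2, h3, h4⟩ := hH.common a ha x ((hDd a ha x hxE).1 hx) b ((hDd a ha b hbE).1 hba)
        ((hDd x hxE b hbE).1 hbx) b' ((hDd a ha b' hbE').1 hba') ((hDd x hxE b' hbE').1 hbx')
        fun h => hn ((hcomm b hbE b' hbE').2 h)
      exact ⟨L c, (hDd a ha c h1.1).2 h1, (hDd x hxE c h1.1).2 h2, (hDd b hbE c h1.1).2 h3,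
        (hDd b' hbE' c h1.1).2 h4⟩
    · rintro _ ⟨a, ha, rfl⟩ _ hx _ ⟨e, he, rfl⟩ hde hxe
      obtain ⟨x, hxE, rfl⟩ := hx.1
      obtain ⟨b, h1, h2, h3⟩ := hH.good a ha x ((hDd a ha x hxE).1 hx) e he
        (fun h => hde ((hcomm a ha e he).2 h)) fun h => hxe ((hcomm x hxE e he).2 h)
      exact ⟨L b, (hDd a ha b h1.1).2 h1, (hDd x hxE b h1.1).2 h2, (hcomm e he b h1.1).2 h3⟩
  obtain ⟨a, ha, -⟩ := hprimE.2.1
  have hzc : z * L a = L a * z := by
    have := hconj z a ha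
    rw [hρz, one_mul, inv_one, mul_one] at this
    exact mul_inv_eq_iff_eq_mul.1 this
  have hmem : z ∈ Kc D' (L a) := by
    rw [← hHK.centralizer_eq (conjClosed_of_group hgroup) ⟨a, ha, rfl⟩ (classTwo_of_primitive hgroup hprim)
      hprim hwK]
    exact Subgroup.mem_centralizer_singleton_iff.2 hzc
  exact hz1 (hbase a ha z hmem hρz)

section Pairs

variable {G₁ G₂ : Type*} [Group G₁] [Group G₂]

/-- The group of pairs of corresponding products. -/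
def pairs (S : Set G₁) (f : G₁ → G₂) : Subgroup (G₁ × G₂) := Subgroup.closure ((fun u => (u, f u)) '' S)

theorem pairs_list {S : Set G₁} {f : G₁ → G₂} : ∀ l : List G₁, (∀ x ∈ l, x ∈ S) → (l.prod, (l.map f).prod) ∈ pairs S f
  | [], _ => one_mem _
  | a :: t, h => by
    have h1 := mul_mem (show (a, f a) ∈ pairs S f from Subgroup.subset_closure ⟨a, h a (by simp), rfl⟩)
      (pairs_list (f := f) t fun x hx => h x (List.mem_cons_of_mem _ hx))
    rwa [List.prod_cons, List.map_cons, List.prod_cons]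

variable [Finite G₁] [Finite G₂] {D₁ : Set G₁} {d₁ : G₁} {D₂ : Set G₂} {d₂ : G₂} {k : ℕ} {f : G₁ → G₂}
  (hf : Match D₁ d₁ D₂ d₂ k f) {Y₁ : Type*} [Group Y₁] [Finite Y₁] {Y₂ : Type*} [Group Y₂] {E₁ : Set Y₁}
  {E₂ : Set Y₂} {N₁ k₁ l₁ m₁ N₂ k₂ l₂ m₂ : ℕ} (S₁ : Stage D₁ E₁ N₁ k₁ l₁ m₁) (S₂ : Stage D₂ E₂ N₂ k₂ l₂ m₂)
include hf S₁ S₂

theorem lifts_of_notMem (h : ((1 : G₁), d₂) ∉ pairs (insert d₁ (Dd D₁ d₁)) f) : Lifts D₁ d₁ f := by
  intro l hl hp
  refine (hf.prod_cases S₂ l hl hp).resolve_right fun e => h ?_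
  have := pairs_list (f := f) l hl
  rwa [hp, e] at this

theorem pair_conj {r : G₁ × G₂} (hr : r ∈ pairs (insert d₁ (Dd D₁ d₁)) f) :
    Commute r.1 d₁ ∧ Commute r.2 d₂ ∧ ∀ u ∈ Dd D₁ d₁,
      r.1 * u * r.1⁻¹ ∈ Dd D₁ d₁ ∧ f (r.1 * u * r.1⁻¹) = r.2 * f u * r.2⁻¹ := by
  have hs₁ := hf.closed₁.set
  have hs₂ := hf.closed₂.set
  have mapA : ∀ {g : G₁}, Commute g d₁ → ∀ {u}, u ∈ Dd D₁ d₁ → g * u * g⁻¹ ∈ Dd D₁ d₁ := fun hg _ hu =>
    conj_mem_Dd hf.closed₁ hg hu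
  induction hr using Subgroup.closure_induction with
  | mem x hx =>
    obtain ⟨a, ha, rfl⟩ := hx
    dsimp only
    rcases Set.mem_insert_iff.1 ha with rfl | ha
    · refine ⟨Commute.refl _, by simp [hf.base], fun u hu => ?_⟩
      rw [hf.base, hu.2.2.eq, mul_inv_cancel_right, (hf.mapsTo hu).2.2.eq, mul_inv_cancel_right]
      exact ⟨hu, rfl⟩
    · refine ⟨ha.2.2.symm, (hf.mapsTo ha).2.2.symm, fun u hu => ?_⟩
      rw [inv_eq hs₁ ha.1, inv_eq hs₂ (hf.mapsTo ha).1]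
      exact ⟨hf.conj_mem ha hu, hf.conj a ha u hu⟩
  | one => exact ⟨Commute.one_left _, Commute.one_left _, fun u hu => by simp [hu]⟩
  | mul x y _ _ hx hy =>
    refine ⟨hx.1.mul_left hy.1, hx.2.1.mul_left hy.2.1, fun u hu => ?_⟩
    obtain ⟨h1, h2⟩ := hy.2.2 u hu
    obtain ⟨h3, h4⟩ := hx.2.2 _ h1
    rw [Prod.fst_mul, Prod.snd_mul,
      show x.1 * y.1 * u * (x.1 * y.1)⁻¹ = x.1 * (y.1 * u * y.1⁻¹) * x.1⁻¹ by group,
      show x.2 * y.2 * f u * (x.2 * y.2)⁻¹ = x.2 * (y.2 * f u * y.2⁻¹) * x.2⁻¹ by group, ← h2, ← h4]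
    exact ⟨h3, rfl⟩
  | inv x _ hx =>
    refine ⟨hx.1.inv_left, hx.2.1.inv_left, fun u hu => ?_⟩
    have h1 := mapA hx.1.inv_left hu
    rw [inv_inv] at h1
    obtain ⟨-, h2⟩ := hx.2.2 _ h1
    rw [show x.1 * (x.1⁻¹ * u * x.1) * x.1⁻¹ = u by group] at h2
    rw [Prod.fst_inv, Prod.snd_inv, inv_inv, inv_inv, h2]
    exact ⟨h1, by group⟩

/-- The cover of pairs. -/
theorem exists_pairCover (hd : d₁ ∈ Hd D₁ d₁) {π : Hd D₁ d₁ →* Y₁} (M : Model D₁ d₁ E₁ π)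
    (hbad : ((1 : G₁), d₂) ∈ pairs (insert d₁ (Dd D₁ d₁)) f) :
    ∃ (R : Subgroup (G₁ × G₂)) (N : Subgroup R) (_ : N.Normal) (ρ : R ⧸ N →* Y₁) (L : Y₁ → R ⧸ N) (z : R ⧸ N),
      (∀ a ∈ E₁, ρ (L a) = a) ∧ (∀ a ∈ E₁, L a * L a = 1) ∧
      (∀ g : R ⧸ N, ∀ a ∈ E₁, g * L a * g⁻¹ = L (ρ g * a * (ρ g)⁻¹)) ∧ Subgroup.closure (L '' E₁) = ⊤ ∧
      z * z = 1 ∧ ρ z = 1 ∧ z ≠ 1 ∧ (∀ k, ρ k = 1 → k = 1 ∨ k = z) ∧
      (∀ xs : List G₁, (∀ x ∈ xs, x ∈ Dd D₁ d₁) →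
        (xs.prod = 1 ∧ (xs.map f).prod = 1 ∨ xs.prod = d₁ ∧ (xs.map f).prod = d₂) →
        ((xs.map (phi π)).map L).prod = 1) ∧
      (∀ a ∈ Dd D₁ d₁, z ∈ Subgroup.closure {k | ∃ b ∈ E₁, Commute (phi π a) b ∧ L b = k} →
        ((1 : G₁), d₂) ∈ pairs {u | u ∈ insert d₁ (Dd D₁ d₁) ∧ Commute a u} f) := by
  classical
  have hs₁ := hf.closed₁.set
  have hs₂ := hf.closed₂.set
  set A := insert d₁ (Dd D₁ d₁)
  set R := pairs A f
  have hdR : (d₁, d₂) ∈ R := Subgroup.subset_closure ⟨d₁, Set.mem_insert _ _, by simp [hf.base]⟩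
  set dd : R := ⟨(d₁, d₂), hdR⟩
  have hdd2 : dd * dd = 1 := Subtype.ext (Prod.ext (mul_self hs₁ hf.mem₁) (mul_self hs₂ hf.mem₂))
  set N := Subgroup.zpowers dd
  haveI hN : N.Normal := ⟨fun n hn g => by
    obtain ⟨i, rfl⟩ := Subgroup.mem_zpowers_iff.1 hn
    have h := pair_conj hf S₁ S₂ g.2
    have hc : Commute g dd := Subtype.ext (Prod.ext h.1.eq h.2.1.eq)
    rw [(hc.zpow_right i).eq, mul_inv_cancel_right]
    exact hn⟩
  have hNmem : ∀ x : R, x ∈ N → x = 1 ∨ x = dd := by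
    intro x hx
    obtain ⟨i, rfl⟩ := Subgroup.mem_zpowers_iff.1 hx
    rcases Int.even_or_odd i with ⟨j, rfl⟩ | ⟨j, rfl⟩
    · left; rw [← two_mul, zpow_mul, zpow_two, hdd2, one_zpow]
    · right; rw [zpow_add_one, zpow_mul, zpow_two, hdd2, one_zpow, one_mul]
  have hfst : ∀ x : R, (x : G₁ × G₂).1 ∈ Hd D₁ d₁ := fun x => by
    have : R ≤ (Hd D₁ d₁).comap (MonoidHom.fst G₁ G₂) := (Subgroup.closure_le _).2 (by
      rintro _ ⟨u, hu, rfl⟩
      rcases Set.mem_insert_iff.1 hu with rfl | hu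
      exacts [hd, Subgroup.subset_closure hu])
    exact this x.2
  let ρ₀ : R →* Y₁ := π.comp (((MonoidHom.fst G₁ G₂).comp R.subtype).codRestrict (Hd D₁ d₁) hfst)
  have hρ₀ : ∀ x : R, ρ₀ x = π ⟨(x : G₁ × G₂).1, hfst x⟩ := fun x => rfl
  have hπd : π ⟨d₁, hd⟩ = 1 := (M.base.map_eq_one_iff' _).2 fun y hy => hy.2.2
  have hNle : N ≤ ρ₀.ker := (Subgroup.zpowers_le).2 (MonoidHom.mem_ker.2 hπd)
  let pick : Y₁ → G₁ := fun e => if h : ∃ x ∈ Dd D₁ d₁, phi π x = e then h.choose else d₁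
  have hpick : ∀ x ∈ Dd D₁ d₁, pick (phi π x) = x := fun x hx => by
    have h : ∃ x' ∈ Dd D₁ d₁, phi π x' = phi π x := ⟨x, hx, rfl⟩
    simp only [pick, dif_pos h]
    exact M.inj h.choose_spec.1 hx h.choose_spec.2
  let el : G₁ → R := fun u => if hu : u ∈ A then ⟨(u, f u), Subgroup.subset_closure ⟨u, hu, rfl⟩⟩ else 1
  have hel : ∀ u ∈ A, ((el u : R) : G₁ × G₂) = (u, f u) := fun u hu => by simp [el, dif_pos hu]
  let L : Y₁ → R ⧸ N := fun e => QuotientGroup.mk (el (pick e))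
  let ρ : R ⧸ N →* Y₁ := QuotientGroup.lift N ρ₀ hNle
  have hL : ∀ x ∈ Dd D₁ d₁, L (phi π x) = QuotientGroup.mk (el x) := fun x hx => by
    simp only [L, hpick x hx]
  have himg : ∀ a ∈ E₁, ρ (L a) = a := by
    intro a ha
    obtain ⟨x, hx, rfl⟩ := M.onto ha
    rw [hL x hx]
    show ρ₀ (el x) = _
    rw [hρ₀, phi_of_mem π (x := ⟨x, Subgroup.subset_closure hx⟩) hx]
    exact congrArg π (Subtype.ext (congrArg Prod.fst (hel x (Set.mem_insert_of_mem _ hx))))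
  have hsq : ∀ a ∈ E₁, L a * L a = 1 := by
    intro a ha
    obtain ⟨x, hx, rfl⟩ := M.onto ha
    rw [hL x hx, ← QuotientGroup.mk_mul, show el x * el x = 1 from Subtype.ext ?_, QuotientGroup.mk_one]
    rw [Subgroup.coe_mul, hel x (Set.mem_insert_of_mem _ hx)]
    exact Prod.ext (mul_self hs₁ hx.1) (mul_self hs₂ (hf.mapsTo hx).1)
  have hconj : ∀ g : R ⧸ N, ∀ a ∈ E₁, g * L a * g⁻¹ = L (ρ g * a * (ρ g)⁻¹) := by
    intro g a ha
    obtain ⟨r, rfl⟩ := QuotientGroup.mk_surjective g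
    obtain ⟨x, hx, rfl⟩ := M.onto ha
    obtain ⟨hm, he⟩ := (pair_conj hf S₁ S₂ r.2).2.2 x hx
    rw [show ρ (QuotientGroup.mk r) * phi π x * (ρ (QuotientGroup.mk r))⁻¹ =
        phi π ((r : G₁ × G₂).1 * x * (r : G₁ × G₂).1⁻¹) from (M.phi_conj ⟨_, hfst r⟩ hx).symm,
      hL x hx, hL _ hm, ← QuotientGroup.mk_inv, ← QuotientGroup.mk_mul, ← QuotientGroup.mk_mul]
    refine congrArg QuotientGroup.mk (Subtype.ext ?_)
    rw [Subgroup.coe_mul, Subgroup.coe_mul, Subgroup.coe_inv, hel x (Set.mem_insert_of_mem _ hx),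
      hel _ (Set.mem_insert_of_mem _ hm)]
    exact Prod.ext rfl he.symm
  have hmk : ∀ u ∈ A, (QuotientGroup.mk (el u) : R ⧸ N) = 1 ∨ u ∈ Dd D₁ d₁ := fun u hu => by
    rcases Set.mem_insert_iff.1 hu with e | h
    · left
      rw [QuotientGroup.eq_one_iff, show el u = dd from Subtype.ext (by rw [hel u hu, e, hf.base])]
      exact Subgroup.mem_zpowers dd
    · exact Or.inr h
  have hgen : Subgroup.closure (L '' E₁) = ⊤ := by
    have h : ∀ (x) (hx : x ∈ R), (QuotientGroup.mk (⟨x, hx⟩ : R) : R ⧸ N) ∈ Subgroup.closure (L '' E₁) := by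
      intro x hx
      induction hx using Subgroup.closure_induction with
      | mem y hy =>
        obtain ⟨u, hu, rfl⟩ := hy
        have e : (⟨(u, f u), Subgroup.subset_closure ⟨u, hu, rfl⟩⟩ : R) = el u := Subtype.ext (hel u hu).symm
        show (QuotientGroup.mk (⟨(u, f u), Subgroup.subset_closure ⟨u, hu, rfl⟩⟩ : R) : R ⧸ N) ∈ _
        rw [e]
        rcases hmk u hu with h | h
        · rw [h]; exact one_mem _
        · exact Subgroup.subset_closure ⟨_, M.mem h, hL u h⟩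
      | one => exact one_mem _
      | mul y y' hy hy' ih ih' => exact mul_mem ih ih'
      | inv y hy ih => exact inv_mem ih
    rw [eq_top_iff]
    intro g _
    obtain ⟨⟨x, hx⟩, rfl⟩ := QuotientGroup.mk_surjective g
    exact h x hx
  set zz : R := ⟨((1 : G₁), d₂), hbad⟩
  have hz1 : (QuotientGroup.mk zz : R ⧸ N) ≠ 1 := by
    rw [Ne, QuotientGroup.eq_one_iff]
    intro h
    rcases hNmem _ h with e | e
    · exact ne_one hs₂ hf.mem₂ (congrArg (fun x : R => (x : G₁ × G₂).2) e)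
    · exact ne_one hs₁ hf.mem₁ (congrArg (fun x : R => (x : G₁ × G₂).1) e).symm
  have hker : ∀ g : R ⧸ N, ρ g = 1 → g = 1 ∨ g = QuotientGroup.mk zz := by
    intro g hg
    obtain ⟨r, rfl⟩ := QuotientGroup.mk_surjective g
    have hr := pair_conj hf S₁ S₂ r.2
    have h1 := (M.base.map_eq_one_iff' ⟨_, hfst r⟩).1 hg
    have h2 : (r : G₁ × G₂).2 = 1 ∨ (r : G₁ × G₂).2 = d₂ := S₂.kernel hf.mem₂ hr.2.1 fun y hy => by
      obtain ⟨u, hu, rfl⟩ := hf.onto hy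
      have e := (hr.2.2 u hu).2
      rw [(h1 u hu).eq, mul_inv_cancel_right] at e
      exact mul_inv_eq_iff_eq_mul.1 e.symm
    rcases S₁.kernel hf.mem₁ hr.1 h1 with e1 | e1 <;> rcases h2 with e2 | e2
    · left; rw [show r = 1 from Subtype.ext (Prod.ext e1 e2), QuotientGroup.mk_one]
    · right; rw [show r = zz from Subtype.ext (Prod.ext e1 e2)]
    · right
      rw [QuotientGroup.eq]
      rw [show r⁻¹ * zz = dd from Subtype.ext (Prod.ext (by
        show (r : G₁ × G₂).1⁻¹ * 1 = d₁; rw [e1, mul_one, inv_eq hs₁ hf.mem₁]) (by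
        show (r : G₁ × G₂).2⁻¹ * d₂ = d₂; rw [e2, inv_one, one_mul]))]
      exact Subgroup.mem_zpowers dd
    · left
      rw [QuotientGroup.eq_one_iff, show r = dd from Subtype.ext (Prod.ext e1 e2)]
      exact Subgroup.mem_zpowers dd
  refine ⟨R, N, hN, ρ, L, QuotientGroup.mk zz, himg, hsq, hconj, hgen, ?_, ?_, hz1, hker, ?_, ?_⟩
  · rw [← QuotientGroup.mk_mul, show zz * zz = 1 from Subtype.ext (Prod.ext (mul_one 1) (mul_self hs₂ hf.mem₂)),
      QuotientGroup.mk_one]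
  · exact (congrArg π (Subtype.ext rfl : (⟨_, hfst zz⟩ : Hd D₁ d₁) = 1)).trans (map_one π)
  · intro xs hxs hval
    have e : ∀ xs : List G₁, (∀ x ∈ xs, x ∈ Dd D₁ d₁) → ((xs.map (phi π)).map L).prod =
        QuotientGroup.mk (xs.map el).prod ∧ (((xs.map el).prod : R) : G₁ × G₂) = (xs.prod, (xs.map f).prod) := by
      intro xs
      induction xs with
      | nil => intro _; exact ⟨rfl, rfl⟩
      | cons x t ih =>
        intro h
        obtain ⟨h1, h2⟩ := ih fun y hy => h y (List.mem_cons_of_mem _ hy)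
        refine ⟨?_, ?_⟩
        · rw [List.map_cons, List.map_cons, List.prod_cons, h1, hL x (h x (by simp)), List.map_cons,
            List.prod_cons, QuotientGroup.mk_mul]
        · rw [List.map_cons, List.prod_cons, Subgroup.coe_mul, h2, hel x (Set.mem_insert_of_mem _ (h x (by simp))),
            List.prod_cons, List.map_cons, List.prod_cons, Prod.mk_mul_mk]
    obtain ⟨h1, h2⟩ := e xs hxs
    rw [h1, QuotientGroup.eq_one_iff]
    rcases hval with ⟨a, b⟩ | ⟨a, b⟩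
    · rw [show (xs.map el).prod = 1 from Subtype.ext (h2.trans (Prod.ext a b))]; exact one_mem _
    · rw [show (xs.map el).prod = dd from Subtype.ext (h2.trans (Prod.ext a b))]; exact Subgroup.mem_zpowers dd
  · intro a ha hmem
    set T := pairs {u | u ∈ A ∧ Commute a u} f
    have hle : Subgroup.closure {k | ∃ b ∈ E₁, Commute (phi π a) b ∧ L b = k} ≤
        (T.subgroupOf R).map (QuotientGroup.mk' N) := by
      refine (Subgroup.closure_le _).2 ?_
      rintro _ ⟨b, hb, hc, rfl⟩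
      obtain ⟨x, hx, rfl⟩ := M.onto hb
      refine ⟨el x, ?_, (hL x hx).symm⟩
      rw [SetLike.mem_coe, Subgroup.mem_subgroupOf, hel x (Set.mem_insert_of_mem _ hx)]
      exact Subgroup.subset_closure ⟨x, ⟨Set.mem_insert_of_mem _ hx, (M.comm ha hx).1 hc⟩, rfl⟩
    obtain ⟨r, hr, e⟩ := hle hmem
    rw [QuotientGroup.mk'_apply, QuotientGroup.eq] at e
    rw [SetLike.mem_coe, Subgroup.mem_subgroupOf] at hr
    have hddT : (d₁, d₂) ∈ T := Subgroup.subset_closure ⟨d₁, ⟨Set.mem_insert _ _, ha.2.2.symm⟩, by simp [hf.base]⟩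
    rcases hNmem _ e with h | h
    · rw [inv_mul_eq_one] at h
      rwa [h] at hr
    · have h' : zz = r * dd := by rw [← h, mul_inv_cancel_left]
      have := mul_mem hr hddT
      rwa [show (r : G₁ × G₂) * (d₁, d₂) = ((r * dd : R) : G₁ × G₂) from rfl, ← h'] at this

/-- From one level down. -/
theorem lifts_step {j : ℕ} (hk : k = j + 1) (hd : d₁ ∈ Hd D₁ d₁) (hH : CoverHyp E₁)
    (hprimE : Cfsg.IsPrimitiveUnderConj E₁) (hw : ∃ a ∈ E₁, ∃ b ∈ E₁, a ≠ b ∧ Commute a b)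
    (hno : NoRel D₁ j) (hno₂ : NoRel D₂ j)
    (hlow : ∀ (a : Y₁) (b : Y₂) (g : Y₁ → Y₂), Match E₁ a E₂ b j g → Lifts E₁ a g) : Lifts D₁ d₁ f := by
  classical
  refine lifts_of_notMem hf S₁ S₂ fun hbad => ?_
  obtain ⟨π, M⟩ := S₁.base d₁ hf.mem₁
  obtain ⟨R, N, _, ρ, L, z, himg, hsq, hconj, hgen, -, hρz, hz1, hker, -, hdown⟩ :=
    exists_pairCover hf S₁ S₂ hd M hbad
  obtain ⟨a, ha, hmem⟩ := cover_climb hH hprimE S₁.loc.group hw himg hsq hconj hgen hρz hz1 hker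
  obtain ⟨p, hp, rfl⟩ := M.onto ha
  have hbad' := hdown p hp hmem
  obtain ⟨π₁, M₁⟩ := S₁.base p hp.1
  obtain ⟨π₂, M₂⟩ := S₂.base (f p) (hf.mapsTo hp).1
  obtain ⟨g, hgM, hg⟩ := hf.descend hk S₁ S₂ hno hno₂ hp M₁ M₂
  set B := {u | u ∈ insert d₁ (Dd D₁ d₁) ∧ u ∈ Dd D₁ p}
  have hP := (hf.mapsTo hp).1
  have fB : ∀ {u}, u ∈ B → f u ∈ Dd D₂ (f p) := fun {u} hu => by
    rcases Set.mem_insert_iff.1 hu.1 with e | hud
    · rw [e, hf.base]; exact Dd_symm hf.mem₂ (hf.mapsTo hp)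
    · exact (hf.mem_Dd_iff hp hud).2 hu.2
  -- every pair is one with no copy of `p`, times a power of the pair of `p`
  have split : ∀ x ∈ pairs {u | u ∈ insert d₁ (Dd D₁ d₁) ∧ Commute p u} f, ∃ l : List G₁, (∀ u ∈ l, u ∈ B) ∧
      (x = (l.prod, (l.map f).prod) ∨ x = (p * l.prod, f p * (l.map f).prod)) := by
    intro x hx
    obtain ⟨l, hl, rfl⟩ := exists_list (S := (fun u => (u, f u)) '' {u | u ∈ insert d₁ (Dd D₁ d₁) ∧ Commute p u})
      (by
        rintro _ ⟨u, hu, rfl⟩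
        dsimp only
        rcases Set.mem_insert_iff.1 hu.1 with e | h
        · exact Prod.ext (mul_self hf.closed₁.set (e ▸ hf.mem₁)) (mul_self hf.closed₂.set (by rw [e, hf.base]; exact hf.mem₂))
        · exact Prod.ext (mul_self hf.closed₁.set h.1) (mul_self hf.closed₂.set (hf.mapsTo h).1)) hx
    clear hx
    induction l with
    | nil => exact ⟨[], by simp, Or.inl rfl⟩
    | cons y t ih =>
      obtain ⟨u, hu, rfl⟩ := hl y (by simp)
      obtain ⟨l', hl', h⟩ := ih fun w hw => hl w (List.mem_cons_of_mem _ hw)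
      by_cases e : u = p
      · subst e
        refine ⟨l', hl', ?_⟩
        rw [List.prod_cons]
        rcases h with h | h <;> rw [h]
        · exact Or.inr rfl
        · left
          exact Prod.ext (mul_self_mul hf.closed₁.set hp.1 _) (mul_self_mul hf.closed₂.set hP _)
      have huB : u ∈ B := ⟨hu.1, (mem_cD hf.mem₁ hu.1).1, e, hu.2⟩
      refine ⟨u :: l', fun w hw => (List.mem_cons.1 hw).elim (fun h => h ▸ huB) (hl' w), ?_⟩
      rw [List.prod_cons, List.map_cons, List.prod_cons, List.prod_cons]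
      rcases h with h | h <;> rw [h]
      · exact Or.inl rfl
      · right
        refine Prod.ext ?_ ?_
        · show u * (p * l'.prod) = p * (u * l'.prod)
          rw [← mul_assoc, hu.2.symm.eq, mul_assoc]
        · show f u * (f p * (l'.map f).prod) = f p * (f u * (l'.map f).prod)
          rw [← mul_assoc, (fB huB).2.2.symm.eq, mul_assoc]
  obtain ⟨l, hl, hcase⟩ := split _ hbad'
  have hl₁ : ∀ u ∈ l.map (phi π₁), u ∈ insert (phi π₁ d₁) (Dd E₁ (phi π₁ d₁)) := by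
    intro e he
    obtain ⟨u, hu, rfl⟩ := List.mem_map.1 he
    rcases Set.mem_insert_iff.1 (hl u hu).1 with h | h
    · rw [h]; exact Set.mem_insert _ _
    · exact Set.mem_insert_of_mem _ ((M₁.mem_Dd (Dd_symm hf.mem₁ hp) (hl u hu).2).2 h)
  obtain ⟨h, hh, hπ⟩ := phi_prod (π := π₁) l fun u hu => (hl u hu).2
  obtain ⟨h', hh', hπ'⟩ := phi_prod (π := π₂) (l.map f) fun u hu => by
    obtain ⟨w, hw, rfl⟩ := List.mem_map.1 hu; exact fB (hl w hw)
  have h1 : π₁ h = 1 := (M₁.base.map_eq_one_iff' h).2 fun y hy => by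
    rw [hh]
    rcases hcase with e | e
    · have e₁ : (1 : G₁) = l.prod := congrArg Prod.fst e
      rw [← e₁]; exact Commute.one_left y
    · have e₁ : (1 : G₁) = p * l.prod := congrArg Prod.fst e
      rw [eq_inv_of_mul_eq_one_right e₁.symm, inv_eq hf.closed₁.set hp.1]
      exact hy.2.2
  have h2 := hlow _ _ g hgM _ hl₁ (hπ ▸ h1)
  have h3 : π₂ h' = 1 := by
    rw [hπ', ← h2, List.map_map, List.map_map]
    exact congrArg List.prod (List.map_congr_left fun u hu => (hg u (hl u hu).2).symm)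
  have hne : f p ≠ d₂ := (hf.mapsTo hp).2.1
  have hd2 := ne_one hf.closed₂.set hf.mem₂
  rcases S₂.kernel hP (commute_of_mem_Hd h'.2) ((M₂.base.map_eq_one_iff' h').1 h3) with e₂ | e₂ <;>
    rw [hh'] at e₂ <;> rcases hcase with e | e <;> have e' : d₂ = _ := congrArg Prod.snd e <;>
      simp only [e₂] at e'
  · exact hd2 e'
  · rw [mul_one] at e'; exact hne e'.symm
  · exact hne e'.symm
  · exact hd2 (e'.trans (mul_self hf.closed₂.set hP))

end Pairs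

/-- Type M(22): a map of neighbours respecting relations lifts. -/
theorem lifts22 {G₁ G₂ : Type*} [Group G₁] [Finite G₁] [Group G₂] [Finite G₂] {D₁ : Set G₁} {D₂ : Set G₂}
    {d₁ : G₁} {d₂ : G₂} {f : G₁ → G₂} {F : Type*} [Field F] [Fintype F] (hF : Fintype.card F = 2 ^ 2)
    {E₁ : Set (Cfsg.PSU 6 F 2)} {Y₂ : Type*} [Group Y₂] {E₂ : Set Y₂} {N₁ k₁ l₁ m₁ N₂ k₂ l₂ m₂ : ℕ}
    (hf : Match D₁ d₁ D₂ d₂ 6 f) (S₁ : Stage D₁ E₁ N₁ k₁ l₁ m₁) (S₂ : Stage D₂ E₂ N₂ k₂ l₂ m₂)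
    (hd : d₁ ∈ Hd D₁ d₁) (hT : USix.TClass E₁) (hno : NoRel D₁ 5) : Lifts D₁ d₁ f := by
  classical
  refine lifts_of_notMem hf S₁ S₂ fun hbad => ?_
  obtain ⟨π, M⟩ := S₁.base d₁ hf.mem₁
  obtain ⟨R, N, _, ρ, L, z, himg, hsq, hconj, hgen, hz2, hρz, hz1, hker, hlist, -⟩ :=
    exists_pairCover hf S₁ S₂ hd M hbad
  refine USix.Lifted.no_cover (L := L) hF ⟨hT, himg, hsq, hconj, fun l hnd hlen hm hc hp => ?_⟩ hz2 hρz hz1 hker
    (hgen ▸ Subgroup.mem_top z)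
  have pick : ∀ e ∈ l, ∃ x ∈ Dd D₁ d₁, phi π x = e := fun e he => M.onto (hm e he)
  choose! t ht hte using pick
  obtain ⟨T, hTdef⟩ : ∃ T, T = l.map t := ⟨_, rfl⟩
  have hTm : ∀ x ∈ T, x ∈ Dd D₁ d₁ := by
    intro x hx
    rw [hTdef] at hx
    obtain ⟨e, he, rfl⟩ := List.mem_map.1 hx
    exact ht e he
  have hTl : T.map (phi π) = l := by
    rw [hTdef, List.map_map]
    exact (List.map_congr_left fun e he => hte e he).trans (List.map_id _)
  have hTnd : T.Nodup := List.Nodup.of_map (phi π) (hTl.symm ▸ hnd)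
  have hTlen : T.length = l.length := by rw [← hTl, List.length_map]
  have hTc : ∀ x ∈ T, ∀ y ∈ T, Commute x y := fun x hx y hy => (M.comm (hTm x hx) (hTm y hy)).1
    (hc _ (hTl ▸ List.mem_map_of_mem hx) _ (hTl ▸ List.mem_map_of_mem hy))
  rw [← hTl]
  refine hlist T hTm ?_
  obtain ⟨h, hh, hπ⟩ := phi_prod (π := π) T hTm
  rw [hTl, hp, M.base.map_eq_one_iff', hh] at hπ
  have hcases : T.prod = 1 ∨ T.prod = d₁ := S₁.kernel hf.mem₁ (hh ▸ commute_of_mem_Hd h.2) hπ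
  have hmA : ∀ x ∈ T, x ∈ insert d₁ (Dd D₁ d₁) := fun x hx => Set.mem_insert_of_mem _ (hTm x hx)
  have hmA' : ∀ x ∈ d₁ :: T, x ∈ insert d₁ (Dd D₁ d₁) := List.forall_mem_cons.2 ⟨Set.mem_insert _ _, hmA⟩
  rcases hlen with h5 | h6
  · have hpd : T.prod = d₁ := hcases.resolve_left
      fun e => hno T hTnd (hTlen.trans h5) (fun x hx => (hTm x hx).1) hTc e
    have hrel := (hf.rel (d₁ :: T) (List.nodup_cons.2 ⟨fun hx => (hTm d₁ hx).2.1 rfl, hTnd⟩) (by simp [hTlen, h5])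
      hmA' (fun x hx y hy => by
        rcases List.mem_cons.1 hx with e₁ | hx' <;> rcases List.mem_cons.1 hy with e₂ | hy'
        · rw [e₁, e₂]
        · rw [e₁]; exact (hTm y hy').2.2
        · rw [e₂]; exact (hTm x hx').2.2.symm
        · exact hTc x hx' y hy')).1 (by rw [List.prod_cons, hpd, mul_self hf.closed₁.set hf.mem₁])
    rw [List.map_cons, List.prod_cons, hf.base] at hrel
    exact Or.inr ⟨hpd, by rw [eq_inv_of_mul_eq_one_right hrel, inv_eq hf.closed₂.set hf.mem₂]⟩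
  · have hiff := hf.rel T hTnd (hTlen.trans h6) hmA hTc
    rcases hcases with e | e
    · exact Or.inl ⟨e, hiff.1 e⟩
    refine Or.inr ⟨e, ?_⟩
    rcases hf.prod_cases S₂ (d₁ :: T) hmA' (by rw [List.prod_cons, e, mul_self hf.closed₁.set hf.mem₁]) with h | h <;>
      rw [List.map_cons, List.prod_cons, hf.base] at h
    · rw [eq_inv_of_mul_eq_one_right h, inv_eq hf.closed₂.set hf.mem₂]
    · exact absurd (e.symm.trans (hiff.2 (mul_eq_left.1 h))) (ne_one hf.closed₁.set hf.mem₁)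

end CfsgLib.ThreeTrans.Uniq
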