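import Mathlib
import Cfsg.Agent.Lib.ThreeTrans.Uniq.Classes
import Cfsg.Agent.Lib.ThreeTrans.Uniq.Corr
import Cfsg.Agent.Lib.ThreeTrans.Uniq.PairCover
import Cfsg.Agent.Lib.ThreeTrans.TypeTop.ParityTop
import Cfsg.Agent.Lib.ThreeTrans.Tower.PairTop

/-! Uniqueness of the groups of type M(22), M(23) and M(24). -/

set_option autoImplicit false
set_option linter.unusedSectionVars false

namespace CfsgLib.ThreeTrans.Uniq

open CfsgLib.ThreeTrans CfsgLib.ThreeTrans.Tower CfsgLib.ThreeTrans.TypeTop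

variable {G₁ G₂ : Type*} [Group G₁] [Finite G₁] [Group G₂] [Finite G₂] {D₁ : Set G₁} {D₂ : Set G₂}

/-- A map of neighbours from a map of the quotients. -/
theorem exists_match {Y₁ Y₂ : Type*} [Group Y₁] [Finite Y₁] [Group Y₂] [Finite Y₂] {E₁ : Set Y₁} {E₂ : Set Y₂}
    {N₁ k₁ l₁ m₁ N₂ k₂ l₂ m₂ : ℕ} (S₁ : Stage D₁ E₁ N₁ k₁ l₁ m₁) (S₂ : Stage D₂ E₂ N₂ k₂ l₂ m₂)
    {d₁ : G₁} {d₂ : G₂} {π₁ : Hd D₁ d₁ →* Y₁} {π₂ : Hd D₂ d₂ →* Y₂} (M₁ : Model D₁ d₁ E₁ π₁)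
    (M₂ : Model D₂ d₂ E₂ π₂) (e : Y₁ →* Y₂) (he : Function.Injective e) (hb : Set.BijOn e E₁ E₂) {j : ℕ}
    (hno₁ : NoRel D₁ j) (hno₂ : NoRel D₂ j)
    (hrel : ∀ (u : List G₁) (v : List G₂), (∀ x ∈ u, x ∈ Dd D₁ d₁) → (∀ x ∈ v, x ∈ Dd D₂ d₂) →
      IsRel E₁ (j + 1) (u.map (phi π₁)) → v.map (phi π₂) = (u.map (phi π₁)).map e →
      (u.prod = 1 ↔ v.prod = 1)) :
    ∃ f : G₁ → G₂, Match D₁ d₁ D₂ d₂ (j + 1) f ∧ ∀ x ∈ Dd D₁ d₁, phi π₂ (f x) = e (phi π₁ x) := by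
  classical
  have hd₁ := M₁.mem_self
  have hd₂ := M₂.mem_self
  have hs₁ := S₁.threeSet
  have hs₂ := S₂.threeSet
  let f : G₁ → G₂ := fun x => if h : ∃ y ∈ Dd D₂ d₂, phi π₂ y = e (phi π₁ x) then h.choose else d₂
  have hf : ∀ x ∈ Dd D₁ d₁, f x ∈ Dd D₂ d₂ ∧ phi π₂ (f x) = e (phi π₁ x) := by
    intro x hx
    have h : ∃ y ∈ Dd D₂ d₂, phi π₂ y = e (phi π₁ x) := M₂.onto (hb.mapsTo (M₁.mem hx))
    simp only [f, dif_pos h]
    exact h.choose_spec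
  have hbase : f d₁ = d₂ := dif_neg fun ⟨y, hy, e'⟩ => by
    have h1 : phi π₁ d₁ = 1 := dif_neg fun h => h.2.1 rfl
    rw [h1, map_one] at e'
    exact ne_one (M₂.img ▸ M₂.base.img_isThreeTranspositionSet) (M₂.mem hy) e'
  refine ⟨f, ⟨S₁.closed, S₂.closed, hd₁, hd₂, hbase, ⟨fun x hx => (hf x hx).1, fun x hx y hy h => ?_, fun y hy => ?_⟩,
    fun a ha b hb' => ?_, fun l hnd hlen hm hc => ?_⟩, fun x hx => (hf x hx).2⟩
  · refine M₁.inj hx hy (he ?_)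
    rw [← (hf x hx).2, ← (hf y hy).2, h]
  · obtain ⟨u, hu, hue⟩ := hb.surjOn (M₂.mem hy)
    obtain ⟨x, hx, rfl⟩ := M₁.onto hu
    exact ⟨x, hx, M₂.inj (hf x hx).1 hy (by rw [(hf x hx).2, hue])⟩
  · have hab : a * b * a ∈ Dd D₁ d₁ := by
      have := M₁.conj_mem ⟨a, Subgroup.subset_closure ha⟩ hb'
      rwa [inv_eq hs₁ ha.1] at this
    have hab₂ : f a * f b * f a ∈ Dd D₂ d₂ := by
      have := M₂.conj_mem ⟨f a, Subgroup.subset_closure (hf a ha).1⟩ (hf b hb').1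
      rwa [inv_eq hs₂ (hf a ha).1.1] at this
    refine M₂.inj (hf _ hab).1 hab₂ ?_
    have e1 := M₁.phi_conj ⟨a, Subgroup.subset_closure ha⟩ hb'
    have e2 := M₂.phi_conj ⟨f a, Subgroup.subset_closure (hf a ha).1⟩ (hf b hb').1
    rw [← phi_of_mem π₁ (x := ⟨a, Subgroup.subset_closure ha⟩) ha, inv_eq hs₁ ha.1] at e1
    rw [← phi_of_mem π₂ (x := ⟨f a, Subgroup.subset_closure (hf a ha).1⟩) (hf a ha).1,
      inv_eq hs₂ (hf a ha).1.1] at e2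
    rw [(hf _ hab).2, e1, e2, (hf a ha).2, (hf b hb').2, map_mul, map_mul, map_inv]
  -- relations
  have mapped : ∀ {u : List G₁}, (∀ x ∈ u, x ∈ Dd D₁ d₁) →
      (u.map f).map (phi π₂) = (u.map (phi π₁)).map e := fun hu => by
    rw [List.map_map, List.map_map]
    exact List.map_congr_left fun x hx => (hf x (hu x hx)).2
  have commf : ∀ {u : List G₁}, (∀ x ∈ u, x ∈ Dd D₁ d₁) → (∀ x ∈ u, ∀ y ∈ u, Commute x y) →
      ∀ x ∈ u.map f, ∀ y ∈ u.map f, Commute x y := fun hu hc x hx y hy => by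
    obtain ⟨a, ha, rfl⟩ := List.mem_map.1 hx
    obtain ⟨b, hb', rfl⟩ := List.mem_map.1 hy
    refine (M₂.comm (hf a (hu a ha)).1 (hf b (hu b hb')).1).1 ?_
    rw [(hf a (hu a ha)).2, (hf b (hu b hb')).2]
    exact ((M₁.comm (hu a ha) (hu b hb')).2 (hc a ha b hb')).map e
  have inD : ∀ {u : List G₁}, (∀ x ∈ u, x ∈ Dd D₁ d₁) → ∀ x ∈ u.map f, x ∈ Dd D₂ d₂ := fun hu x hx => by
    obtain ⟨a, ha, rfl⟩ := List.mem_map.1 hx
    exact (hf a (hu a ha)).1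
  have ndf : ∀ {u : List G₁}, (∀ x ∈ u, x ∈ Dd D₁ d₁) → u.Nodup → (u.map f).Nodup := fun hu hnd =>
    hnd.map_on fun x hx y hy h => M₁.inj (hu x hx) (hu y hy) (he (by
      rw [← (hf x (hu x hx)).2, ← (hf y (hu y hy)).2, h]))
  by_cases hd : d₁ ∈ l
  · set t := l.erase d₁ with ht
    have htm : ∀ x ∈ t, x ∈ Dd D₁ d₁ := fun x hx => by
      obtain ⟨hne, hx'⟩ := hnd.mem_erase_iff.1 hx
      exact (Set.mem_insert_iff.1 (hm x hx')).resolve_left hne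
    have hperm := List.perm_cons_erase hd
    have htc : ∀ x ∈ t, ∀ y ∈ t, Commute x y := fun x hx y hy =>
      hc x (List.erase_subset hx) y (List.erase_subset hy)
    have htl : t.length = j := by rw [ht, List.length_erase_of_mem hd, hlen]; omega
    have hcm : ∀ x ∈ l.map f, ∀ y ∈ l.map f, Commute x y := by
      intro x hx y hy
      obtain ⟨a, ha, rfl⟩ := List.mem_map.1 hx
      obtain ⟨b, hb', rfl⟩ := List.mem_map.1 hy
      rcases List.mem_cons.1 (hperm.subset ha) with rfl | ha' <;>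
        rcases List.mem_cons.1 (hperm.subset hb') with rfl | hb''
      · exact Commute.refl _
      · rw [hbase]; exact (hf b (htm b hb'')).1.2.2
      · rw [hbase]; exact (hf a (htm a ha')).1.2.2.symm
      · exact commf htm htc _ (List.mem_map_of_mem ha') _ (List.mem_map_of_mem hb'')
    rw [prod_perm hperm hc, prod_perm (hperm.map f) hcm, List.prod_cons, List.map_cons, List.prod_cons, hbase,
      mul_eq_one_iff_inv_eq, mul_eq_one_iff_inv_eq, inv_eq hs₁ hd₁, inv_eq hs₂ hd₂, eq_comm, @eq_comm _ d₂,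
      prod_eq_iff S₁ hd₁ M₁ hno₁ (hnd.erase _) htl htm htc,
      prod_eq_iff S₂ hd₂ M₂ hno₂ (ndf htm (hnd.erase _)) (by simp [htl]) (inD htm) (commf htm htc), mapped htm,
      ← map_list_prod]
    exact (map_eq_one_iff e he).symm
  · have hlm : ∀ x ∈ l, x ∈ Dd D₁ d₁ := fun x hx =>
      (Set.mem_insert_iff.1 (hm x hx)).resolve_left fun h => hd (h ▸ hx)
    constructor
    · intro hp
      have h1 := img_isRel M₁ hnd hlen hlm hc fun y _ => by rw [hp]; exact Commute.one_left y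
      exact (hrel l (l.map f) hlm (inD hlm) h1 (mapped hlm)).1 hp
    · intro hp
      have h2 := img_isRel M₂ (ndf hlm hnd) (by simpa using hlen) (inD hlm) (commf hlm hc)
        fun y _ => by rw [hp]; exact Commute.one_left y
      have h1 : (l.map (phi π₁)).prod = 1 := he (by rw [map_list_prod, ← mapped hlm, h2.prod, map_one])
      have h1' := img_isRel M₁ hnd hlen hlm hc (central_of_img M₁ hlm h1).2
      exact (hrel l (l.map f) hlm (inD hlm) h1' (mapped hlm)).2 hp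

theorem exists_far {G : Type*} [Group G] {D : Set G} (hD : Cfsg.IsThreeTranspositionGroup D)
    (hZ : Subgroup.center G = ⊥) {d : G} (hd : d ∈ D) : ∃ x ∈ D, ¬ Commute d x := by
  by_contra! h
  have hc := mem_center_of_commute hD.2.2 h
  rw [hZ, Subgroup.mem_bot] at hc
  exact ne_one hD.1 hd hc

/-- Type M(22): maps of neighbours lift. -/
theorem liftsM22 (hD₁ : Cfsg.IsThreeTranspositionGroup D₁) (hprim₁ : Cfsg.IsPrimitiveUnderConj D₁)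
    (h₁ : Cfsg.IsOfTypeM22 G₁ D₁) (hD₂ : Cfsg.IsThreeTranspositionGroup D₂)
    (hprim₂ : Cfsg.IsPrimitiveUnderConj D₂) (h₂ : Cfsg.IsOfTypeM22 G₂ D₂) {d₁ : G₁} {d₂ : G₂} {f : G₁ → G₂}
    (hf : Match D₁ d₁ D₂ d₂ 6 f) : Lifts D₁ d₁ f := by
  obtain ⟨e₁, c₁, F₁, _, _, π, hB₁, -, -, hloc₁, -, hF₁⟩ := bottom22 hD₁ h₁
  obtain ⟨e₂, c₂, F₂, _, _, π', hB₂, -, -, hloc₂, -, hF₂⟩ := bottom22 hD₂ h₂
  exact lifts22 hF₁ hf (stage_of_base hD₁ hprim₁ h₁.1 hloc₁ hB₁ rfl) (stage_of_base hD₂ hprim₂ h₂.1 hloc₂ hB₂ rfl)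
    ((main22 hD₁ hprim₁ h₁).2 d₁ hf.mem₁).1
    ⟨hloc₁.group.1, hloc₁.group.2.1, hloc₁.rigid.nonabelian.imp fun _ h => h.1⟩
    ((good22 hD₁ h₁).rel 5 le_rfl (by norm_num))

/-- Type M(22): a map of neighbours extends to an isomorphism. -/
theorem iso22 (hD₁ : Cfsg.IsThreeTranspositionGroup D₁) (hprim₁ : Cfsg.IsPrimitiveUnderConj D₁)
    (h₁ : Cfsg.IsOfTypeM22 G₁ D₁) (hD₂ : Cfsg.IsThreeTranspositionGroup D₂)
    (hprim₂ : Cfsg.IsPrimitiveUnderConj D₂) (h₂ : Cfsg.IsOfTypeM22 G₂ D₂) {d₁ : G₁} {d₂ : G₂} {f : G₁ → G₂}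
    (hf : Match D₁ d₁ D₂ d₂ 6 f) :
    ∃ e : G₁ ≃* G₂, (∀ a ∈ insert d₁ (Dd D₁ d₁), e a = f a) ∧ e '' D₁ = D₂ := by
  obtain ⟨e₁, c₁, F₁, _, _, π, hB₁, -, -, hloc₁, -, -⟩ := bottom22 hD₁ h₁
  have S₁ := stage_of_base hD₁ hprim₁ h₁.1 hloc₁ hB₁ rfl
  obtain ⟨x₁, hx₁, hdx₁⟩ := exists_far hD₁ h₁.1 hf.mem₁
  obtain ⟨x₂, hx₂, hdx₂, htr⟩ := traceCorr22 hD₁ hprim₁ h₁ hD₂ hprim₂ h₂ d₁ d₂ f hf x₁ hx₁ hdx₁
  exact hf.extend (liftsM22 hD₁ hprim₁ h₁ hD₂ hprim₂ h₂ hf) (local22 hD₁ hprim₁ h₁) (local22 hD₂ hprim₂ h₂)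
    (pair22 hD₁ hprim₁ h₁) (pair22 hD₂ hprim₂ h₂) (fun g hg hy => S₁.kernel hf.mem₁ hg hy) hx₁ hdx₁ hx₂ hdx₂ htr

section Charts

variable {G : Type*} [Group G] [Finite G] {D : Set G} {F : Type*} [Field F] [Fintype F]
  {E₀ : Set (Cfsg.PSU 6 F 2)}

/-- The sixes with product one at a member of a group over `PSU(6,2)`. -/
theorem class22 (hF : Fintype.card F = 2 ^ 2) (hT : USix.TClass E₀) (S : Stage D E₀ 693 180 51 45) {d : G}
    (hd : d ∈ D) {π : Hd D d →* Cfsg.PSU 6 F 2} (M : Model D d E₀ π) :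
    ∃ k : F, k ≠ 0 ∧ ∀ u : List G, (∀ x ∈ u, x ∈ Dd D d) → IsRel E₀ 6 (u.map (phi π)) →
      (u.prod = 1 ↔ InClass k (u.map (phi π))) := by
  have C : Chart (Dd D d) (phi π) E₀ (1 : G) := ⟨⟨fun x hx => M.mem hx, fun x hx y hy h => M.inj hx hy h,
    fun e he => M.onto he⟩, fun x hx y hy => M.comm hx hy, fun g => by
      obtain ⟨h, rfl⟩ := M.base.surj g
      exact ⟨h, Commute.one_right _, fun x hx => ⟨M.conj_mem h hx, M.phi_conj h hx⟩⟩⟩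
  refine C.exists_class hF hT ?_ ?_
  · obtain ⟨L, hlen, hnd, hL, hc, hp⟩ := exists_six_perp S (by norm_num) (by norm_num) M.base
      (M.img.symm ▸ hT.lineClass' hF) hd
    exact ⟨L, hL, img_isRel M hnd hlen hL hc fun y _ => by rw [hp]; exact Commute.one_left y, hp⟩
  · intro u u' hu hu' hm hm' hp hp' p q r h1 h2 h3 h4 h5 h6 n1 n2 n3
    have toRel : ∀ {w : List G}, (∀ x ∈ w, x ∈ Dd D d) → IsRel E₀ 6 (w.map (phi π)) → w.prod = 1 →
        IsRel D 6 w := fun {w} hw hm hp =>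
      ⟨List.Nodup.of_map _ hm.nd, by simpa using hm.len, fun x hx => (hw x hx).1,
        fun x hx y hy => (M.comm (hw x hx) (hw y hy)).1 (hm.comm _ (List.mem_map_of_mem hx) _
          (List.mem_map_of_mem hy)), hp⟩
    exact share_three hF hT S (toRel hu hm hp) (toRel hu' hm' hp') h1 h2 h3 h4 h5 h6 n1 n2 n3

variable {Y : Type*} [Group Y] [Finite Y] {E : Set Y}

/-- The sixes with product `τ` among the members commuting with two commuting members, one of which is `τ`. -/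
theorem class23 (hF : Fintype.card F = 2 ^ 2) (hT : USix.TClass E₀) {N k l m : ℕ} (S : Stage D E N k l m)
    (S' : Stage E E₀ 693 180 51 45) (hno : NoRel D 6) {d r : G} (hr : r ∈ Dd D d) {π : Hd D d →* Y}
    (M : Model D d E π) {ρ : Hd E (phi π r) →* Cfsg.PSU 6 F 2} (M' : Model E (phi π r) E₀ ρ)
    {τ : G} (hτ : τ = d ∨ τ = r) :
    ∃ k : F, k ≠ 0 ∧
      (∀ u : List G, (∀ x ∈ u, x ∈ Dd D d ∩ Dd D r) → IsRel E₀ 6 (u.map fun x => phi ρ (phi π x)) →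
        (u.prod = τ ↔ InClass k (u.map fun x => phi ρ (phi π x)))) ∧
      ∃ u : List G, (∀ x ∈ u, x ∈ Dd D d ∩ Dd D r) ∧ IsRel E₀ 6 (u.map fun x => phi ρ (phi π x)) ∧
        u.prod = τ := by
  set χ : G → Cfsg.PSU 6 F 2 := fun x => phi ρ (phi π x) with hχ
  set A := Dd D d ∩ Dd D r with hA
  have hd := M.mem_self
  have hr' := Dd_symm hd hr
  have img : ∀ {x}, x ∈ A → phi π x ∈ Dd E (phi π r) := fun hx => (M.mem_Dd hr hx.1).2 hx.2
  have hbij : Set.BijOn χ A E₀ := ⟨fun x hx => M'.mem (img hx),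
    fun x hx y hy h => M.inj hx.1 hy.1 (M'.inj (img hx) (img hy) h), fun e he => by
      obtain ⟨y, hy, rfl⟩ := M'.onto he
      obtain ⟨x, hx, rfl⟩ := M.onto hy.1
      exact ⟨x, ⟨hx, (M.mem_Dd hr hx).1 hy⟩, rfl⟩⟩
  have hcomm : ∀ x ∈ A, ∀ y ∈ A, (Commute (χ x) (χ y) ↔ Commute x y) := fun x hx y hy =>
    (M'.comm (img hx) (img hy)).trans (M.comm hx.1 hy.1)
  have hτA : τ ∉ A := fun h => by
    rcases hτ with rfl | rfl
    exacts [h.1.2.1 rfl, h.2.2.1 rfl]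
  have hτD : τ ∈ D := by rcases hτ with rfl | rfl; exacts [hd, hr.1]
  have hτc : ∀ x ∈ A, Commute τ x := fun x hx => by rcases hτ with rfl | rfl; exacts [hx.1.2.2, hx.2.2.2]
  have C : Chart A χ E₀ τ := by
    refine ⟨hbij, hcomm, fun g => ?_⟩
    obtain ⟨h', rfl⟩ := M'.base.surj g
    obtain ⟨h, hh⟩ := M.base.surj (h' : Y)
    have hfix : (h : G) * r * (h : G)⁻¹ = r := by
      refine M.inj (M.conj_mem h hr) hr ?_
      rw [M.phi_conj h hr, hh, (commute_of_mem_Hd h'.2).eq, mul_inv_cancel_right]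
    have hhr : Commute (h : G) r := mul_inv_eq_iff_eq_mul.1 hfix
    refine ⟨h, ?_, fun x hx => ⟨⟨M.conj_mem h hx.1, conj_mem_Dd S.closed hhr hx.2⟩, ?_⟩⟩
    · rcases hτ with rfl | rfl
      exacts [commute_of_mem_Hd h.2, hhr]
    · show phi ρ (phi π _) = _
      rw [M.phi_conj h hx.1, hh, M'.phi_conj h' (img hx)]
  -- existence, at `τ` itself
  have hex : ∃ u : List G, (∀ x ∈ u, x ∈ A) ∧ IsRel E₀ 6 (u.map χ) ∧ u.prod = τ := by
    obtain ⟨πτ, Mτ⟩ := S.base τ hτD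
    obtain ⟨o, ho, hoA⟩ : ∃ o, o ∈ Dd D τ ∧ A = Dd D τ ∩ Dd D o := by
      rcases hτ with rfl | rfl
      exacts [⟨r, hr, rfl⟩, ⟨d, hr', Set.inter_comm _ _⟩]
    obtain ⟨π₀, M₀⟩ := S'.base (phi π r) (M.mem hr)
    obtain ⟨L, hlen, hnd, hL, hc, hp⟩ := exists_six_perp S' (by norm_num) (by norm_num) M₀.base
      (M₀.img.symm ▸ hT.lineClass' hF) (Mτ.mem ho)
    have pick : ∀ e ∈ L, ∃ x ∈ Dd D τ, phi πτ x = e := fun e he => Mτ.onto (hL e he).1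
    choose! t ht hte using pick
    obtain ⟨u, hu⟩ : ∃ u, u = L.map t := ⟨_, rfl⟩
    have huτ : ∀ x ∈ u, x ∈ Dd D τ := fun x hx => by
      rw [hu] at hx
      obtain ⟨e, he, rfl⟩ := List.mem_map.1 hx
      exact ht e he
    have hmap : u.map (phi πτ) = L := by
      rw [hu, List.map_map]
      exact (List.map_congr_left fun e he => hte e he).trans (List.map_id _)
    have huA : ∀ x ∈ u, x ∈ A := fun x hx => hoA ▸ ⟨huτ x hx,
      (Mτ.mem_Dd ho (huτ x hx)).1 (hL _ (hmap ▸ List.mem_map_of_mem hx))⟩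
    have hund : u.Nodup := List.Nodup.of_map (phi πτ) (hmap.symm ▸ hnd)
    have hulen : u.length = 6 := by rw [hu, List.length_map, hlen]
    have huc : ∀ x ∈ u, ∀ y ∈ u, Commute x y := fun x hx y hy => (Mτ.comm (huτ x hx) (huτ y hy)).1
      (hc _ (hmap ▸ List.mem_map_of_mem hx) _ (hmap ▸ List.mem_map_of_mem hy))
    have hup : u.prod = τ := (prod_eq_iff S hτD Mτ hno hund hulen huτ huc).2 (hmap.symm ▸ hp)
    refine ⟨u, huA, ?_, hup⟩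
    -- product one downstairs
    obtain ⟨h, hh, hπ⟩ := phi_prod (π := π) u fun x hx => (huA x hx).1
    have hrel := img_isRel M' (u := u.map (phi π)) (hund.map_on fun x hx y hy => M.inj (huA x hx).1 (huA y hy).1)
      (by simpa using hulen) (fun y hy => by
        obtain ⟨x, hx, rfl⟩ := List.mem_map.1 hy
        exact img (huA x hx)) (fun a ha b hb => by
        obtain ⟨x, hx, rfl⟩ := List.mem_map.1 ha
        obtain ⟨y, hy, rfl⟩ := List.mem_map.1 hb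
        exact (M.comm (huA x hx).1 (huA y hy).1).2 (huc x hx y hy)) (fun y hy => by
        rw [← hπ]
        rcases hτ with rfl | rfl
        · rw [(M.base.map_eq_one_iff' h).2 fun z hz => by rw [hh, hup]; exact hz.2.2]
          exact Commute.one_left y
        · rw [← phi_of_mem π (x := h) (by rw [hh, hup]; exact hr), hh, hup]
          exact hy.2.2)
    rwa [List.map_map] at hrel
  refine (fun ⟨k, hk, h⟩ => ⟨k, hk, h, hex⟩) (C.exists_class hF hT hex ?_)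
  intro u u' hu hu' hm hm' hp hp' p q s h1 h2 h3 h4 h5 h6 n1 n2 n3
  have toRel : ∀ {w : List G}, (∀ x ∈ w, x ∈ A) → IsRel E₀ 6 (w.map χ) → w.prod = τ → IsRel D 7 (τ :: w) :=
    fun {w} hw hm hp => ⟨List.nodup_cons.2 ⟨fun h => hτA (hw τ h), List.Nodup.of_map _ hm.nd⟩,
      by have := hm.len; simp at this ⊢; omega,
      List.forall_mem_cons.2 ⟨hτD, fun x hx => (hw x hx).1.1⟩,
      fun x hx y hy => by
        rcases List.mem_cons.1 hx with e₁ | hx' <;> rcases List.mem_cons.1 hy with e₂ | hy'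
        · rw [e₁, e₂]
        · rw [e₁]; exact hτc y (hw y hy')
        · rw [e₂]; exact (hτc x (hw x hx')).symm
        · exact (hcomm x (hw x hx') y (hw y hy')).1 (hm.comm _ (List.mem_map_of_mem hx') _
            (List.mem_map_of_mem hy')),
      by rw [List.prod_cons, hp, mul_self S.threeSet hτD]⟩
  have ne : ∀ {x}, x ∈ u → x ≠ τ := fun hx e => hτA (e ▸ hu _ hx)
  have hs := share_four S hF hT S' (toRel hu hm hp) (toRel hu' hm' hp') (s := τ) (List.mem_cons_self ..)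
    (List.mem_cons_of_mem _ h1) (List.mem_cons_of_mem _ h2) (List.mem_cons_of_mem _ h3) (List.mem_cons_self ..)
    (List.mem_cons_of_mem _ h4) (List.mem_cons_of_mem _ h5) (List.mem_cons_of_mem _ h6) (ne h1) (ne h2) (ne h3)
    n1 n2 n3
  intro x hx
  exact (List.mem_cons.1 (hs (List.mem_cons_of_mem _ hx))).resolve_left (ne hx)

end Charts

/-- Groups of type M(22) are unique. -/
theorem iso_type22 (hD₁ : Cfsg.IsThreeTranspositionGroup D₁) (hprim₁ : Cfsg.IsPrimitiveUnderConj D₁)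
    (h₁ : Cfsg.IsOfTypeM22 G₁ D₁) (hD₂ : Cfsg.IsThreeTranspositionGroup D₂)
    (hprim₂ : Cfsg.IsPrimitiveUnderConj D₂) (h₂ : Cfsg.IsOfTypeM22 G₂ D₂) : ∃ e : G₁ ≃* G₂, e '' D₁ = D₂ := by
  obtain ⟨d₁, c₁, F₁, _, _, p₁, hB₁, -, -, hloc₁, -, hF₁⟩ := bottom22 hD₁ h₁
  obtain ⟨d₂, c₂, F₂, _, _, p₂, hB₂, -, -, hloc₂, -, hF₂⟩ := bottom22 hD₂ h₂
  have S₁ := stage_of_base hD₁ hprim₁ h₁.1 hloc₁ hB₁ rfl
  have S₂ := stage_of_base hD₂ hprim₂ h₂.1 hloc₂ hB₂ rfl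
  have T₁ : USix.TClass (imgSet D₁ d₁ p₁) :=
    ⟨hloc₁.group.1, hloc₁.group.2.1, hloc₁.rigid.nonabelian.imp fun _ h => h.1⟩
  have T₂ : USix.TClass (imgSet D₂ d₂ p₂) :=
    ⟨hloc₂.group.1, hloc₂.group.2.1, hloc₂.rigid.nonabelian.imp fun _ h => h.1⟩
  obtain ⟨π₁, M₁⟩ := S₁.base d₁ hB₁.mem
  obtain ⟨π₂, M₂⟩ := S₂.base d₂ hB₂.mem
  obtain ⟨k₁, hk₁, hu₁⟩ := class22 hF₁ T₁ S₁ hB₁.mem M₁
  obtain ⟨k₂, hk₂, hu₂⟩ := class22 hF₂ T₂ S₂ hB₂.mem M₂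
  set σ := FiniteField.ringEquivOfCardEq (K := F₁) (K' := F₂) (hF₁.trans hF₂.symm)
  have hc : k₂ / σ k₁ ≠ 0 := div_ne_zero hk₂ ((map_ne_zero σ).2 hk₁)
  obtain ⟨ψ, hψ, hψb, hψk⟩ := exists_classMap hF₁ hF₂ T₁ T₂ σ hc
  have hkk : k₂ / σ k₁ * σ k₁ = k₂ := div_mul_cancel₀ _ ((map_ne_zero σ).2 hk₁)
  obtain ⟨f, hf, -⟩ := exists_match S₁ S₂ M₁ M₂ ψ hψ.injective hψb (j := 5)
    ((good22 hD₁ h₁).rel 5 le_rfl (by norm_num)) ((good22 hD₂ h₂).rel 5 le_rfl (by norm_num))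
    fun u v hu hv hm hmap => by
      have hm₂ : IsRel (imgSet D₂ d₂ p₂) 6 (v.map (phi π₂)) := by
        rw [hmap]
        exact ⟨hm.nd.map hψ.injective, by simpa using hm.len, fun y hy => by
          obtain ⟨x, hx, rfl⟩ := List.mem_map.1 hy
          exact hψb.mapsTo (hm.mem x hx), fun y hy y' hy' => by
          obtain ⟨x, hx, rfl⟩ := List.mem_map.1 hy
          obtain ⟨x', hx', rfl⟩ := List.mem_map.1 hy'
          exact (hm.comm x hx x' hx').map ψ, by rw [← map_list_prod, hm.prod, map_one]⟩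
      rw [hu₁ u hu hm, hu₂ v hv hm₂, hmap, ← hψk k₁ hk₁, hkk]
  obtain ⟨e, -, he⟩ := iso22 hD₁ hprim₁ h₁ hD₂ hprim₂ h₂ hf
  exact ⟨e, he⟩

/-- Type M(23): maps of neighbours lift. -/
theorem liftsM23 (hD₁ : Cfsg.IsThreeTranspositionGroup D₁) (hprim₁ : Cfsg.IsPrimitiveUnderConj D₁)
    (h₁ : Cfsg.IsOfTypeM23 G₁ D₁) (hD₂ : Cfsg.IsThreeTranspositionGroup D₂)
    (hprim₂ : Cfsg.IsPrimitiveUnderConj D₂) (h₂ : Cfsg.IsOfTypeM23 G₂ D₂) {d₁ : G₁} {d₂ : G₂} {f : G₁ → G₂}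
    (hf : Match D₁ d₁ D₂ d₂ 7 f) : Lifts D₁ d₁ f := by
  obtain ⟨p₁, c₁, -, -, hB₁, t₁, -⟩ := bottom23 hD₁ h₁
  obtain ⟨p₂, c₂, -, -, hB₂, t₂, -⟩ := bottom23 hD₂ h₂
  have q₁ := prim22 hD₁ hprim₁ hB₁ t₁
  have q₂ := prim22 hD₂ hprim₂ hB₂ t₂
  have L₁ := local22 hB₁.img_group q₁ t₁
  have S₁ := stage_of_base hD₁ hprim₁ h₁.1 L₁ hB₁ rfl
  have S₂ := stage_of_base hD₂ hprim₂ h₂.1 (local22 hB₂.img_group q₂ t₂) hB₂ rfl
  obtain ⟨e₁, x₁, F₁, _, _, π, hB', -, -, hloc, -, -⟩ := bottom22 hB₁.img_group t₁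
  have S' := stage_of_base hB₁.img_group q₁ t₁.1 hloc hB' rfl
  exact lifts_step hf S₁ S₂ (j := 6) rfl ((main23 hD₁ hprim₁ h₁).2 d₁ hf.mem₁).1
    (S'.coverHyp L₁.mu (by norm_num) (by norm_num)) q₁ S'.width ((good23 hD₁ h₁).rel 6 le_rfl (by norm_num))
    ((good23 hD₂ h₂).rel 6 le_rfl (by norm_num))
    fun a b g hg => liftsM22 hB₁.img_group q₁ t₁ hB₂.img_group q₂ t₂ hg

/-- Traces correspond in type M(23). -/
theorem traceCorrM23 (hD₁ : Cfsg.IsThreeTranspositionGroup D₁) (hprim₁ : Cfsg.IsPrimitiveUnderConj D₁)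
    (h₁ : Cfsg.IsOfTypeM23 G₁ D₁) (hD₂ : Cfsg.IsThreeTranspositionGroup D₂)
    (hprim₂ : Cfsg.IsPrimitiveUnderConj D₂) (h₂ : Cfsg.IsOfTypeM23 G₂ D₂) : TraceCorr D₁ D₂ 7 := by
  obtain ⟨p₁, c₁, -, -, hB₁, t₁, -⟩ := bottom23 hD₁ h₁
  obtain ⟨p₂, c₂, -, -, hB₂, t₂, -⟩ := bottom23 hD₂ h₂
  have q₁ := prim22 hD₁ hprim₁ hB₁ t₁
  have q₂ := prim22 hD₂ hprim₂ hB₂ t₂
  have S₁ := stage_of_base hD₁ hprim₁ h₁.1 (local22 hB₁.img_group q₁ t₁) hB₁ rfl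
  have S₂ := stage_of_base hD₂ hprim₂ h₂.1 (local22 hB₂.img_group q₂ t₂) hB₂ rfl
  obtain ⟨e₂, x₂, F₂, _, _, π, hB', -, -, hloc, -, -⟩ := bottom22 hB₂.img_group t₂
  exact TraceCorr.step S₁ S₂ (stage_of_base hB₂.img_group q₂ t₂.1 hloc hB' rfl)
    (local23 hD₁ hprim₁ h₁).mu (local23 hD₂ hprim₂ h₂).mu (by norm_num) (by norm_num)
    ((good23 hD₁ h₁).rel 6 le_rfl (by norm_num)) ((good23 hD₂ h₂).rel 6 le_rfl (by norm_num))
    (traceCorr22 hB₁.img_group q₁ t₁ hB₂.img_group q₂ t₂)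

/-- Type M(23): a map of neighbours extends to an isomorphism. -/
theorem iso23 (hD₁ : Cfsg.IsThreeTranspositionGroup D₁) (hprim₁ : Cfsg.IsPrimitiveUnderConj D₁)
    (h₁ : Cfsg.IsOfTypeM23 G₁ D₁) (hD₂ : Cfsg.IsThreeTranspositionGroup D₂)
    (hprim₂ : Cfsg.IsPrimitiveUnderConj D₂) (h₂ : Cfsg.IsOfTypeM23 G₂ D₂) {d₁ : G₁} {d₂ : G₂} {f : G₁ → G₂}
    (hf : Match D₁ d₁ D₂ d₂ 7 f) : ∃ e : G₁ ≃* G₂, e '' D₁ = D₂ := by
  obtain ⟨p₁, c₁, -, -, hB₁, t₁, -⟩ := bottom23 hD₁ h₁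
  have S₁ := stage_of_base hD₁ hprim₁ h₁.1 (local22 hB₁.img_group (prim22 hD₁ hprim₁ hB₁ t₁) t₁) hB₁ rfl
  obtain ⟨x₁, hx₁, hdx₁⟩ := exists_far hD₁ h₁.1 hf.mem₁
  obtain ⟨x₂, hx₂, hdx₂, htr⟩ := traceCorrM23 hD₁ hprim₁ h₁ hD₂ hprim₂ h₂ d₁ d₂ f hf x₁ hx₁ hdx₁
  obtain ⟨e, -, he⟩ := hf.extend (liftsM23 hD₁ hprim₁ h₁ hD₂ hprim₂ h₂ hf) (local23 hD₁ hprim₁ h₁)
    (local23 hD₂ hprim₂ h₂) (pairTop23 hD₁ hprim₁ h₁).1 (pairTop23 hD₂ hprim₂ h₂).1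
    (fun g hg hy => S₁.kernel hf.mem₁ hg hy) hx₁ hdx₁ hx₂ hdx₂ htr
  exact ⟨e, he⟩

/-- Members over given ones in the quotient, commuting with `r`. -/
theorem exists_over {G Y : Type*} [Group G] [Finite G] [Group Y] {D : Set G} {E : Set Y} {d r : G}
    {π : Hd D d →* Y} (M : Model D d E π) (hr : r ∈ Dd D d) {u : List Y} (hnd : u.Nodup)
    (hu : ∀ x ∈ u, x ∈ Dd E (phi π r)) (hc : ∀ x ∈ u, ∀ y ∈ u, Commute x y) :
    ∃ U : List G, U.map (phi π) = u ∧ U.Nodup ∧ (∀ x ∈ U, x ∈ Dd D d ∩ Dd D r) ∧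
      ∀ x ∈ U, ∀ y ∈ U, Commute x y := by
  have pick : ∀ e ∈ u, ∃ x ∈ Dd D d, phi π x = e := fun e he => M.onto (hu e he).1
  choose! t ht hte using pick
  have hmap : (u.map t).map (phi π) = u := by
    rw [List.map_map]
    exact (List.map_congr_left fun e he => hte e he).trans (List.map_id _)
  have hm : ∀ x ∈ u.map t, x ∈ Dd D d := fun x hx => by
    obtain ⟨e, he, rfl⟩ := List.mem_map.1 hx
    exact ht e he
  refine ⟨u.map t, hmap, List.Nodup.of_map (phi π) (hmap.symm ▸ hnd), fun x hx => ⟨hm x hx,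
    (M.mem_Dd hr (hm x hx)).1 (hu _ (hmap ▸ List.mem_map_of_mem hx))⟩, fun x hx y hy => ?_⟩
  exact (M.comm (hm x hx) (hm y hy)).1 (hc _ (hmap ▸ List.mem_map_of_mem hx) _ (hmap ▸ List.mem_map_of_mem hy))

theorem isRel_map {Y Z : Type*} [Group Y] [Group Z] {E : Set Y} {E' : Set Z} {n : ℕ} {l : List Y}
    (h : IsRel E n l) (e : Y →* Z) (he : Function.Injective e) (hm : Set.MapsTo e E E') :
    IsRel E' n (l.map e) := by
  refine ⟨h.nd.map he, by simpa using h.len, fun y hy => ?_, fun y hy y' hy' => ?_,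
    by rw [← map_list_prod, h.prod, map_one]⟩
  · obtain ⟨x, hx, rfl⟩ := List.mem_map.1 hy
    exact hm (h.mem x hx)
  · obtain ⟨x, hx, rfl⟩ := List.mem_map.1 hy
    obtain ⟨x', hx', rfl⟩ := List.mem_map.1 hy'
    exact (h.comm x hx x' hx').map e

/-- Groups of type M(23) are unique. -/
theorem iso_type23 (hD₁ : Cfsg.IsThreeTranspositionGroup D₁) (hprim₁ : Cfsg.IsPrimitiveUnderConj D₁)
    (h₁ : Cfsg.IsOfTypeM23 G₁ D₁) (hD₂ : Cfsg.IsThreeTranspositionGroup D₂)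
    (hprim₂ : Cfsg.IsPrimitiveUnderConj D₂) (h₂ : Cfsg.IsOfTypeM23 G₂ D₂) : ∃ e : G₁ ≃* G₂, e '' D₁ = D₂ := by
  classical
  obtain ⟨p₁, c₁, -, -, hB₁, t₁, -⟩ := bottom23 hD₁ h₁
  obtain ⟨p₂, c₂, -, -, hB₂, t₂, -⟩ := bottom23 hD₂ h₂
  have q₁ := prim22 hD₁ hprim₁ hB₁ t₁
  have q₂ := prim22 hD₂ hprim₂ hB₂ t₂
  have S₁ := stage_of_base hD₁ hprim₁ h₁.1 (local22 hB₁.img_group q₁ t₁) hB₁ rfl
  have S₂ := stage_of_base hD₂ hprim₂ h₂.1 (local22 hB₂.img_group q₂ t₂) hB₂ rfl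
  obtain ⟨g₁, y₁, F₁, _, _, π, hB₁', -, -, hloc₁, -, hF₁⟩ := bottom22 hB₁.img_group t₁
  obtain ⟨g₂, y₂, F₂, _, _, π', hB₂', -, -, hloc₂, -, hF₂⟩ := bottom22 hB₂.img_group t₂
  have S₁' := stage_of_base hB₁.img_group q₁ t₁.1 hloc₁ hB₁' rfl
  have S₂' := stage_of_base hB₂.img_group q₂ t₂.1 hloc₂ hB₂' rfl
  have T₁ := (⟨hloc₁.group.1, hloc₁.group.2.1, hloc₁.rigid.nonabelian.imp fun _ h => h.1⟩ : USix.TClass _)
  have T₂ := (⟨hloc₂.group.1, hloc₂.group.2.1, hloc₂.rigid.nonabelian.imp fun _ h => h.1⟩ : USix.TClass _)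
  have hno₁ : NoRel D₁ 6 := (good23 hD₁ h₁).rel 6 le_rfl (by norm_num)
  have hno₂ : NoRel D₂ 6 := (good23 hD₂ h₂).rel 6 le_rfl (by norm_num)
  obtain ⟨r₁, hr₁⟩ := Set.nonempty_of_ncard_ne_zero (s := Dd D₁ p₁) (by rw [S₁.deg hB₁.mem]; norm_num)
  obtain ⟨r₂, hr₂⟩ := Set.nonempty_of_ncard_ne_zero (s := Dd D₂ p₂) (by rw [S₂.deg hB₂.mem]; norm_num)
  obtain ⟨π₁, M₁⟩ := S₁.base p₁ hB₁.mem
  obtain ⟨π₂, M₂⟩ := S₂.base p₂ hB₂.mem
  obtain ⟨ρ₁, N₁⟩ := S₁'.base (phi π₁ r₁) (M₁.mem hr₁)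
  obtain ⟨ρ₂, N₂⟩ := S₂'.base (phi π₂ r₂) (M₂.mem hr₂)
  -- the two classes on either side
  obtain ⟨a₁, ha₁, hua₁, wa₁, wam₁, war₁, wap₁⟩ := class23 hF₁ T₁ S₁ S₁' hno₁ hr₁ M₁ N₁ (Or.inl rfl : p₁ = p₁ ∨ _)
  obtain ⟨b₁, hb₁, hub₁, -⟩ := class23 hF₁ T₁ S₁ S₁' hno₁ hr₁ M₁ N₁ (Or.inr rfl : r₁ = p₁ ∨ _)
  obtain ⟨a₂, ha₂, hua₂, wa₂, wam₂, war₂, wap₂⟩ := class23 hF₂ T₂ S₂ S₂' hno₂ hr₂ M₂ N₂ (Or.inl rfl : p₂ = p₂ ∨ _)
  obtain ⟨b₂, hb₂, hub₂, -⟩ := class23 hF₂ T₂ S₂ S₂' hno₂ hr₂ M₂ N₂ (Or.inr rfl : r₂ = p₂ ∨ _)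
  have hab₁ : a₁ ≠ b₁ := fun e => hr₁.2.1
    (((hub₁ wa₁ wam₁ war₁).2 (e ▸ (hua₁ wa₁ wam₁ war₁).1 wap₁)).symm.trans wap₁)
  have hab₂ : a₂ ≠ b₂ := fun e => hr₂.2.1
    (((hub₂ wa₂ wam₂ war₂).2 (e ▸ (hua₂ wa₂ wam₂ war₂).1 wap₂)).symm.trans wap₂)
  obtain ⟨σ, c, hc, hca, hcb⟩ := exists_param hF₁ hF₂ ha₁ hb₁ hab₁ ha₂ hb₂ hab₂
  obtain ⟨ψ, hψ, hψb, hψk⟩ := exists_classMap hF₁ hF₂ T₁ T₂ σ hc
  -- one level down
  obtain ⟨f₀, hf₀, hf₀e⟩ := exists_match S₁' S₂' N₁ N₂ ψ hψ.injective hψb (j := 5)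
    ((good22 hB₁.img_group t₁).rel 5 le_rfl (by norm_num)) ((good22 hB₂.img_group t₂).rel 5 le_rfl (by norm_num))
    fun u v hu hv hm hmap => by
      have hm₂ := hmap ▸ isRel_map hm ψ hψ.injective hψb.mapsTo
      have hcu : ∀ x ∈ u, ∀ y ∈ u, Commute x y := fun x hx y hy => (N₁.comm (hu x hx) (hu y hy)).1
        (hm.comm _ (List.mem_map_of_mem hx) _ (List.mem_map_of_mem hy))
      have hcv : ∀ x ∈ v, ∀ y ∈ v, Commute x y := fun x hx y hy => (N₂.comm (hv x hx) (hv y hy)).1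
        (hm₂.comm _ (List.mem_map_of_mem hx) _ (List.mem_map_of_mem hy))
      obtain ⟨U, hU, hUnd, hUA, hUc⟩ := exists_over M₁ hr₁ (List.Nodup.of_map _ hm.nd) hu hcu
      obtain ⟨V, hV, hVnd, hVA, hVc⟩ := exists_over M₂ hr₂ (List.Nodup.of_map _ hm₂.nd) hv hcv
      have hUl : U.length = 6 := by have := hm.len; rw [← hU] at this; simpa using this
      have hVl : V.length = 6 := by have := hm₂.len; rw [← hV] at this; simpa using this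
      have eU : (U.map fun x => phi ρ₁ (phi π₁ x)) = u.map (phi ρ₁) := by rw [← hU, List.map_map]; rfl
      have eV : (V.map fun x => phi ρ₂ (phi π₂ x)) = v.map (phi ρ₂) := by rw [← hV, List.map_map]; rfl
      have k₁ := prod_eq_iff S₁ hB₁.mem M₁ hno₁ hUnd hUl (fun x hx => (hUA x hx).1) hUc
      have k₂ := prod_eq_iff S₂ hB₂.mem M₂ hno₂ hVnd hVl (fun x hx => (hVA x hx).1) hVc
      rw [hU] at k₁
      rw [hV] at k₂
      rw [← k₁, ← k₂, hua₁ U hUA (eU ▸ hm), hua₂ V hVA (eV ▸ hm₂), eU, eV, hmap, ← hψk a₁ ha₁, hca]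
  obtain ⟨e, hef, heE⟩ := iso22 hB₁.img_group q₁ t₁ hB₂.img_group q₂ t₂ hf₀
  have her : e (phi π₁ r₁) = phi π₂ r₂ := (hef _ (Set.mem_insert _ _)).trans hf₀.base
  have heb : Set.BijOn e.toMonoidHom _ _ := heE ▸ e.injective.injOn.bijOn_image
  have hek : ∀ x ∈ Dd D₁ p₁ ∩ Dd D₁ r₁, phi ρ₂ (e (phi π₁ x)) = ψ (phi ρ₁ (phi π₁ x)) := fun x hx => by
    have h := (M₁.mem_Dd hr₁ hx.1).2 hx.2
    rw [hef _ (Set.mem_insert_of_mem _ h), hf₀e _ h]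
  -- at the top
  obtain ⟨f, hf, -⟩ := exists_match S₁ S₂ M₁ M₂ e.toMonoidHom e.injective heb (j := 6) hno₁ hno₂
    fun u v hu hv hm hmap => by
      obtain ⟨x, t, rfl⟩ : ∃ x t, u = x :: t := by
        cases u with
        | nil => have := hm.len; simp at this
        | cons x t => exact ⟨x, t, rfl⟩
      obtain ⟨x', t', rfl⟩ : ∃ x' t', v = x' :: t' := by
        cases v with
        | nil => simp at hmap
        | cons x t => exact ⟨x, t, rfl⟩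
      obtain ⟨h, hh⟩ := conj_in_Hd S₁ hB₁.mem (hu x (by simp)) hr₁
      obtain ⟨h', hh'⟩ := M₂.base.surj (e (π₁ h))
      set χ₁ := (MulAut.conj (h : G₁)).toMonoidHom with hχ₁
      set χ₂ := (MulAut.conj (h' : G₂)).toMonoidHom with hχ₂
      have hU : ∀ y ∈ (x :: t).map χ₁, y ∈ Dd D₁ p₁ := fun y hy => by
        obtain ⟨z, hz, rfl⟩ := List.mem_map.1 hy
        exact M₁.conj_mem h (hu z hz)
      have hV : ∀ y ∈ (x' :: t').map χ₂, y ∈ Dd D₂ p₂ := fun y hy => by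
        obtain ⟨z, hz, rfl⟩ := List.mem_map.1 hy
        exact M₂.conj_mem h' (hv z hz)
      have eU : ((x :: t).map χ₁).map (phi π₁) =
          ((x :: t).map (phi π₁)).map (MulAut.conj (π₁ h)).toMonoidHom := by
        rw [List.map_map, List.map_map]
        exact List.map_congr_left fun z hz => M₁.phi_conj h (hu z hz)
      have hmU := eU ▸ hm.conj (S₁.loc.group.2.1) (π₁ h)
      have hmap' : ((x' :: t').map χ₂).map (phi π₂) = (((x :: t).map χ₁).map (phi π₁)).map e.toMonoidHom := by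
        have e1 : ((x' :: t').map χ₂).map (phi π₂) =
            ((x' :: t').map (phi π₂)).map (MulAut.conj (π₂ h')).toMonoidHom := by
          rw [List.map_map, List.map_map]
          exact List.map_congr_left fun z hz => M₂.phi_conj h' (hv z hz)
        rw [e1, hmap, eU, List.map_map, List.map_map, List.map_map, List.map_map, hh']
        refine List.map_congr_left fun z _ => ?_
        simp
      have hred : ∀ {H : Type _} [Group H] (g : H) (l : List H),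
          ((l.map (MulAut.conj g).toMonoidHom).prod = 1 ↔ l.prod = 1) := fun g l => by
        rw [← map_list_prod]
        exact map_eq_one_iff _ (MulAut.conj g).injective
      rw [← hred (h : G₁) (x :: t), ← @map_eq_one_iff G₂ G₂ _ _ _ _ _ χ₂ (MulAut.conj (h' : G₂)).injective,
        map_list_prod]
      have hx₁ : χ₁ x = r₁ := hh
      rw [← hχ₁]
      simp only [List.map_cons, hx₁] at hU hV hmU hmap' ⊢
      rw [List.prod_cons, List.prod_cons]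
      simp only [List.cons.injEq] at hmap'
      obtain ⟨hhead, htail⟩ := hmap'
      have hx₂ : χ₂ x' = r₂ := M₂.inj (hV _ (by simp)) hr₂ (hhead.trans her)
      rw [hx₂] at hV ⊢
      -- the six behind the first
      set U := t.map χ₁
      set V := t'.map χ₂
      have hnd := hmU.nd
      simp only [List.nodup_cons] at hnd
      have hUA : ∀ y ∈ U, y ∈ Dd D₁ p₁ ∩ Dd D₁ r₁ := fun y hy => by
        have hy₁ := hU y (List.mem_cons_of_mem _ hy)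
        refine ⟨hy₁, hy₁.1, fun e' => hnd.1 (e' ▸ List.mem_map_of_mem hy), ?_⟩
        exact (M₁.comm hr₁ hy₁).1 (hmU.comm _ (by simp) _ (List.mem_cons_of_mem _ (List.mem_map_of_mem hy)))
      have hat := hmU.at_mem (List.mem_cons_self ..) N₁
      have hm₁ : IsRel (imgSet _ g₁ π) 6 (U.map fun y => phi ρ₁ (phi π₁ y)) := by
        have := hat.1
        rw [List.erase_cons_head, List.map_map] at this
        exact this
      have eV : (V.map fun y => phi ρ₂ (phi π₂ y)) = (U.map fun y => phi ρ₁ (phi π₁ y)).map ψ := by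
        refine (List.map_map (l := V) (g := phi ρ₂) (f := phi π₂)).symm.trans ?_
        rw [htail]
        exact (List.map_map ..).trans ((List.map_map ..).trans
          ((List.map_congr_left fun y hy => hek y (hUA y hy)).trans (List.map_map ..).symm))
      have hVA : ∀ y ∈ V, y ∈ Dd D₂ p₂ ∩ Dd D₂ r₂ := fun y hy => by
        have hy₂ := hV y (List.mem_cons_of_mem _ hy)
        refine ⟨hy₂, (M₂.mem_Dd hr₂ hy₂).1 ?_⟩
        have h1 : phi π₂ y ∈ V.map (phi π₂) := List.mem_map_of_mem hy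
        rw [htail] at h1
        obtain ⟨w, hw, hwe⟩ := List.mem_map.1 h1
        obtain ⟨z, hz, rfl⟩ := List.mem_map.1 hw
        obtain ⟨hz1, hz2⟩ := hUA z hz
        have hz' := (M₁.mem_Dd hr₁ hz1).2 hz2
        rw [← hwe, ← her]
        exact ⟨heb.mapsTo hz'.1, fun e' => hz'.2.1 (e.injective e'), hz'.2.2.map e.toMonoidHom⟩
      rw [mul_eq_one_iff_inv_eq, mul_eq_one_iff_inv_eq, inv_eq S₁.threeSet hr₁.1, inv_eq S₂.threeSet hr₂.1,
        eq_comm, @eq_comm _ r₂, hub₁ U hUA hm₁, hub₂ V hVA (eV ▸ isRel_map hm₁ ψ hψ.injective hψb.mapsTo), eV,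
        ← hψk b₁ hb₁, hcb]
  exact iso23 hD₁ hprim₁ h₁ hD₂ hprim₂ h₂ hf

theorem parity_prod {G : Type*} [Group G] {D : Set G} (χ : G →* Multiplicative (ZMod 2))
    (hχ : ∀ a ∈ D, χ a = Multiplicative.ofAdd 1) (w : List G) (hw : ∀ x ∈ w, x ∈ D) :
    χ w.prod = Multiplicative.ofAdd (w.length : ZMod 2) := by
  induction w with
  | nil => simp
  | cons x t ih =>
    rw [List.prod_cons, map_mul, hχ x (hw x (by simp)), ih fun y hy => hw y (List.mem_cons_of_mem _ hy),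
      ← ofAdd_add, List.length_cons, Nat.cast_add, Nat.cast_one, add_comm]

/-- Groups of type M(24) are unique. -/
theorem iso_type24 (hD₁ : Cfsg.IsThreeTranspositionGroup D₁) (hprim₁ : Cfsg.IsPrimitiveUnderConj D₁)
    (h₁ : Cfsg.IsOfTypeM24 G₁ D₁) (hD₂ : Cfsg.IsThreeTranspositionGroup D₂)
    (hprim₂ : Cfsg.IsPrimitiveUnderConj D₂) (h₂ : Cfsg.IsOfTypeM24 G₂ D₂) : ∃ e : G₁ ≃* G₂, e '' D₁ = D₂ := by
  obtain ⟨p₁, c₁, -, -, hB₁, t₁⟩ := bottom24 hD₁ hprim₁ h₁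
  obtain ⟨p₂, c₂, -, -, hB₂, t₂⟩ := bottom24 hD₂ hprim₂ h₂
  have q₁ := prim23 hD₁ hprim₁ hB₁ t₁
  have q₂ := prim23 hD₂ hprim₂ hB₂ t₂
  have L₁ := local23 hB₁.img_group q₁ t₁
  have S₁ := stage_of_base hD₁ hprim₁ h₁.1 L₁ hB₁ rfl
  have S₂ := stage_of_base hD₂ hprim₂ h₂.1 (local23 hB₂.img_group q₂ t₂) hB₂ rfl
  obtain ⟨a₁, -, -, -, hC₁, u₁, -⟩ := bottom23 hB₁.img_group t₁
  obtain ⟨a₂, -, -, -, hC₂, u₂, -⟩ := bottom23 hB₂.img_group t₂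
  have S₁' := stage_of_base hB₁.img_group q₁ t₁.1
    (local22 hC₁.img_group (prim22 hB₁.img_group q₁ hC₁ u₁) u₁) hC₁ rfl
  have S₂' := stage_of_base hB₂.img_group q₂ t₂.1
    (local22 hC₂.img_group (prim22 hB₂.img_group q₂ hC₂ u₂) u₂) hC₂ rfl
  have hno₁ : NoRel D₁ 7 := noRel24 hD₁ hprim₁ h₁ 7 (by norm_num) (by norm_num)
  have hno₂ : NoRel D₂ 7 := noRel24 hD₂ hprim₂ h₂ 7 (by norm_num) (by norm_num)
  obtain ⟨e, he⟩ := iso_type23 hB₁.img_group q₁ t₁ hB₂.img_group q₂ t₂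
  obtain ⟨π₁, M₁⟩ := S₁.base p₁ hB₁.mem
  obtain ⟨π₂, M₂⟩ := S₂.base p₂ hB₂.mem
  obtain ⟨χ₁, hχ₁⟩ := exists_parityHom24 hD₁ hprim₁ h₁
  obtain ⟨χ₂, hχ₂⟩ := exists_parityHom24 hD₂ hprim₂ h₂
  have heb : Set.BijOn e.toMonoidHom _ _ := he ▸ e.injective.injOn.bijOn_image
  obtain ⟨f, hf, -⟩ := exists_match S₁ S₂ M₁ M₂ e.toMonoidHom e.injective heb (j := 7) hno₁ hno₂
    fun u v hu hv hm hmap => by
      have hm₂ := hmap ▸ isRel_map hm e.toMonoidHom e.injective heb.mapsTo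
      have h1 : u.prod = 1 := by
        obtain ⟨hc, hy⟩ := central_of_img M₁ hu hm.prod
        refine (S₁.kernel hB₁.mem hc hy).resolve_right fun ep => ?_
        have h := parity_prod χ₁ hχ₁ u fun x hx => (hu x hx).1
        rw [ep, hχ₁ _ hB₁.mem, show u.length = 8 by simpa using hm.len] at h
        exact absurd h (by decide)
      have h2 : v.prod = 1 := by
        obtain ⟨hc, hy⟩ := central_of_img M₂ hv hm₂.prod
        refine (S₂.kernel hB₂.mem hc hy).resolve_right fun ep => ?_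
        have h := parity_prod χ₂ hχ₂ v fun x hx => (hv x hx).1
        rw [ep, hχ₂ _ hB₂.mem, show v.length = 8 by simpa using hm₂.len] at h
        exact absurd h (by decide)
      exact iff_of_true h1 h2
  obtain ⟨x₁, hx₁, hdx₁⟩ := exists_far hD₁ h₁.1 hB₁.mem
  have hl : Lifts D₁ p₁ f := lifts_step hf S₁ S₂ (j := 7) rfl (mem_Hd24 hD₁ hprim₁ h₁ p₁ hB₁.mem)
    (S₁'.coverHyp L₁.mu (by norm_num) (by norm_num)) q₁ S₁'.width hno₁ hno₂
    fun a b g hg => liftsM23 hB₁.img_group q₁ t₁ hB₂.img_group q₂ t₂ hg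
  obtain ⟨x₂, hx₂, hdx₂, htr⟩ := TraceCorr.step S₁ S₂ S₂' (local24 hD₁ hprim₁ h₁).mu (local24 hD₂ hprim₂ h₂).mu
    (by norm_num) (by norm_num) hno₁ hno₂ (traceCorrM23 hB₁.img_group q₁ t₁ hB₂.img_group q₂ t₂)
    p₁ p₂ f hf x₁ hx₁ hdx₁
  obtain ⟨e', -, he'⟩ := hf.extend hl (local24 hD₁ hprim₁ h₁) (local24 hD₂ hprim₂ h₂) (pairTop24 hD₁ hprim₁ h₁).1
    (pairTop24 hD₂ hprim₂ h₂).1 (fun g hg hy => S₁.kernel hf.mem₁ hg hy) hx₁ hdx₁ hx₂ hdx₂ htr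
  exact ⟨e', he'⟩

end CfsgLib.ThreeTrans.Uniq
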