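import Mathlib
import Cfsg.Agent.Lib.ThreeTrans.Uniq.Top
import Cfsg.Agent.Lib.ThreeTrans.Tower.UniqueTypes
import Cfsg.Agent.Lib.ThreeTrans.Tower.Orders
import Cfsg.Agent.Lib.AutPSU.Card
import Cfsg.Agent.Lib.AutPSL.FieldGalois

/-! The automorphism group of a group of type M(22) has twice the order of the group. -/

set_option autoImplicit false
set_option linter.unusedSectionVars false

namespace CfsgLib.ThreeTrans.Uniq

open CfsgLib.ThreeTrans CfsgLib.ThreeTrans.Tower CfsgLib.ThreeTrans.TypeTop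

section Classes

variable {F : Type*} [Field F] [Fintype F]

/-- Conjugation preserves each class. -/
theorem InClass.conj {k : F} {m : List (Cfsg.PSU 6 F 2)} (h : InClass k m) (g : Cfsg.PSU 6 F 2) :
    InClass k (m.map (MulAut.conj g).toMonoidHom) := by
  obtain ⟨a, ha⟩ := h
  refine ⟨a * g⁻¹, fun x hx => ?_⟩
  obtain ⟨y, hy, rfl⟩ := List.mem_map.1 hx
  show a * g⁻¹ * (g * y * g⁻¹) * (a * g⁻¹)⁻¹ ∈ _
  rw [show a * g⁻¹ * (g * y * g⁻¹) * (a * g⁻¹)⁻¹ = a * y * a⁻¹ by group]
  exact ha y hy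

/-- Relations are mapped to relations. -/
theorem IsRel.map {Y Z : Type*} [Group Y] [Group Z] {E : Set Y} {E' : Set Z} {n : ℕ} {m : List Y}
    (h : IsRel E n m) (e : Y →* Z) (he : Function.Injective e) (hm : Set.MapsTo e E E') :
    IsRel E' n (m.map e) :=
  ⟨h.nd.map he, by simpa using h.len, fun y hy => by
    obtain ⟨x, hx, rfl⟩ := List.mem_map.1 hy
    exact hm (h.mem x hx), fun y hy y' hy' => by
    obtain ⟨x, hx, rfl⟩ := List.mem_map.1 hy
    obtain ⟨x', hx', rfl⟩ := List.mem_map.1 hy'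
    exact (h.comm x hx x' hx').map e, by rw [← map_list_prod, h.prod, map_one]⟩

end Classes

section Group

variable {G : Type*} [Group G] [Finite G] {D : Set G} {F : Type*} [Field F] [Fintype F]
  {E₀ : Set (Cfsg.PSU 6 F 2)}

/-- A six lies in one class, and every class has a six. -/
theorem class_excl (hF : Fintype.card F = 2 ^ 2) (hT : USix.TClass E₀) (S : Stage D E₀ 693 180 51 45) {d : G}
    (hd : d ∈ D) {π : Hd D d →* Cfsg.PSU 6 F 2} (M : Model D d E₀ π) :
    (∀ m, IsRel E₀ 6 m → ∀ a b : F, a ≠ 0 → b ≠ 0 → InClass a m → InClass b m → a = b) ∧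
      ∀ a : F, a ≠ 0 → ∃ m, IsRel E₀ 6 m ∧ InClass a m := by
  classical
  obtain ⟨k, hk, hu⟩ := class22 hF hT S hd M
  obtain ⟨L, hlen, hnd, hL, hc, hp⟩ := exists_six_perp S (by norm_num) (by norm_num) M.base
    (M.img.symm ▸ hT.lineClass' hF) hd
  have hm₀ := img_isRel M hnd hlen hL hc fun y _ => by rw [hp]; exact Commute.one_left y
  have hk₀ := (hu L hL hm₀).1 hp
  have hback : ∀ {a : F}, a ≠ 0 → ∀ {m}, InClass (k / a * a) m ↔ InClass k m := fun {a} ha {m} => by
    rw [div_mul_cancel₀ k ha]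
  refine ⟨?_, fun a ha => ?_⟩
  · -- first at the class `k`
    have key : ∀ m, IsRel E₀ 6 m → ∀ b : F, b ≠ 0 → InClass k m → InClass b m → b = k := by
      intro m hm b hb h₁ h₂
      obtain ⟨g, hg⟩ := h₁
      obtain ⟨g', hg'⟩ := h₂
      have mem : ∀ {a : F} {h : Cfsg.PSU 6 F 2}, a ≠ 0 → (∀ x ∈ m, h * x * h⁻¹ ∈ USix.ovalSet a) →
          InClass k m → ∃ lo, IsRel E₀ 6 lo ∧ InClass k lo ∧ ∀ x, x ∈ lo ↔ x ∈ USix.ovalSet a := by
        intro a h ha hh hin
        obtain ⟨lo, -, hlo, hmem⟩ := USix.exists_oval_list hF hT ha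
        have hmh := hm.conj hT.conj h
        have hp : (m.map (MulAut.conj h).toMonoidHom).Perm lo := perm_of_subset_length hmh.nd (fun x hx => by
          obtain ⟨y, hy, rfl⟩ := List.mem_map.1 hx
          exact (hmem _).2 (hh y hy)) (by rw [hlo, hmh.len])
        obtain ⟨z, hz⟩ := hin.conj h
        exact ⟨lo, hmh.perm hp, ⟨z, fun x hx => hz x (hp.symm.subset hx)⟩, hmem⟩
      obtain ⟨lo, hr, hlk, hlo⟩ := mem hk hg ⟨g, hg⟩
      obtain ⟨lo', hr', hlk', hlo'⟩ := mem hb hg' ⟨g, hg⟩
      -- lift both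
      have lift : ∀ {l}, IsRel E₀ 6 l → InClass k l → ∃ u : List G, u.map (phi π) = l ∧
          (∀ x ∈ u, x ∈ Dd D d) ∧ IsRel D 6 u := by
        intro l hl hlk
        have pick : ∀ e ∈ l, ∃ x ∈ Dd D d, phi π x = e := fun e he => M.onto (hl.mem e he)
        choose! t ht hte using pick
        have hmap : (l.map t).map (phi π) = l := by
          rw [List.map_map]
          exact (List.map_congr_left fun e he => hte e he).trans (List.map_id _)
        have hu' : ∀ x ∈ l.map t, x ∈ Dd D d := fun x hx => by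
          obtain ⟨e, he, rfl⟩ := List.mem_map.1 hx
          exact ht e he
        exact ⟨l.map t, hmap, hu', List.Nodup.of_map (phi π) (hmap.symm ▸ hl.nd), by simpa using hl.len,
          fun x hx => (hu' x hx).1, fun x hx y hy => (M.comm (hu' x hx) (hu' y hy)).1
            (hl.comm _ (hmap ▸ List.mem_map_of_mem hx) _ (hmap ▸ List.mem_map_of_mem hy)),
          (hu _ hu' (hmap.symm ▸ hl)).2 (hmap.symm ▸ hlk)⟩
      obtain ⟨u, hmu, hud, hur⟩ := lift hr hlk
      obtain ⟨u', hmu', hud', hur'⟩ := lift hr' hlk'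
      -- the three common points
      have pts : ∀ r : Fin 3 → F, r ≠ 0 → ∃ T, USix.IsTvAt (USix.planeVec r) T := fun r hr =>
        USix.exists_tvAt hF (fun h => hr (funext fun j => by
          fin_cases j
          exacts [congrFun h 0, congrFun h 2, congrFun h 4])) (USix.herm_planeVec hF r r)
      obtain ⟨T₀, hT₀⟩ := pts ![1, 0, 0] fun h => one_ne_zero (congrFun h 0)
      obtain ⟨T₁, hT₁⟩ := pts ![0, 1, 0] fun h => one_ne_zero (congrFun h 1)
      obtain ⟨T₂, hT₂⟩ := pts ![0, 0, 1] fun h => one_ne_zero (congrFun h 2)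
      have o0 : ∀ {k : F}, (QuotientGroup.mk T₀ : Cfsg.PSU 6 F 2) ∈ USix.ovalSet k :=
        ⟨_, T₀, Or.inl rfl, hT₀, rfl⟩
      have o1 : ∀ {k : F}, (QuotientGroup.mk T₁ : Cfsg.PSU 6 F 2) ∈ USix.ovalSet k :=
        ⟨_, T₁, Or.inr (Or.inl rfl), hT₁, rfl⟩
      have o2 : ∀ {k : F}, (QuotientGroup.mk T₂ : Cfsg.PSU 6 F 2) ∈ USix.ovalSet k :=
        ⟨_, T₂, Or.inr (Or.inr (Or.inl rfl)), hT₂, rfl⟩
      have n01 : (QuotientGroup.mk T₀ : Cfsg.PSU 6 F 2) ≠ QuotientGroup.mk T₁ := fun e => by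
        obtain ⟨c, -, hc⟩ := (hT.mk_eq_iff hF hT₀ hT₁).1 e
        simpa [USix.planeVec] using congrFun hc 2
      have n02 : (QuotientGroup.mk T₀ : Cfsg.PSU 6 F 2) ≠ QuotientGroup.mk T₂ := fun e => by
        obtain ⟨c, -, hc⟩ := (hT.mk_eq_iff hF hT₀ hT₂).1 e
        simpa [USix.planeVec] using congrFun hc 4
      have n12 : (QuotientGroup.mk T₁ : Cfsg.PSU 6 F 2) ≠ QuotientGroup.mk T₂ := fun e => by
        obtain ⟨c, -, hc⟩ := (hT.mk_eq_iff hF hT₁ hT₂).1 e
        simpa [USix.planeVec] using congrFun hc 4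
      have pull : ∀ {T : Cfsg.PSU 6 F 2}, (∀ {a : F}, T ∈ USix.ovalSet a) →
          ∃ p, p ∈ u ∧ p ∈ u' ∧ phi π p = T := by
        intro T hTk
        obtain ⟨p, hp, hpe⟩ := List.mem_map.1 (hmu.symm ▸ (hlo T).2 hTk : T ∈ u.map (phi π))
        obtain ⟨p', hp', hpe'⟩ := List.mem_map.1 (hmu'.symm ▸ (hlo' T).2 hTk : T ∈ u'.map (phi π))
        refine ⟨p, hp, ?_, hpe⟩
        rw [M.inj (hud p hp) (hud' p' hp') (hpe.trans hpe'.symm)]
        exact hp'
      obtain ⟨p, hp₁, hp₂, hpe⟩ := pull @o0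
      obtain ⟨q, hq₁, hq₂, hqe⟩ := pull @o1
      obtain ⟨r, hr₁, hr₂, hre⟩ := pull @o2
      have hs := share_three hF hT S hur hur' hp₁ hq₁ hr₁ hp₂ hq₂ hr₂
        (fun e => n01 (by rw [← hpe, ← hqe, e])) (fun e => n02 (by rw [← hpe, ← hre, e]))
        (fun e => n12 (by rw [← hqe, ← hre, e]))
      refine (USix.ovalSet_inj hF hT hk fun x hx => (hlo' x).1 ?_).symm
      obtain ⟨y, hy, rfl⟩ := List.mem_map.1 (hmu.symm ▸ (hlo x).2 hx : x ∈ u.map (phi π))
      exact hmu' ▸ List.mem_map_of_mem (hs hy)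
    intro m hm a b ha hb h₁ h₂
    have hc : k / a ≠ 0 := div_ne_zero hk ha
    obtain ⟨ψ, hψ, hψb, hψk⟩ := exists_classMap hF hF hT hT (RingEquiv.refl F) hc
    have h₁' := (hψk a ha m).2 h₁
    have h₂' := (hψk b hb m).2 h₂
    rw [RingEquiv.refl_apply, hback ha] at h₁'
    rw [RingEquiv.refl_apply] at h₂'
    have h := key _ (hm.map ψ hψ.injective hψb.mapsTo) _ (mul_ne_zero hc hb) h₁' h₂'
    rw [div_mul_eq_mul_div, div_eq_iff ha] at h
    exact (mul_left_cancel₀ hk h).symm
  · obtain ⟨ψ, hψ, hψb, hψk⟩ := exists_classMap hF hF hT hT (RingEquiv.refl F) (div_ne_zero ha hk)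
    refine ⟨_, hm₀.map ψ hψ.injective hψb.mapsTo, ?_⟩
    have h := (hψk k hk _).2 hk₀
    rwa [RingEquiv.refl_apply, div_mul_cancel₀ a hk] at h

/-- A field element which is neither zero nor one. -/
theorem exists_third (hF : Fintype.card F = 2 ^ 2) : ∃ w : F, w ≠ 0 ∧ w ≠ 1 := by
  obtain ⟨w, h0, h1, -⟩ := USix.exists_omega hF
  exact ⟨w, h0, h1⟩

/-- An automorphism fixing a member and all members commuting with it, and a far member, is the identity. -/
theorem auto_eq_one {v N j μ : ℕ} (hD : Cfsg.IsThreeTranspositionGroup D) (L : Local D v N j μ) {d x : G}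
    (hd : d ∈ D) (hx : x ∈ D) (hdx : ¬ Commute d x) (γ : MulAut G) (hγd : γ d = d)
    (hγ : ∀ y ∈ Dd D d, γ y = y) (hγx : γ x = x) : γ = 1 := by
  have hK : ∀ g ∈ Kc D d, γ g = g := fun g hg => by
    have hle : Kc D d ≤ γ.toMonoidHom.eqLocus (MonoidHom.id G) := by
      refine (Subgroup.closure_le _).2 fun y hy => ?_
      rcases cD_cases hy.1 hy.2 with rfl | h
      exacts [hγd, hγ y h]
    exact hle hg
  have hall : Set.EqOn γ.toMonoidHom (MonoidHom.id G) D := fun y hy => by
    by_cases h : Commute d y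
    · rcases cD_cases hy h with rfl | h'
      exacts [hγd, hγ y h']
    · obtain ⟨g, hg, rfl⟩ := L.farT d hd x hx y hy hdx h
      show γ (g * x * g⁻¹) = g * x * g⁻¹
      rw [map_mul, map_mul, map_inv, hK g (L.stab d hd g hg), hγx]
  exact MulEquiv.ext fun g => DFunLike.congr_fun (MonoidHom.eq_of_eqOn_dense hD.2.2 hall) g

/-- All automorphisms preserve the class. -/
theorem mapsTo22 (hD : Cfsg.IsThreeTranspositionGroup D) (hprim : Cfsg.IsPrimitiveUnderConj D)
    (h : Cfsg.IsOfTypeM22 G D) (α : MulAut G) {x : G} (hx : x ∈ D) : α x ∈ D := by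
  refine (unique22 hD hprim h (α x) ⟨by rw [← map_mul, mul_self hD.1 hx, map_one], fun g => ?_⟩).resolve_left
    fun e => ne_one hD.1 hx ((map_eq_one_iff α α.injective).1 e)
  obtain ⟨g', rfl⟩ := α.surjective g
  rw [← map_inv, ← map_mul, ← map_mul, ← map_mul, ← map_pow, ← map_pow,
    map_eq_one_iff α α.injective, map_eq_one_iff α α.injective]
  exact hD.1.2 x hx _ (hD.2.1 g' x hx)

theorem mapsTo_Dd (hD : Cfsg.IsThreeTranspositionGroup D) (hprim : Cfsg.IsPrimitiveUnderConj D)
    (h : Cfsg.IsOfTypeM22 G D) (α : MulAut G) {d : G} (hα : α d = d) {y : G} (hy : y ∈ Dd D d) :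
    α y ∈ Dd D d :=
  ⟨mapsTo22 hD hprim h α hy.1, fun e => hy.2.1 (α.injective (e.trans hα.symm)), hα ▸ hy.2.2.map α⟩

theorem apply_mem_Hd (hD : Cfsg.IsThreeTranspositionGroup D) (hprim : Cfsg.IsPrimitiveUnderConj D)
    (h : Cfsg.IsOfTypeM22 G D) (α : MulAut G) {d : G} (hα : α d = d) {g : G} (hg : g ∈ Hd D d) :
    α g ∈ Hd D d :=
  (Subgroup.closure_le (K := (Hd D d).comap α.toMonoidHom)).2
    (fun _ hy => Subgroup.subset_closure (mapsTo_Dd hD hprim h α hα hy)) hg

/-- The quotient at `d` acted upon by the automorphisms fixing `d`. -/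
theorem exists_restrict (hD : Cfsg.IsThreeTranspositionGroup D) (hprim : Cfsg.IsPrimitiveUnderConj D)
    (h : Cfsg.IsOfTypeM22 G D) {Y : Type*} [Group Y] {E : Set Y} {d : G} {π : Hd D d →* Y}
    (M : Model D d E π) :
    ∃ ρ : MulAction.stabilizer (MulAut G) d →* MulAut Y,
      ∀ α : MulAction.stabilizer (MulAut G) d, ∀ y ∈ Dd D d,
        (α : MulAut G) y ∈ Dd D d ∧ phi π ((α : MulAut G) y) = ρ α (phi π y) := by
  have hsurj := M.base.surj
  have fixd : ∀ α : MulAction.stabilizer (MulAut G) d, (α : MulAut G) d = d := fun α =>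
    MulAction.mem_stabilizer_iff.1 α.2
  let res : MulAction.stabilizer (MulAut G) d → Hd D d → Hd D d := fun α g =>
    ⟨(α : MulAut G) g, apply_mem_Hd hD hprim h _ (fixd α) g.2⟩
  let t : MulAction.stabilizer (MulAut G) d → (Hd D d →* Y) := fun α =>
    π.comp { toFun := res α, map_one' := Subtype.ext (map_one (α : MulAut G)),
             map_mul' := fun a b => Subtype.ext (map_mul (α : MulAut G) (a : G) b) }
  have hker : ∀ α, π.ker ≤ (t α).ker := by
    intro α g hg
    rw [MonoidHom.mem_ker] at hg ⊢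
    show π (res α g) = 1
    rw [M.base.map_eq_one_iff']
    intro z hz
    obtain ⟨z', rfl⟩ := (α : MulAut G).surjective z
    have hz' : z' ∈ Dd D d := by
      have := mapsTo_Dd hD hprim h (α : MulAut G)⁻¹ (by
        rw [MulAut.inv_apply, MulEquiv.symm_apply_eq]; exact (fixd α).symm) hz
      simpa using this
    exact ((M.base.map_eq_one_iff' g).1 hg z' hz').map (α : MulAut G)
  let r : MulAction.stabilizer (MulAut G) d → (Y →* Y) := fun α =>
    π.liftOfSurjective hsurj ⟨t α, hker α⟩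
  have hr : ∀ α g, r α (π g) = π (res α g) := fun α g =>
    MonoidHom.liftOfRightInverse_comp_apply π _ _ ⟨t α, hker α⟩ g
  have hmul : ∀ α β y, r (α * β) y = r α (r β y) := fun α β y => by
    obtain ⟨g, rfl⟩ := hsurj y
    rw [hr, hr, hr]
    exact congrArg π (Subtype.ext rfl)
  have hone : ∀ y, r 1 y = y := fun y => by
    obtain ⟨g, rfl⟩ := hsurj y
    rw [hr]
    exact congrArg π (Subtype.ext rfl)
  let ρ : MulAction.stabilizer (MulAut G) d →* MulAut Y :=
    { toFun := fun α =>
        { toFun := r α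
          invFun := r α⁻¹
          left_inv := fun y => by rw [← hmul, inv_mul_cancel, hone]
          right_inv := fun y => by rw [← hmul, mul_inv_cancel, hone]
          map_mul' := map_mul (r α) }
      map_one' := MulEquiv.ext hone
      map_mul' := fun α β => MulEquiv.ext (hmul α β) }
  refine ⟨ρ, fun α y hy => ⟨mapsTo_Dd hD hprim h _ (fixd α) hy, ?_⟩⟩
  have hy' := mapsTo_Dd hD hprim h _ (fixd α) hy
  show phi π ((α : MulAut G) y) = r α (phi π y)
  rw [phi_of_mem π (x := ⟨y, Subgroup.subset_closure hy⟩) hy, hr,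
    ← phi_of_mem π (x := res α ⟨y, Subgroup.subset_closure hy⟩) hy']

end Group

section Count

variable {G : Type*} [Group G] [Finite G] {D : Set G}

/-- The order of the automorphism group in type M(22). -/
theorem card_mulAut22 (hD : Cfsg.IsThreeTranspositionGroup D) (hprim : Cfsg.IsPrimitiveUnderConj D)
    (h : Cfsg.IsOfTypeM22 G D) :
    Nat.card (MulAut G) = 2 * Nat.card G ∧ ∃ α : MulAut G, α ∉ (MulAut.conj : G →* MulAut G).range := by
  classical
  obtain ⟨d, c, F, _, _, π₀, hB, hcD, hdc, hloc, -, hF⟩ := bottom22 hD h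
  have S := stage_of_base hD hprim h.1 hloc hB rfl
  have hT : USix.TClass (imgSet D d π₀) :=
    ⟨hloc.group.1, hloc.group.2.1, hloc.rigid.nonabelian.imp fun _ h => h.1⟩
  have hd := hB.mem
  obtain ⟨π, M⟩ := S.base d hd
  obtain ⟨k, hk, hu⟩ := class22 hF hT S hd M
  obtain ⟨excl, exsix⟩ := class_excl hF hT S hd M
  have L := local22 hD hprim h
  obtain ⟨w, hw0, hw1⟩ := exists_third (F := F) hF
  have hinjc : Function.Injective (MulAut.conj : G →* MulAut G) := by
    rw [← MonoidHom.ker_eq_bot_iff]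
    refine le_bot_iff.1 fun g hg => ?_
    rw [← h.1, Subgroup.mem_center_iff]
    intro y
    have := DFunLike.congr_fun (MonoidHom.mem_ker.1 hg) y
    simp only [MulAut.conj_apply, MulAut.one_apply] at this
    exact (mul_inv_eq_iff_eq_mul.1 this).symm
  -- an outer automorphism
  have hout : ∃ α : MulAut G, α ∉ (MulAut.conj : G →* MulAut G).range := by
    obtain ⟨σ, hσ⟩ := exists_square_auto hF
    have hσk : σ k ≠ 0 := (map_ne_zero σ).2 hk
    obtain ⟨ψ, hψ, hψb, hψk⟩ := exists_classMap hF hF hT hT σ (div_ne_zero hk hσk)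
    have hkk : k / σ k * σ k = k := div_mul_cancel₀ _ hσk
    obtain ⟨f, hf, hfe⟩ := exists_match S S M M ψ hψ.injective hψb (j := 5)
      ((good22 hD h).rel 5 le_rfl (by norm_num)) ((good22 hD h).rel 5 le_rfl (by norm_num))
      fun u v hu' hv hm hmap => by
        have hm₂ : IsRel (imgSet D d π₀) 6 (v.map (phi π)) := hmap ▸ hm.map ψ hψ.injective hψb.mapsTo
        rw [hu u hu' hm, hu v hv hm₂, hmap, ← hψk k hk, hkk]
    obtain ⟨e, he, -⟩ := iso22 hD hprim h hD hprim h hf
    refine ⟨e, ?_⟩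
    rintro ⟨g, hg⟩
    have happ : ∀ a ∈ insert d (Dd D d), g * a * g⁻¹ = f a := fun a ha => by
      rw [← he a ha, ← hg]; rfl
    have hgd : Commute g d := by
      have := happ d (Set.mem_insert _ _)
      rw [hf.base] at this
      exact mul_inv_eq_iff_eq_mul.1 this
    have hgH : g ∈ Hd D d := by
      refine (Subgroup.closure_le _).2 (fun y hy => ?_) (L.stab d hd g hgd)
      rcases cD_cases hy.1 hy.2 with e' | h'
      exacts [e' ▸ ((main22 hD hprim h).2 d hd).1, Subgroup.subset_closure h']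
    obtain ⟨m, hm, hmk⟩ := exsix (k * w) (mul_ne_zero hk hw0)
    have heq : m.map ψ = m.map (MulAut.conj (π ⟨g, hgH⟩)).toMonoidHom := by
      refine List.map_congr_left fun y hy => ?_
      obtain ⟨x, hx, rfl⟩ := M.onto (hm.mem y hy)
      have h1 := M.phi_conj ⟨g, hgH⟩ hx
      show ψ (phi π x) = π ⟨g, hgH⟩ * phi π x * (π ⟨g, hgH⟩)⁻¹
      rw [← h1, ← hfe x hx]
      exact congrArg (phi π) (happ x (Set.mem_insert_of_mem _ hx)).symm
    have h1 := (hψk (k * w) (mul_ne_zero hk hw0) m).2 hmk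
    have h2 := excl _ (hm.map ψ hψ.injective hψb.mapsTo) _ _
      (mul_ne_zero (div_ne_zero hk hσk) ((map_ne_zero σ).2 (mul_ne_zero hk hw0))) (mul_ne_zero hk hw0)
      h1 (heq ▸ hmk.conj _)
    rw [map_mul, ← mul_assoc, hkk] at h2
    have h3 := mul_left_cancel₀ hk h2
    rw [hσ, sq] at h3
    exact hw1 (mul_left_cancel₀ hw0 (h3.trans (mul_one w).symm))
  refine ⟨?_, hout⟩
  -- the upper bound
  obtain ⟨ρ, hρ⟩ := exists_restrict hD hprim h M
  have hρk : ∀ α, ∀ m, IsRel (imgSet D d π₀) 6 m → InClass k m →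
      IsRel (imgSet D d π₀) 6 (m.map (ρ α).toMonoidHom) ∧ InClass k (m.map (ρ α).toMonoidHom) := by
    intro α m hm hmk
    have hmaps : Set.MapsTo (ρ α).toMonoidHom (imgSet D d π₀) (imgSet D d π₀) := fun y hy => by
      obtain ⟨x, hx, rfl⟩ := M.onto hy
      show ρ α (phi π x) ∈ _
      rw [← (hρ α x hx).2]
      exact M.mem (hρ α x hx).1
    have hm' := hm.map (ρ α).toMonoidHom (ρ α).injective hmaps
    refine ⟨hm', ?_⟩
    have pick : ∀ e ∈ m, ∃ x ∈ Dd D d, phi π x = e := fun e he => M.onto (hm.mem e he)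
    choose! t ht hte using pick
    have hmap : (m.map t).map (phi π) = m := by
      rw [List.map_map]
      exact (List.map_congr_left fun e he => hte e he).trans (List.map_id _)
    have hu' : ∀ x ∈ m.map t, x ∈ Dd D d := fun x hx => by
      obtain ⟨e, he, rfl⟩ := List.mem_map.1 hx
      exact ht e he
    have hp := (hu _ hu' (hmap.symm ▸ hm)).2 (hmap.symm ▸ hmk)
    have hmap' : ((m.map t).map (α : MulAut G).toMonoidHom).map (phi π) = m.map (ρ α).toMonoidHom := by
      rw [List.map_map, List.map_map]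
      refine List.map_congr_left fun e he => ?_
      show phi π ((α : MulAut G) (t e)) = ρ α e
      rw [(hρ α _ (ht e he)).2, hte e he]
    rw [← hmap']
    refine (hu _ (fun x hx => ?_) (hmap'.symm ▸ hm')).1 (by rw [← map_list_prod, hp, map_one])
    obtain ⟨y, hy, rfl⟩ := List.mem_map.1 hx
    exact (hρ α y (hu' y hy)).1
  have hindex : 3 ≤ ρ.range.index := by
    obtain ⟨ψ, hψ, hψb, hψk⟩ := exists_classMap hF hF hT hT (RingEquiv.refl F) hw0
    obtain ⟨m, hm, hmk⟩ := exsix k hk
    let Ψ : MulAut (Cfsg.PSU 6 F 2) := MulEquiv.ofBijective ψ hψ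
    have iter : ∀ (n : ℕ) (m), IsRel (imgSet D d π₀) 6 m → ∀ a : F, a ≠ 0 → InClass a m →
        IsRel (imgSet D d π₀) 6 (m.map (Ψ ^ n).toMonoidHom) ∧
          InClass (w ^ n * a) (m.map (Ψ ^ n).toMonoidHom) := by
      intro n
      induction n with
      | zero =>
        intro m hm a _ hma
        have e : m.map (Ψ ^ 0).toMonoidHom = m := (List.map_congr_left fun x _ => by simp).trans (List.map_id _)
        rw [e, pow_zero, one_mul]
        exact ⟨hm, hma⟩
      | succ n ih =>
        intro m hm a ha hma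
        have h1 := (hψk a ha m).2 hma
        rw [RingEquiv.refl_apply] at h1
        have h2 := ih _ (hm.map ψ hψ.injective hψb.mapsTo) _ (mul_ne_zero hw0 ha) h1
        have e : (m.map ψ).map (Ψ ^ n).toMonoidHom = m.map (Ψ ^ (n + 1)).toMonoidHom := by
          rw [List.map_map, pow_succ]
          rfl
        rw [e, ← mul_assoc, ← pow_succ] at h2
        exact h2
    have notin : ∀ n, w ^ n ≠ 1 → Ψ ^ n ∉ ρ.range := by
      rintro n hn ⟨α, hα⟩
      obtain ⟨hm', hk'⟩ := iter n m hm k hk hmk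
      have h2 := (hρk α m hm hmk).2
      rw [hα] at h2
      exact hn (mul_right_cancel₀ hk ((excl _ hm' _ _ (mul_ne_zero (pow_ne_zero n hw0) hk) hk hk' h2).trans
        (one_mul k).symm))
    have hw2 : w ^ 2 ≠ 1 := fun e => hw1 (by
      have := USix.cube_eq_one hF hw0
      rw [pow_succ, e, one_mul] at this
      exact this)
    have key : Function.Injective fun i : Fin 3 => ((Ψ ^ (i : ℕ) : MulAut _) : MulAut (Cfsg.PSU 6 F 2) ⧸ ρ.range) := by
      intro i j hij
      have hij' := QuotientGroup.eq.1 hij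
      wlog hle : (i : ℕ) ≤ j generalizing i j
      · exact (this hij.symm (QuotientGroup.eq.1 hij.symm) (le_of_not_ge hle)).symm
      obtain ⟨n, hn⟩ := Nat.exists_eq_add_of_le hle
      rw [hn, pow_add, inv_mul_cancel_left] at hij'
      have : n = 0 := by
        by_contra hne
        have : n ≤ 2 := by omega
        interval_cases n
        · exact notin 0 (absurd rfl hne) hij'
        · exact notin 1 (by rwa [pow_one]) hij'
        · exact notin 2 hw2 hij'
      exact Fin.ext (by omega)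
    have := Nat.card_le_card_of_injective _ key
    simpa [Subgroup.index] using this
  have hAutY : Nat.card (MulAut (Cfsg.PSU 6 F 2)) = 6 * 9196830720 := by
    haveI : Fact (Nat.Prime 2) := ⟨Nat.prime_two⟩
    have h2' := CfsgLib.FieldGalois.card_ringAut (F := F) (p := 2) (f := 2) hF
    have h' := CfsgLib.AutPSU.card_mulAut (F := F) (q := 2) (m := 4) hF (by norm_num) (by norm_num)
    change Nat.card (MulAut (Cfsg.PSU 6 F 2)) = _ at h'
    rw [h', show Nat.card (CfsgLib.AutPSU.PSUG (4 + 2) F 2) = 9196830720 from card_psu_six hF, h2']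
    norm_num
  have hrange : 3 * Nat.card ρ.range ≤ 6 * 9196830720 := by
    rw [← hAutY, ← ρ.range.card_mul_index, mul_comm]
    exact Nat.mul_le_mul_left _ hindex
  have hkerle : Nat.card ρ.ker ≤ 2 := by
    let φ : ρ.ker → ({c, d * c * d} : Set G) := fun α => ⟨((α : MulAction.stabilizer (MulAut G) d) : MulAut G) c, by
      set a : MulAut G := ((α : MulAction.stabilizer (MulAut G) d) : MulAut G) with ha
      have had : a d = d := MulAction.mem_stabilizer_iff.1 α.1.2
      have hfix : ∀ y ∈ Dd D d, a y = y := fun y hy => by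
        obtain ⟨h1, h2⟩ := hρ α.1 y hy
        rw [MonoidHom.mem_ker.1 α.2, MulAut.one_apply] at h2
        exact M.inj h1 hy h2
      refine L.farTwins d hd c hcD _ (mapsTo22 hD hprim h a hcD) hdc (fun e => hdc ?_) fun u hu => ?_
      · have h2 := e.map a.symm
        rwa [MulEquiv.symm_apply_apply, a.symm_apply_eq.2 had.symm] at h2
      · have h2 : Commute (a c) (a u) ↔ Commute c u :=
          ⟨fun k => a.injective (by rw [map_mul, map_mul]; exact k.eq), fun k => k.map a⟩
        rw [← h2, hfix u hu]⟩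
    have hφ : Function.Injective φ := by
      intro α β e
      have e' : ((α : MulAction.stabilizer (MulAut G) d) : MulAut G) c =
          ((β : MulAction.stabilizer (MulAut G) d) : MulAut G) c := congrArg Subtype.val e
      have hfix : ∀ (γ : ρ.ker), ∀ y ∈ Dd D d, ((γ : MulAction.stabilizer (MulAut G) d) : MulAut G) y = y :=
        fun γ y hy => by
          obtain ⟨h1, h2⟩ := hρ γ.1 y hy
          rw [MonoidHom.mem_ker.1 γ.2, MulAut.one_apply] at h2
          exact M.inj h1 hy h2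
      have h1 := auto_eq_one hD L hd hcD hdc
        ((((β⁻¹ * α : ρ.ker) : MulAction.stabilizer (MulAut G) d) : MulAut G))
        (MulAction.mem_stabilizer_iff.1 (β⁻¹ * α : ρ.ker).1.2) (fun y hy => hfix _ y hy) (by
          simp only [Subgroup.coe_mul, Subgroup.coe_inv, MulAut.mul_apply, MulAut.inv_apply]
          rw [e', MulEquiv.symm_apply_apply])
      exact (inv_mul_eq_one.1 (Subtype.ext (Subtype.ext h1) : β⁻¹ * α = 1)).symm
    refine (Nat.card_le_card_of_injective φ hφ).trans ?_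
    rw [Nat.card_coe_set_eq]
    exact (Set.ncard_insert_le _ _).trans (by rw [Set.ncard_singleton])
  have hstab : Nat.card (MulAction.stabilizer (MulAut G) d) ≤ 2 * (2 * 9196830720) := by
    rw [← ρ.ker.card_mul_index, Subgroup.index_ker]
    calc Nat.card ρ.ker * Nat.card ρ.range ≤ 2 * Nat.card ρ.range := Nat.mul_le_mul_right _ hkerle
      _ ≤ 2 * (2 * 9196830720) := Nat.mul_le_mul_left _ (by omega)
  have horb : Nat.card (MulAction.orbit (MulAut G) d) ≤ 3510 := by
    rw [← L.card, Nat.card_coe_set_eq]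
    exact Set.ncard_le_ncard (by rintro _ ⟨α, rfl⟩; exact mapsTo22 hD hprim h α hd) (Set.toFinite D)
  have hG := (orders22 hD hprim h).2
  have hle : Nat.card (MulAut G) ≤ 2 * Nat.card G := by
    have hprod := Nat.card_congr (MulAction.orbitProdStabilizerEquivGroup (MulAut G) d)
    rw [Nat.card_prod] at hprod
    rw [← hprod, hG]
    exact (Nat.mul_le_mul horb hstab).trans (by norm_num)
  have hinn : Nat.card (MulAut.conj : G →* MulAut G).range = Nat.card G :=
    (Nat.card_congr (MonoidHom.ofInjective hinjc).toEquiv).symm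
  have hdiv := (MulAut.conj : G →* MulAut G).range.card_mul_index
  have hne : (MulAut.conj : G →* MulAut G).range.index ≠ 1 := fun e => by
    obtain ⟨α, hα⟩ := hout
    exact hα (Subgroup.index_eq_one.1 e ▸ Subgroup.mem_top α)
  have hpos : (MulAut.conj : G →* MulAut G).range.index ≠ 0 := Subgroup.index_ne_zero_of_finite
  rw [hinn] at hdiv
  have hGpos : 0 < Nat.card G := Nat.card_pos
  have : (MulAut.conj : G →* MulAut G).range.index ≤ 2 :=
    Nat.le_of_mul_le_mul_left (by rw [hdiv, mul_comm]; exact hle) hGpos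
  rw [← hdiv, show (MulAut.conj : G →* MulAut G).range.index = 2 by omega, mul_comm]

/-- The outer automorphism group in type M(22) has order two. -/
theorem card_out22 (hD : Cfsg.IsThreeTranspositionGroup D) (hprim : Cfsg.IsPrimitiveUnderConj D)
    (h : Cfsg.IsOfTypeM22 G D) : (MulAut.conj : G →* MulAut G).range.index = 2 := by
  obtain ⟨h1, -⟩ := card_mulAut22 hD hprim h
  have hinjc : Function.Injective (MulAut.conj : G →* MulAut G) := by
    rw [← MonoidHom.ker_eq_bot_iff]
    refine le_bot_iff.1 fun g hg => ?_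
    rw [← h.1, Subgroup.mem_center_iff]
    intro y
    have := DFunLike.congr_fun (MonoidHom.mem_ker.1 hg) y
    simp only [MulAut.conj_apply, MulAut.one_apply] at this
    exact (mul_inv_eq_iff_eq_mul.1 this).symm
  have hdiv := (MulAut.conj : G →* MulAut G).range.card_mul_index
  rw [← Nat.card_congr (MonoidHom.ofInjective hinjc).toEquiv, h1, mul_comm 2] at hdiv
  exact Nat.eq_of_mul_eq_mul_left Nat.card_pos hdiv

end Count

end CfsgLib.ThreeTrans.Uniq
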