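import Mathlib
import Cfsg.Agent.Lib.ThreeTrans.Uniq.AutTop22
import Cfsg.Agent.Lib.ThreeTrans.Torsion.TypeTwentyThree
import Cfsg.Agent.Lib.ThreeTrans.Tower.UniqueTypes

/-! In type M(23) every automorphism is inner. -/

set_option autoImplicit false

namespace CfsgLib.ThreeTrans.Uniq

open CfsgLib.ThreeTrans CfsgLib.ThreeTrans.Tower CfsgLib.ThreeTrans.TypeTop

variable {G : Type*} [Group G] [Finite G] {D : Set G}

/-- All automorphisms preserve the class. -/
theorem mapsTo23 (hD : Cfsg.IsThreeTranspositionGroup D) (hprim : Cfsg.IsPrimitiveUnderConj D)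
    (h : Cfsg.IsOfTypeM23 G D) (α : MulAut G) {x : G} (hx : x ∈ D) : α x ∈ D := by
  refine (unique23 hD hprim h (α x) ⟨by rw [← map_mul, mul_self hD.1 hx, map_one], fun g => ?_⟩).resolve_left
    fun e => ne_one hD.1 hx ((map_eq_one_iff α α.injective).1 e)
  obtain ⟨g', rfl⟩ := α.surjective g
  rw [← map_inv, ← map_mul, ← map_mul, ← map_mul, ← map_pow, ← map_pow,
    map_eq_one_iff α α.injective, map_eq_one_iff α α.injective]
  exact hD.1.2 x hx _ (hD.2.1 g' x hx)

theorem mapsDd (hmap : ∀ α : MulAut G, ∀ x ∈ D, α x ∈ D) (α : MulAut G) {d : G} (hα : α d = d) {y : G}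
    (hy : y ∈ Dd D d) : α y ∈ Dd D d :=
  ⟨hmap α y hy.1, fun e => hy.2.1 (α.injective (e.trans hα.symm)), hα ▸ hy.2.2.map α⟩

theorem applyHd (hmap : ∀ α : MulAut G, ∀ x ∈ D, α x ∈ D) (α : MulAut G) {d : G} (hα : α d = d) {g : G}
    (hg : g ∈ Hd D d) : α g ∈ Hd D d :=
  (Subgroup.closure_le (K := (Hd D d).comap α.toMonoidHom)).2
    (fun _ hy => Subgroup.subset_closure (mapsDd hmap α hα hy)) hg

/-- The quotient at `d` acted upon by the automorphisms fixing `d`. -/
theorem exists_restrict_of_mapsTo (hmap : ∀ α : MulAut G, ∀ x ∈ D, α x ∈ D) {Y : Type*} [Group Y] {E : Set Y} {d : G} {π : Hd D d →* Y}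
    (M : Model D d E π) :
    ∃ ρ : MulAction.stabilizer (MulAut G) d →* MulAut Y,
      ∀ α : MulAction.stabilizer (MulAut G) d, ∀ y ∈ Dd D d,
        (α : MulAut G) y ∈ Dd D d ∧ phi π ((α : MulAut G) y) = ρ α (phi π y) := by
  have hsurj := M.base.surj
  have fixd : ∀ α : MulAction.stabilizer (MulAut G) d, (α : MulAut G) d = d := fun α =>
    MulAction.mem_stabilizer_iff.1 α.2
  let res : MulAction.stabilizer (MulAut G) d → Hd D d → Hd D d := fun α g =>
    ⟨(α : MulAut G) g, applyHd hmap _ (fixd α) g.2⟩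
  let t : MulAction.stabilizer (MulAut G) d → (Hd D d →* Y) := fun α =>
    π.comp { toFun := res α, map_one' := Subtype.ext (map_one (α : MulAut G)),
             map_mul' := fun a b => Subtype.ext (map_mul (α : MulAut G) (a : G) b) }
  have hker : ∀ α, π.ker ≤ (t α).ker := by
    intro α g hg
    rw [MonoidHom.mem_ker] at hg ⊢
    show π (res α g) = 1
    rw [M.base.map_eq_one_iff']
    intro z hz
    obtain ⟨z', rfl⟩ := (α : MulAut G).surjective z
    have hz' : z' ∈ Dd D d := by
      have := mapsDd hmap (α : MulAut G)⁻¹ (by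
        rw [MulAut.inv_apply, MulEquiv.symm_apply_eq]; exact (fixd α).symm) hz
      simpa using this
    exact ((M.base.map_eq_one_iff' g).1 hg z' hz').map (α : MulAut G)
  let r : MulAction.stabilizer (MulAut G) d → (Y →* Y) := fun α =>
    π.liftOfSurjective hsurj ⟨t α, hker α⟩
  have hr : ∀ α g, r α (π g) = π (res α g) := fun α g =>
    MonoidHom.liftOfRightInverse_comp_apply π _ _ ⟨t α, hker α⟩ g
  have hmul : ∀ α β y, r (α * β) y = r α (r β y) := fun α β y => by
    obtain ⟨g, rfl⟩ := hsurj y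
    rw [hr, hr, hr]
    exact congrArg π (Subtype.ext rfl)
  have hone : ∀ y, r 1 y = y := fun y => by
    obtain ⟨g, rfl⟩ := hsurj y
    rw [hr]
    exact congrArg π (Subtype.ext rfl)
  let ρ : MulAction.stabilizer (MulAut G) d →* MulAut Y :=
    { toFun := fun α =>
        { toFun := r α
          invFun := r α⁻¹
          left_inv := fun y => by rw [← hmul, inv_mul_cancel, hone]
          right_inv := fun y => by rw [← hmul, mul_inv_cancel, hone]
          map_mul' := map_mul (r α) }
      map_one' := MulEquiv.ext hone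
      map_mul' := fun α β => MulEquiv.ext (hmul α β) }
  refine ⟨ρ, fun α y hy => ⟨mapsDd hmap _ (fixd α) hy, ?_⟩⟩
  have hy' := mapsDd hmap _ (fixd α) hy
  show phi π ((α : MulAut G) y) = r α (phi π y)
  rw [phi_of_mem π (x := ⟨y, Subgroup.subset_closure hy⟩) hy, hr,
    ← phi_of_mem π (x := res α ⟨y, Subgroup.subset_closure hy⟩) hy']

/-- In type M(23) the inner automorphisms are all automorphisms. -/
theorem card_out23 (hD : Cfsg.IsThreeTranspositionGroup D) (hprim : Cfsg.IsPrimitiveUnderConj D)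
    (h : Cfsg.IsOfTypeM23 G D) : (MulAut.conj : G →* MulAut G).range.index = 1 := by
  classical
  obtain ⟨d, c, hcD, hdc, hB, t, -⟩ := bottom23 hD h
  have q := prim22 hD hprim hB t
  have S := stage_of_base hD hprim h.1 (local22 hB.img_group q t) hB rfl
  obtain ⟨g₀, y₀, F, _, _, π₀, hB', -, -, hloc, -, hF⟩ := bottom22 hB.img_group t
  have S' := stage_of_base hB.img_group q t.1 hloc hB' rfl
  have hT := (⟨hloc.group.1, hloc.group.2.1, hloc.rigid.nonabelian.imp fun _ h => h.1⟩ : USix.TClass _)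
  have hno : NoRel D 6 := (good23 hD h).rel 6 le_rfl (by norm_num)
  have L := local23 hD hprim h
  have hd := hB.mem
  obtain ⟨r, hr⟩ := Set.nonempty_of_ncard_ne_zero (s := Dd D d) (by rw [S.deg hd]; norm_num)
  obtain ⟨π, M⟩ := S.base d hd
  obtain ⟨ρ, N⟩ := S'.base (phi π r) (M.mem hr)
  obtain ⟨a, ha, hua, wa, wam, war, wap⟩ := class23 hF hT S S' hno hr M N (Or.inl rfl : d = d ∨ _)
  obtain ⟨b, hb, hub, wb, wbm, wbr, wbp⟩ := class23 hF hT S S' hno hr M N (Or.inr rfl : r = d ∨ _)
  have hab : a ≠ b := fun e => hr.2.1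
    (((hub wa wam war).2 (e ▸ (hua wa wam war).1 wap)).symm.trans wap)
  obtain ⟨excl, -⟩ := class_excl hF hT S' (M.mem hr) N
  -- an automorphism one level down
  obtain ⟨k, hk, hu⟩ := class22 hF hT S' (M.mem hr) N
  obtain ⟨σ, hσ⟩ := exists_square_auto hF
  have hσk : σ k ≠ 0 := (map_ne_zero σ).2 hk
  have hkk : k / σ k * σ k = k := div_mul_cancel₀ _ hσk
  obtain ⟨ψ, hψ, hψb, hψk⟩ := exists_classMap hF hF hT hT σ (div_ne_zero hk hσk)
  obtain ⟨f, hf, hfe⟩ := exists_match S' S' N N ψ hψ.injective hψb (j := 5)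
    ((good22 hB.img_group t).rel 5 le_rfl (by norm_num)) ((good22 hB.img_group t).rel 5 le_rfl (by norm_num))
    fun u v hu' hv hm hmap => by
      have hm₂ := hmap ▸ hm.map ψ hψ.injective hψb.mapsTo
      rw [hu u hu' hm, hu v hv hm₂, hmap, ← hψk k hk, hkk]
  obtain ⟨e, he, -⟩ := iso22 hB.img_group q t hB.img_group q t hf
  have her : e (phi π r) = phi π r := (he _ (Set.mem_insert _ _)).trans hf.base
  obtain ⟨R, hR⟩ := exists_restrict_of_mapsTo (fun α x hx => mapsTo23 hD hprim h α hx) M
  have hnot : e ∉ R.range := by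
    rintro ⟨α, hα⟩
    have hrr : (α : MulAut G) r = r := by
      refine M.inj (hR α r hr).1 hr ?_
      rw [(hR α r hr).2, hα, her]
    have hfix : ∀ τ : G, (τ = d ∨ τ = r) → (α : MulAut G) τ = τ := by
      rintro τ (rfl | rfl)
      exacts [MulAction.mem_stabilizer_iff.1 α.2, hrr]
    have himg : ∀ x ∈ Dd D d ∩ Dd D r, (α : MulAut G) x ∈ Dd D d ∩ Dd D r ∧
        phi ρ (phi π ((α : MulAut G) x)) = ψ (phi ρ (phi π x)) := by
      intro x hx
      refine ⟨⟨(hR α x hx.1).1, mapsDd (fun β y hy => mapsTo23 hD hprim h β hy) _ hrr hx.2⟩, ?_⟩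
      have hy := (M.mem_Dd hr hx.1).2 hx.2
      rw [(hR α x hx.1).2, hα, he _ (Set.mem_insert_of_mem _ hy), hfe _ hy]
    have move : ∀ {τ : G} {x : F}, (τ = d ∨ τ = r) → x ≠ 0 →
        (∀ u : List G, (∀ y ∈ u, y ∈ Dd D d ∩ Dd D r) → IsRel (imgSet _ g₀ π₀) 6 (u.map fun y => phi ρ (phi π y)) →
          (u.prod = τ ↔ InClass x (u.map fun y => phi ρ (phi π y)))) →
        ∀ u : List G, (∀ y ∈ u, y ∈ Dd D d ∩ Dd D r) → IsRel (imgSet _ g₀ π₀) 6 (u.map fun y => phi ρ (phi π y)) →
          u.prod = τ → k / σ k * σ x = x := by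
      intro τ x hτ hx hux u hum hur hup
      have hv : ∀ y ∈ u.map (α : MulAut G).toMonoidHom, y ∈ Dd D d ∩ Dd D r := fun y hy => by
        obtain ⟨z, hz, rfl⟩ := List.mem_map.1 hy
        exact (himg z (hum z hz)).1
      have hmap : (u.map (α : MulAut G).toMonoidHom).map (fun y => phi ρ (phi π y)) =
          (u.map fun y => phi ρ (phi π y)).map ψ := by
        rw [List.map_map, List.map_map]
        exact List.map_congr_left fun z hz => (himg z (hum z hz)).2
      have hm' := hur.map ψ hψ.injective hψb.mapsTo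
      have hp' : (u.map (α : MulAut G).toMonoidHom).prod = τ := by
        rw [← map_list_prod, hup]
        exact hfix τ hτ
      have h1 := (hux _ hv (hmap.symm ▸ hm')).1 hp'
      rw [hmap] at h1
      exact excl _ hm' _ _ (mul_ne_zero (div_ne_zero hk hσk) ((map_ne_zero σ).2 hx)) hx
        ((hψk x hx _).2 ((hux u hum hur).1 hup)) h1
    have ea := move (Or.inl rfl) ha hua wa wam war wap
    have eb := move (Or.inr rfl) hb hub wb wbm wbr wbp
    rw [hσ, hσ] at ea eb
    have ea' : k / k ^ 2 * a = 1 := mul_right_cancel₀ ha (by rw [mul_assoc, ← sq, ea, one_mul])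
    have eb' : k / k ^ 2 * b = 1 := mul_right_cancel₀ hb (by rw [mul_assoc, ← sq, eb, one_mul])
    exact hab (mul_left_cancel₀ (div_ne_zero hk (pow_ne_zero 2 hk)) (ea'.trans eb'.symm))
  haveI : Finite (MulAut (Hd D d ⧸ Subgroup.center (Hd D d))) :=
    Finite.of_injective (fun α => (α : Hd D d ⧸ Subgroup.center (Hd D d) → Hd D d ⧸ Subgroup.center (Hd D d)))
      DFunLike.coe_injective
  have hrange : 2 * Nat.card R.range ≤ 2 * 64561751654400 := by
    have h1 := (card_mulAut22 hB.img_group q t).1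
    rw [(orders22 hB.img_group q t).2, ← R.range.card_mul_index] at h1
    have hne : R.range.index ≠ 1 := fun e' => hnot (Subgroup.index_eq_one.1 e' ▸ Subgroup.mem_top e)
    have hne0 : R.range.index ≠ 0 := Subgroup.index_ne_zero_of_finite
    calc 2 * Nat.card R.range = Nat.card R.range * 2 := mul_comm _ _
      _ ≤ Nat.card R.range * R.range.index := Nat.mul_le_mul_left _ (by omega)
      _ = _ := h1
  have hkerle : Nat.card R.ker ≤ 2 := by
    have hfix : ∀ γ : R.ker, ∀ y ∈ Dd D d,
        ((γ : MulAction.stabilizer (MulAut G) d) : MulAut G) y = y := fun γ y hy => by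
      obtain ⟨h1, h2⟩ := hR γ.1 y hy
      rw [MonoidHom.mem_ker.1 γ.2, MulAut.one_apply] at h2
      exact M.inj h1 hy h2
    let φ : R.ker → ({c, d * c * d} : Set G) := fun α => ⟨((α : MulAction.stabilizer (MulAut G) d) : MulAut G) c, by
      set A : MulAut G := ((α : MulAction.stabilizer (MulAut G) d) : MulAut G) with hA
      have had : A d = d := MulAction.mem_stabilizer_iff.1 α.1.2
      refine L.farTwins d hd c hcD _ (mapsTo23 hD hprim h A hcD) hdc (fun e' => hdc ?_) fun u hu => ?_
      · have h2 := e'.map A.symm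
        rwa [MulEquiv.symm_apply_apply, A.symm_apply_eq.2 had.symm] at h2
      · have h2 : Commute (A c) (A u) ↔ Commute c u :=
          ⟨fun k => A.injective (by rw [map_mul, map_mul]; exact k.eq), fun k => k.map A⟩
        rw [← h2, hfix α u hu]⟩
    have hφ : Function.Injective φ := by
      intro α β e'
      have e'' : ((α : MulAction.stabilizer (MulAut G) d) : MulAut G) c =
          ((β : MulAction.stabilizer (MulAut G) d) : MulAut G) c := congrArg Subtype.val e'
      have h1 := auto_eq_one hD L hd hcD hdc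
        ((((β⁻¹ * α : R.ker) : MulAction.stabilizer (MulAut G) d) : MulAut G))
        (MulAction.mem_stabilizer_iff.1 (β⁻¹ * α : R.ker).1.2) (fun y hy => hfix _ y hy) (by
          simp only [Subgroup.coe_mul, Subgroup.coe_inv, MulAut.mul_apply, MulAut.inv_apply]
          rw [e'', MulEquiv.symm_apply_apply])
      exact (inv_mul_eq_one.1 (Subtype.ext (Subtype.ext h1) : β⁻¹ * α = 1)).symm
    refine (Nat.card_le_card_of_injective φ hφ).trans ?_
    rw [Nat.card_coe_set_eq]
    exact (Set.ncard_insert_le _ _).trans (by rw [Set.ncard_singleton])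
  have hstab : Nat.card (MulAction.stabilizer (MulAut G) d) ≤ 129123503308800 := by
    rw [← R.ker.card_mul_index, Subgroup.index_ker]
    calc Nat.card R.ker * Nat.card R.range ≤ 2 * Nat.card R.range := Nat.mul_le_mul_right _ hkerle
      _ ≤ 2 * 64561751654400 := hrange
      _ = _ := by norm_num
  have horb : Nat.card (MulAction.orbit (MulAut G) d) ≤ 31671 := by
    rw [← L.card, Nat.card_coe_set_eq]
    exact Set.ncard_le_ncard (by rintro _ ⟨α, rfl⟩; exact mapsTo23 hD hprim h α hd) (Set.toFinite D)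
  have hle : Nat.card (MulAut G) ≤ Nat.card G := by
    have hprod := Nat.card_congr (MulAction.orbitProdStabilizerEquivGroup (MulAut G) d)
    rw [Nat.card_prod] at hprod
    rw [← hprod, (Torsion.orders23 hD hprim h).2]
    exact (Nat.mul_le_mul horb hstab).trans (by norm_num)
  have hinjc : Function.Injective (MulAut.conj : G →* MulAut G) := by
    rw [← MonoidHom.ker_eq_bot_iff]
    refine le_bot_iff.1 fun g hg => ?_
    rw [← h.1, Subgroup.mem_center_iff]
    intro y
    have := DFunLike.congr_fun (MonoidHom.mem_ker.1 hg) y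
    simp only [MulAut.conj_apply, MulAut.one_apply] at this
    exact (mul_inv_eq_iff_eq_mul.1 this).symm
  rw [Subgroup.index_eq_one]
  exact Subgroup.eq_top_of_le_card _ (by
    rwa [← Nat.card_congr (MonoidHom.ofInjective hinjc).toEquiv])

end CfsgLib.ThreeTrans.Uniq
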